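import Groth.Agent.VarietyA.EllGrp

/-!
# The commutative group law with prescribed origin on a curve of genus one with a rational point
-/

set_option autoImplicit false
universe u
open CategoryTheory CategoryTheory.Limits AlgebraicGeometry MonoidalCategory CartesianMonoidalCategory
open WeierstrassCurve
open scoped WeierstrassCurve.Projective

namespace K485.EllComm

open Groth.Agent.Dix.EllScheme Groth.Agent.VarietyA Groth.Agent.VarietyA.Ell

/-- `Dix.EllZ6.grpObj_of_points` with the origin and commutativity recorded. -/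
theorem commGrpObj_of_points {K : Type u} [Field K] (C : Over (Spec (CommRingCat.of K))) [Smooth C.hom]
    [IsSeparated C.hom]
    (inst : ∀ (F : Type u) [Field F] [Algebra K F],
      AddCommGroup (Over.mk (Spec.map (CommRingCat.ofHom (algebraMap K F))) ⟶ C))
    (star : C ⊗ C ⟶ C) (o : 𝟙_ (Over (Spec (CommRingCat.of K))) ⟶ C)
    (hstar : ∀ (F : Type u) [Field F] [Algebra K F]
      (p q : Over.mk (Spec.map (CommRingCat.ofHom (algebraMap K F))) ⟶ C),
      lift p q ≫ star = letI := inst F; -(p + q))
    (ho : ∀ (F : Type u) [Field F] [Algebra K F],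
      toUnit (Over.mk (Spec.map (CommRingCat.ofHom (algebraMap K F)))) ≫ o = letI := inst F; 0) :
    ∃ G : GrpObj C, @MonObj.one _ _ _ C G.toMonObj = o ∧ @IsCommMonObj _ _ _ _ C G.toMonObj := by
  let inv : C ⟶ C := lift (𝟙 C) (toUnit C ≫ o) ≫ star
  let mul : C ⊗ C ⟶ C := star ≫ inv
  have hall : ∀ (L : Type u) [Field L] [Algebra K L],
      (∀ x : Over.mk (Spec.map (CommRingCat.ofHom (algebraMap K L))) ⟶ C,
        x ≫ inv = letI := inst L; -x) ∧
      ∀ x y : Over.mk (Spec.map (CommRingCat.ofHom (algebraMap K L))) ⟶ C,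
        lift x y ≫ mul = letI := inst L; x + y := by
    intro L _ _
    let _ := inst L
    have hinv : ∀ x : Over.mk (Spec.map (CommRingCat.ofHom (algebraMap K L))) ⟶ C, x ≫ inv = -x := by
      intro x
      have h1 : x ≫ inv = lift x (toUnit _ ≫ o) ≫ star := by
        change x ≫ lift (𝟙 C) (toUnit C ≫ o) ≫ star = _
        rw [← Category.assoc, comp_lift, Category.comp_id, ← Category.assoc x, comp_toUnit]
      rw [h1, hstar, ho]
      simp
    refine ⟨hinv, ?_⟩
    intro x y
    change lift x y ≫ star ≫ inv = _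
    rw [← Category.assoc, hinv, hstar, neg_neg]
  obtain ⟨G, hmul, -, hone⟩ := exists_grpObj_of_points C mul inv o (by
    intro L _ t
    obtain ⟨φ, rfl⟩ := Spec.map_surjective t
    let : Algebra K L := φ.hom.toAlgebra
    have hφ : φ = CommRingCat.ofHom (algebraMap K L) := rfl
    rw [hφ]
    let _ := inst L
    obtain ⟨hinv, hmul⟩ := hall L
    refine ⟨?_, ?_, ?_, ?_, ?_⟩
    · intro x
      rw [ho, hmul, zero_add]
    · intro x
      rw [ho, hmul, add_zero]
    · intro x y z
      rw [hmul, hmul, hmul, hmul, add_assoc]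
    · intro x
      rw [ho, hinv, hmul, neg_add_cancel]
    · intro x
      rw [ho, hinv, hmul, add_neg_cancel])
  refine ⟨G, hone, ?_⟩
  have hsm : Smooth (C ⊗ C).hom := inferInstanceAs (Smooth (pullback.fst C.hom C.hom ≫ C.hom))
  refine @IsCommMonObj.mk _ _ _ _ C G.toMonObj ?_
  refine hom_ext_of_points _ _ fun L _ t => ?_
  obtain ⟨φ, rfl⟩ := Spec.map_surjective t
  let : Algebra K L := φ.hom.toAlgebra
  have hφ : φ = CommRingCat.ofHom (algebraMap K L) := rfl
  rw [hφ]
  intro x
  let _ := inst L
  obtain ⟨-, hmul'⟩ := hall L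
  have e1 : x ≫ (β_ C C).hom = lift (x ≫ snd C C) (x ≫ fst C C) := by
    ext1 <;> simp
  have e2 : x = lift (x ≫ fst C C) (x ≫ snd C C) := by
    ext1 <;> simp
  change x ≫ (β_ C C).hom ≫ G.mul = x ≫ G.mul
  rw [hmul, ← Category.assoc, e1, hmul']
  conv_rhs => rw [e2]
  rw [hmul', add_comm]

/-- `Ell.grpObj_of_negSum` with the origin and commutativity recorded. -/
theorem commGrpObj_of_negSum {K : Type u} [Field K] (C : Over (Spec (CommRingCat.of K))) [Smooth C.hom]
    [IsSeparated C.hom] (o : Over.mk (𝟙 (Spec (CommRingCat.of K))) ⟶ C)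
    (D : WCoord C.hom (o.left (IsLocalRing.closedPoint K))) (hns : NS D)
    (m : pullback C.hom C.hom ⟶ C.left) (hm : m ≫ C.hom = pullback.fst C.hom C.hom ≫ C.hom)
    (hsum : ∀ (F : Type u) [Field F] (u : Spec (CommRingCat.of F) ⟶ pullback C.hom C.hom),
      NegSum D (Spec.preimage (u ≫ pullback.fst C.hom C.hom ≫ C.hom)).hom (u ≫ pullback.fst C.hom C.hom)
        (u ≫ pullback.snd C.hom C.hom) (u ≫ m)) :
    ∃ G : GrpObj C, @MonObj.one _ _ _ C G.toMonObj = o ∧ @IsCommMonObj _ _ _ _ C G.toMonObj := by
  classical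
  have ho : o.left ≫ C.hom = 𝟙 _ := Over.w o
  have hpt : ∀ p, o.left p = o.left (IsLocalRing.closedPoint K) := fun p =>
    congrArg _ (Subsingleton.elim (α := PrimeSpectrum K) p (IsLocalRing.closedPoint K))
  have hbij : ∀ (F : Type u) [Field F] [Algebra K F], Function.Bijective
      (fun v : (Over.mk (Spec.map (CommRingCat.ofHom (algebraMap K F))) ⟶ C) =>
        (Projective.Point.toAffine (D.W.map
          (Spec.preimage (Spec.map (CommRingCat.ofHom (algebraMap K F)))).hom).toProjective (trip D v.left) :
        (D.W.map (Spec.preimage (Spec.map (CommRingCat.ofHom (algebraMap K F)))).hom).toAffine.Point)) := by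
    intro F _ _
    have h1 := toAffine_trip_bijective D hns o.left ho hpt (Spec.map (CommRingCat.ofHom (algebraMap K F)))
    constructor
    · intro v v' h
      have h2 := @h1.1 ⟨v.left, Over.w v⟩ ⟨v'.left, Over.w v'⟩ h
      exact Over.OverMorphism.ext (congrArg Subtype.val h2)
    · intro Q
      obtain ⟨⟨v, hv⟩, h⟩ := h1.2 Q
      exact ⟨Over.homMk v hv, h⟩
  let e := fun (F : Type u) [Field F] [Algebra K F] => Equiv.ofBijective _ (hbij F)
  let inst := fun (F : Type u) [Field F] [Algebra K F] => (e F).addCommGroup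
  let star : C ⊗ C ⟶ C := Over.homMk m hm
  refine commGrpObj_of_points C inst star o ?_ ?_
  · intro F _ _ p q
    apply (e F).injective
    let _ := inst F
    have h1 : e F (-(p + q)) = -(e F p + e F q) := by
      change e F ((e F).symm _) = _
      rw [Equiv.apply_symm_apply]
      change -(e F ((e F).symm _)) = _
      rw [Equiv.apply_symm_apply]
      rfl
    rw [h1]
    let u : Spec (CommRingCat.of F) ⟶ pullback C.hom C.hom := (lift p q).left
    have hu1 : u ≫ pullback.fst C.hom C.hom = p.left := congrArg (fun m => m.left) (lift_fst p q)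
    have hu2 : u ≫ pullback.snd C.hom C.hom = q.left := congrArg (fun m => m.left) (lift_snd p q)
    have h2 := hsum F u
    have h3 : u ≫ pullback.fst C.hom C.hom ≫ C.hom = Spec.map (CommRingCat.ofHom (algebraMap K F)) := by
      rw [← Category.assoc, hu1]
      exact Over.w p
    rw [h3, hu1, hu2] at h2
    exact h2
  · intro F _ _
    apply (e F).injective
    let _ := inst F
    have h1 : e F 0 = 0 := (e F).apply_symm_apply 0
    rw [h1]
    let v : Spec (CommRingCat.of F) ⟶ C.left := (toUnit (Over.mk (Spec.map (CommRingCat.ofHom (algebraMap K F)))) ≫ o).left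
    have hU : ¬ ⊤ ≤ v ⁻¹ᵁ D.U := by
      rw [le_iff_mem, D.memU, not_not]
      exact hpt _
    change Projective.Point.toAffine _ (trip D v) = 0
    rw [trip_of_not_mem D v hU]
    exact Projective.Point.toAffine_zero

/-- The commutative group law with origin `o`. -/
theorem exists_commGrpObj {K : Type u} [Field K] (C : Over (Spec (CommRingCat.of K))) [IsProper C.hom]
    [Smooth C.hom] [GeometricallyIrreducible C.hom] (hdim : topologicalKrullDim C.left = 1)
    (hg : Module.finrank K (Coh.HH C.left (Coh.structureModule _) 1) = 1)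
    (o : Over.mk (𝟙 (Spec (CommRingCat.of K))) ⟶ C) :
    ∃ G : GrpObj C, @MonObj.one _ _ _ C G.toMonObj = o ∧ @IsCommMonObj _ _ _ _ C G.toMonObj := by
  obtain ⟨D⟩ := exists_wCoord C hdim hg o
  have hint : IsIntegral C.left := EllNonsing.isIntegral_of_smooth C.hom
  have hT : IsIntegral (pullback C.hom C.hom) := EllNonsing.isIntegral_pullback C.hom C.hom
  have hns : NS D := fun s a b h => EllNonsing.nonsingular C.hom _ D s a b h
  have hD : LocInf D := fun T _ q t a b h ha hb => exists_of_coords C.hom _ D T q t a b h ha hb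
  have ho : o.left ≫ C.hom = 𝟙 _ := Over.w o
  have hpt : o.left (IsLocalRing.closedPoint K) ∈ Set.range o.left := ⟨_, rfl⟩
  obtain ⟨m, hm, hs⟩ := exists_glue (T := pullback C.hom C.hom) (pullback.fst C.hom C.hom ≫ C.hom) C.hom
    (fun F _ u v => NegSum D (Spec.preimage (u ≫ pullback.fst C.hom C.hom ≫ C.hom)).hom
      (u ≫ pullback.fst C.hom C.hom) (u ≫ pullback.snd C.hom C.hom) v)
    (fun F _ u v v' hv hv' h h' => negSum_unique D hns o.left ho hpt _ _ _ v v' hv hv' h h')
    (fun t => by
      have hch : HasChord D (pullback.fst C.hom C.hom ≫ C.hom) (pullback.fst C.hom C.hom)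
          (pullback.snd C.hom C.hom) t := by
        by_cases ht : pullback.fst C.hom C.hom t = o.left (IsLocalRing.closedPoint K) ∧
            pullback.snd C.hom C.hom t = o.left (IsLocalRing.closedPoint K)
        · exact hasChord_VV D hD hns o.left ho hpt _ _ _ rfl pullback.condition.symm
            (fun F _ u hu => generic_pair D F u hu) t ht.1 ht.2
        · exact hasChord_of_ne D hD hns _ _ _ rfl pullback.condition.symm t ht
      obtain ⟨N, j, hj, hr, m, hm, hs⟩ := hch
      refine ⟨N, j, hj, hr, m, hm, fun F _ u => ?_⟩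
      have := hs F u
      simpa only [Category.assoc] using this)
  exact commGrpObj_of_negSum C o D hns m hm hs

end K485.EllComm
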