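import Groth.Agent.Dix.NeronEllB
import Groth.Agent.S0603
import Groth.Agent.S2653

/-!
# Regular projective flat schemes over a Dedekind domain with irreducible one-dimensional generic fibre are
arithmetic surfaces
-/

set_option autoImplicit false
universe u

open CategoryTheory CategoryTheory.Limits AlgebraicGeometry IsLocalRing

namespace K485.DedSurf

open Groth.Agent.Dix.NeronEllB Groth.Agent.Dix.GenFibre Groth.Agent.VarietyB

/-- A Dedekind domain is universally catenary. -/
theorem isUniversallyCatenary (R : Type u) [CommRing R] [IsDedekindDomain R] : CAlg.IsUniversallyCatenary R := by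
  have := Groth.Agent.S2653.isCohenMacaulayRing_of_isDedekindDomain R
  exact Groth.Agent.S0603.result R

section Height

variable {R : Type u} [CommRing R] [IsDedekindDomain R]

theorem height_eq_one (p : Ideal R) [p.IsPrime] (hp : p ≠ ⊥) : p.height = 1 := by
  apply le_antisymm
  · have h : p.height ≤ ((1 : ℕ) : ℕ∞) := by
      rw [Ideal.height_le_iff]
      intro q hq hqp
      have h1 : q = ⊥ := by
        by_contra hne
        have h2 : q.IsMaximal := hq.isMaximal hne
        exact hqp.ne (h2.eq_of_le (Ideal.IsPrime.ne_top inferInstance) hqp.le)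
      rw [h1, Ideal.height_bot]
      norm_num
    exact_mod_cast h
  · rw [Order.one_le_iff_ne_zero, Ne, Ideal.height_eq_zero_iff_eq_bot]
    exact hp

theorem height_le_one (p : Ideal R) [p.IsPrime] : p.height ≤ 1 := by
  by_cases hp : p = ⊥
  · rw [hp, Ideal.height_bot]
    exact bot_le
  · exact (height_eq_one p hp).le

variable (A : Type u) [CommRing A] [IsDomain A] [Algebra R A]
  [FaithfulSMul R A] [Algebra.FiniteType R A] (htr : Algebra.trdeg R A = 1)

include htr in
theorem height_le_two (q : Ideal A) [q.IsPrime] : q.height ≤ 2 := by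
  have h1 := Groth.Agent.S0555.result R (isUniversallyCatenary R) A (q.under R) q
  rw [htr] at h1
  have h2 : (q.height : Cardinal.{u}) ≤ (((2 : ℕ∞)) : Cardinal.{u}) := by
    calc (q.height : Cardinal.{u}) ≤ (q.height : Cardinal.{u}) + Algebra.trdeg (R ⧸ q.under R) (A ⧸ q) :=
          le_self_add
      _ = ((q.under R).height : Cardinal.{u}) + 1 := h1
      _ ≤ ((1 : ℕ∞) : Cardinal.{u}) + 1 := by
          gcongr
          exact height_le_one _
      _ = _ := by norm_cast
  exact_mod_cast h2

include htr in
theorem ringKrullDim_le_two : ringKrullDim A ≤ 2 := by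
  rw [ringKrullDim_le_iff_isMaximal_height_le]
  intro m _
  exact WithBot.coe_le_coe.mpr (height_le_two A htr m)

include htr in
theorem height_eq_two (q : Ideal A) [q.IsMaximal] (hmax : (q.under R).IsMaximal) (hq : q.under R ≠ ⊥) :
    q.height = 2 := by
  have h1 := Groth.Agent.S0555.result R (isUniversallyCatenary R) A (q.under R) q
  have h2 : Algebra.trdeg (R ⧸ q.under R) (A ⧸ q) = 0 := by
    let _ : Field (R ⧸ q.under R) := Ideal.Quotient.field _
    let _ : Field (A ⧸ q) := Ideal.Quotient.field _
    have h3 : Algebra.FiniteType (R ⧸ q.under R) (A ⧸ q) := by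
      have : Algebra.FiniteType R (A ⧸ q) := inferInstance
      exact Algebra.FiniteType.of_restrictScalars_finiteType R _ _
    have h4 : Module.Finite (R ⧸ q.under R) (A ⧸ q) := finite_of_finite_type_of_isJacobsonRing _ _
    have h5 : Algebra.IsAlgebraic (R ⧸ q.under R) (A ⧸ q) := inferInstance
    exact trdeg_eq_zero
  rw [htr, h2, add_zero, height_eq_one _ hq] at h1
  have h3 : (q.height : Cardinal.{u}) = ((2 : ℕ∞) : Cardinal.{u}) := by
    rw [h1]; norm_cast
  exact_mod_cast h3

end Height

/-- A regular projective flat scheme over a Dedekind domain with irreducible generic fibre of dimension one is an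
arithmetic surface. -/
theorem isArithSurface {R : Type u} [CommRing R] [IsDedekindDomain R] (hR : ¬ IsField R)
    (X : Over (Spec (CommRingCat.of R)))
    (hreg : ∀ x : X.left, IsRegularLocalRing (X.left.presheaf.stalk x)) (hproj : Neron.IsProjectiveOver R X)
    (hflat : Flat X.hom) [IrreducibleSpace ((Neron.genericFibre R).obj X).left]
    (hdim : topologicalKrullDim ((Neron.genericFibre R).obj X).left = 1) :
    ArSurf.IsArithSurface R X := by
  have hint := isIntegral_left X hreg
  refine ⟨hreg, hint, ?_, hflat, hproj⟩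
  have hprop : IsProper X.hom := isProper_of_isProjectiveOver hproj
  have hdim' : topologicalKrullDim ((Neron.genericFibre R).obj X).left = ((1 : ℕ) : WithBot ℕ∞) := by
    rw [hdim]; rfl
  apply le_antisymm
  · apply DimTop.topologicalKrullDim_le_of_forall
    intro x
    obtain ⟨V, hV, hx, -⟩ := exists_isAffineOpen_mem_and_subset (X := X.left) (U := ⊤) (x := x) trivial
    refine ⟨V, hx, ?_⟩
    obtain ⟨alg, h1, h2, h3⟩ := exists_algebra_chart X hV ⟨x, hx⟩
    have : Nonempty V := ⟨x, hx⟩
    rw [DimSch.topologicalKrullDim_affineOpen hV]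
    have h4 := trdeg_chart X hdim' Γ(X.left, V) hV.fromSpec h1
    exact ringKrullDim_le_two _ (by rw [h4]; norm_cast)
  · have : CompactSpace X.left := QuasiCompact.compactSpace_of_compactSpace X.hom
    obtain ⟨x, -, hx⟩ := IsClosed.exists_closed_singleton (X := X.left) isClosed_univ Set.univ_nonempty
    obtain ⟨V, hV, hxV, -⟩ := exists_isAffineOpen_mem_and_subset (X := X.left) (U := ⊤) (x := x) trivial
    obtain ⟨alg, h1, h2, h3⟩ := exists_algebra_chart X hV ⟨x, hxV⟩
    have : Nonempty V := ⟨x, hxV⟩
    have h4 := trdeg_chart X hdim' Γ(X.left, V) hV.fromSpec h1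
    have h5 : topologicalKrullDim (V : Set X.left) ≤ topologicalKrullDim X.left :=
      topologicalKrullDim_subspace_le _ _
    refine le_trans ?_ h5
    rw [DimSch.topologicalKrullDim_affineOpen hV]
    have hmax := hV.primeIdealOf_isMaximal_of_isClosed ⟨x, hxV⟩ hx
    have h10 : (hV.fromSpec ≫ X.hom) (hV.primeIdealOf ⟨x, hxV⟩) = X.hom x := by
      rw [Scheme.Hom.comp_apply, hV.fromSpec_primeIdealOf]
    rw [h1] at h10
    have h11 : (hV.primeIdealOf ⟨x, hxV⟩).asIdeal.under R = (X.hom x).asIdeal := by
      rw [← h10]; rfl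
    have h6 : ((hV.primeIdealOf ⟨x, hxV⟩).asIdeal.under R).IsMaximal := by
      have h7 : IsClosed ({X.hom x} : Set (Spec (CommRingCat.of R))) := by
        have h8 := X.hom.isClosedMap _ hx
        rwa [Set.image_singleton] at h8
      have h9 : (X.hom x).asIdeal.IsMaximal := (PrimeSpectrum.isClosed_singleton_iff_isMaximal _).mp h7
      rw [h11]
      exact h9
    have h7 := height_eq_two (R := R) Γ(X.left, V) (by rw [h4]; norm_cast)
      (hV.primeIdealOf ⟨x, hxV⟩).asIdeal h6 (Ring.ne_bot_of_isMaximal_of_not_isField h6 hR)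
    have h8 : ((hV.primeIdealOf ⟨x, hxV⟩).asIdeal.height : WithBot ℕ∞) ≤ ringKrullDim Γ(X.left, V) :=
      Ideal.height_le_ringKrullDim_of_isPrime
    rw [h7] at h8
    exact h8

end K485.DedSurf
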