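import Groth.Agent.Neron.K485.HypersurfReg
import Mathlib.AlgebraicGeometry.EllipticCurve.Affine.Point
import Mathlib.Algebra.Polynomial.Bivariate

/-!
# Regularity of the affine Weierstrass scheme over a regular ring
-/

set_option autoImplicit false
universe u
open IsLocalRing Polynomial WeierstrassCurve.Affine
open scoped Polynomial.Bivariate

namespace K485.WeierReg

variable {R : Type u} [CommRing R]

/-- The partial derivative with respect to the inner variable. -/
noncomputable def dX (b : R[X][Y]) : R[X][Y] := Bivariate.swap (derivative (Bivariate.swap b))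

theorem dX_mul (b c : R[X][Y]) : dX (b * c) = dX b * c + b * dX c := by
  simp only [dX, map_mul, derivative_mul, map_add, Bivariate.swap_swap_apply]

theorem dX_add (b c : R[X][Y]) : dX (b + c) = dX b + dX c := by
  simp only [dX, map_add]

/-- An additive map satisfying the Leibniz rule maps `Q ^ 2` to `Q`. -/
theorem mem_of_mem_sq {B : Type*} [CommRing B] (D : B → B) (hadd : ∀ a b, D (a + b) = D a + D b)
    (hmul : ∀ a b, D (a * b) = D a * b + a * D b) (Q : Ideal B) {a : B} (ha : a ∈ Q ^ 2) : D a ∈ Q := by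
  rw [pow_two] at ha
  refine Submodule.mul_induction_on ha ?_ ?_
  · intro m hm n hn
    rw [hmul]
    exact add_mem (Ideal.mul_mem_left _ _ hn) (Ideal.mul_mem_right _ _ hm)
  · intro x y hx hy
    rw [hadd]
    exact add_mem hx hy

theorem not_mem_sq {B : Type*} [CommRing B] (D : B → B) (hadd : ∀ a b, D (a + b) = D a + D b)
    (hmul : ∀ a b, D (a * b) = D a * b + a * D b) (Q : Ideal B) [Q.IsPrime] {f : B} (hf : f ∈ Q)
    (hD : D f ∉ Q) (s : B) (hs : s ∉ Q) : s * f ∉ Q ^ 2 := by
  intro h
  have h1 := mem_of_mem_sq D hadd hmul Q h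
  rw [hmul] at h1
  have h2 : s * D f ∈ Q := by
    have := sub_mem h1 (Ideal.mul_mem_left _ (D s) hf)
    simpa using this
  rcases Ideal.IsPrime.mem_or_mem inferInstance h2 with h3 | h3
  · exact hs h3
  · exact hD h3

variable (W : WeierstrassCurve.Affine R)

theorem derivative_polynomial : derivative W.polynomial = W.polynomialY := by
  simp only [polynomial, polynomialY, derivative_sub, derivative_add, derivative_mul, derivative_C,
    derivative_X_sq, derivative_X]
  have : (C (C 2) : R[X][Y]) = C 2 := by rw [map_ofNat, map_ofNat]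
  rw [this]
  ring

theorem dX_polynomial : dX W.polynomial = W.polynomialX := by
  have h : Bivariate.swap W.polynomial = C (X ^ 2) + C (C W.a₁ * X) * X + C (C W.a₃ * X) -
      (X ^ 3 + C (C W.a₂) * X ^ 2 + C (C W.a₄) * X + C (C W.a₆)) := by
    simp only [polynomial, map_add, map_sub, map_mul, map_pow, Bivariate.swap_X, Bivariate.swap_Y,
      Bivariate.swap_C_C]
    ring
  have h' : derivative (Bivariate.swap W.polynomial) = C (C W.a₁ * X) -
      (C (C 3) * X ^ 2 + C (C (2 * W.a₂)) * X + C (C W.a₄)) := by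
    rw [h]
    simp only [derivative_sub, derivative_add, derivative_mul, derivative_C, derivative_X, derivative_X_pow]
    have e1 : (C (C 3) : R[X][Y]) = 3 := by rw [map_ofNat, map_ofNat]
    have e2 : (C (C (2 * W.a₂)) : R[X][Y]) = 2 * C (C W.a₂) := by
      rw [map_mul, map_mul, map_ofNat, map_ofNat]
    have e3 : (C ((2 : ℕ) : R[X]) : R[X][Y]) = 2 := by rw [Nat.cast_ofNat, map_ofNat]
    have e4 : (C ((3 : ℕ) : R[X]) : R[X][Y]) = 3 := by rw [Nat.cast_ofNat, map_ofNat]
    rw [e1, e2, e3, e4]
    ring
  rw [dX, h']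
  simp only [polynomialX, map_add, map_sub, map_mul, map_pow, Bivariate.swap_X, Bivariate.swap_Y,
      Bivariate.swap_C_C]

theorem mk_polynomial : CoordinateRing.mk W W.polynomial = 0 := AdjoinRoot.mk_self

/-- Regularity at the primes where one of the partial derivatives does not vanish. -/
theorem isRegularLocalRing_of_partial [IsRegularRing R] (P : Ideal W.CoordinateRing) [P.IsPrime]
    (h : CoordinateRing.mk W W.polynomialX ∉ P ∨ CoordinateRing.mk W W.polynomialY ∉ P) :
    IsRegularLocalRing (Localization.AtPrime P) := by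
  let Q : Ideal R[X][Y] := P.comap (CoordinateRing.mk W)
  have hQ : W.polynomial ∈ Q := by
    change CoordinateRing.mk W W.polynomial ∈ P
    rw [mk_polynomial]
    exact zero_mem _
  refine @HypersurfReg.isRegularLocalRing_atPrime R[X][Y] _ _ W.polynomial Q _ hQ ?_ P ‹P.IsPrime› rfl
  intro s hs
  rcases h with h | h
  · refine not_mem_sq dX dX_add dX_mul Q hQ ?_ s hs
    rw [dX_polynomial]
    exact h
  · have hadd : ∀ a b : R[X][Y], derivative (a + b) = derivative a + derivative b := fun a b => derivative_add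
    have hmul : ∀ a b : R[X][Y], derivative (a * b) = derivative a * b + a * derivative b :=
      fun a b => derivative_mul
    have hD : derivative W.polynomial ∉ Q := by
      rw [derivative_polynomial]
      exact h
    exact not_mem_sq (B := R[X][Y]) (fun b => derivative b) hadd hmul Q hQ hD s hs

/-- Regularity at the origin when `a₆` is not in the square of the maximal ideal. -/
theorem isRegularLocalRing_origin [IsRegularRing R] (m : Ideal R) [m.IsMaximal]
    (h6' : W.a₆ ∉ m ^ 2) (P : Ideal W.CoordinateRing) [P.IsPrime]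
    (hP : ∀ r ∈ m, algebraMap R W.CoordinateRing r ∈ P)
    (hx : CoordinateRing.mk W (C X) ∈ P) (hy : CoordinateRing.mk W X ∈ P) :
    IsRegularLocalRing (Localization.AtPrime P) := by
  let Q : Ideal R[X][Y] := P.comap (CoordinateRing.mk W)
  have hQ : W.polynomial ∈ Q := by
    change CoordinateRing.mk W W.polynomial ∈ P
    rw [mk_polynomial]
    exact zero_mem _
  have hxQ : (C X : R[X][Y]) ∈ Q := hx
  have hyQ : (X : R[X][Y]) ∈ Q := hy
  -- the constant term
  have hconst : ∀ b : R[X][Y], b - C (C (b.evalEval 0 0)) ∈ Q := by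
    intro b
    have h1 : b - C (b.eval 0) ∈ Q := by
      have : X ∣ b - C (b.eval 0) := by
        rw [X_dvd_iff]
        simp [coeff_zero_eq_eval_zero]
      obtain ⟨c, hc⟩ := this
      rw [hc]
      exact Ideal.mul_mem_right _ _ hyQ
    have h2 : (C (b.eval 0) : R[X][Y]) - C (C (b.evalEval 0 0)) ∈ Q := by
      have : (X : R[X]) ∣ b.eval 0 - C ((b.eval 0).eval 0) := by
        rw [X_dvd_iff]
        simp [coeff_zero_eq_eval_zero]
      obtain ⟨c, hc⟩ := this
      have e : (C (b.eval 0) : R[X][Y]) - C (C (b.evalEval 0 0)) = C X * C c := by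
        rw [← map_sub, ← map_mul, ← hc]
        simp [evalEval]
      rw [e]
      exact Ideal.mul_mem_right _ _ hxQ
    have := add_mem h1 h2
    simpa using this
  have hCm : ∀ r : R, C (C r) ∈ Q ↔ r ∈ m := by
    intro r
    have hcc : ∀ r : R, (CoordinateRing.mk W (C (C r))) = algebraMap R W.CoordinateRing r := fun r => rfl
    constructor
    · intro hr
      by_contra hrm
      obtain ⟨s, hs⟩ := Ideal.IsMaximal.exists_inv (inferInstance : m.IsMaximal) hrm
      obtain ⟨t, ht, hst⟩ := hs
      apply (inferInstance : P.IsPrime).ne_top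
      rw [Ideal.eq_top_iff_one]
      have h1 : algebraMap R W.CoordinateRing (s * r) ∈ P := by
        rw [map_mul]
        exact Ideal.mul_mem_left _ _ hr
      have h2 := add_mem h1 (hP t ht)
      rw [← map_add, hst, map_one] at h2
      exact h2
    · intro hr
      exact hP r hr
  have hev : ∀ b : R[X][Y], b ∈ Q ↔ b.evalEval 0 0 ∈ m := by
    intro b
    rw [← hCm]
    constructor
    · intro hb
      have := sub_mem hb (hconst b)
      simpa using this
    · intro hb
      have := add_mem (hconst b) hb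
      simpa using this
  refine @HypersurfReg.isRegularLocalRing_atPrime R[X][Y] _ _ W.polynomial Q _ hQ ?_ P ‹P.IsPrime› rfl
  intro s hs hsf
  have hsm : s.evalEval 0 0 ∉ m := fun h => hs ((hev s).2 h)
  have h1 : ∀ b ∈ Q ^ 2, b.evalEval 0 0 ∈ m ^ 2 := by
    intro b hb
    have : Q ^ 2 ≤ (m ^ 2).comap (evalEvalRingHom (0 : R) 0) := by
      refine le_trans (Ideal.pow_right_mono ?_ 2) (Ideal.le_comap_pow _ 2)
      intro b hb
      exact (hev b).1 hb
    exact this hb
  have h2 := h1 _ hsf
  have h3 : (s * W.polynomial).evalEval 0 0 = - (s.evalEval 0 0 * W.a₆) := by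
    rw [evalEval_mul, evalEval_polynomial_zero]
    ring
  rw [h3, neg_mem_iff] at h2
  apply h6'
  obtain ⟨t, n, hn, htn⟩ := Ideal.IsMaximal.exists_inv (inferInstance : m.IsMaximal) hsm
  -- `t * s(0) + n = 1` so `(t * s(0) + n) ^ 2 = 1`
  have h4 : W.a₆ = (t * s.evalEval 0 0 + n) * (t * s.evalEval 0 0 + n) * W.a₆ := by rw [htn]; ring
  have h5 : W.a₆ = (t * t * s.evalEval 0 0 + 2 * t * n) * (s.evalEval 0 0 * W.a₆) + n * n * W.a₆ := by
    calc W.a₆ = (t * s.evalEval 0 0 + n) * (t * s.evalEval 0 0 + n) * W.a₆ := h4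
      _ = _ := by ring
  rw [h5]
  refine add_mem (Ideal.mul_mem_left _ _ h2) (Ideal.mul_mem_right _ _ ?_)
  rw [pow_two]
  exact Ideal.mul_mem_mul hn hn

/-- A prime containing the two partial derivatives lies over the maximal ideal and contains `x`, `y`. -/
theorem singular_mem [IsDomain R] [IsDiscreteValuationRing R] (hΔ : W.Δ ≠ 0)
    (h3 : W.a₃ ∈ maximalIdeal R) (h4 : W.a₄ ∈ maximalIdeal R) (h6 : W.a₆ ∈ maximalIdeal R)
    (P : Ideal W.CoordinateRing) [P.IsPrime] (hX : CoordinateRing.mk W W.polynomialX ∈ P)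
    (hY : CoordinateRing.mk W W.polynomialY ∈ P) :
    (∀ r ∈ maximalIdeal R, algebraMap R W.CoordinateRing r ∈ P) ∧ CoordinateRing.mk W (C X) ∈ P ∧
      CoordinateRing.mk W X ∈ P := by
  set x : W.CoordinateRing := CoordinateRing.mk W (C X) with hx
  set y : W.CoordinateRing := CoordinateRing.mk W X with hy
  let a : R → W.CoordinateRing := fun r => algebraMap R W.CoordinateRing r
  have ha : ∀ r, CoordinateRing.mk W (C (C r)) = a r := fun r => rfl
  have hf : y ^ 2 + a W.a₁ * x * y + a W.a₃ * y - (x ^ 3 + a W.a₂ * x ^ 2 + a W.a₄ * x + a W.a₆) = 0 := by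
    have : CoordinateRing.mk W (Y ^ 2 + C (C W.a₁ * X + C W.a₃) * Y -
        C (X ^ 3 + C W.a₂ * X ^ 2 + C W.a₄ * X + C W.a₆)) = 0 := mk_polynomial W
    simp only [map_add, map_sub, map_mul, map_pow, ha, ← hx, ← hy] at this
    linear_combination this
  have hfx : CoordinateRing.mk W W.polynomialX = a W.a₁ * y - (3 * x ^ 2 + 2 * a W.a₂ * x + a W.a₄) := by
    rw [WeierstrassCurve.Affine.polynomialX]
    simp only [map_add, map_sub, map_mul, map_pow, map_ofNat, ha, ← hx, ← hy]
  have hfy : CoordinateRing.mk W W.polynomialY = 2 * y + a W.a₁ * x + a W.a₃ := by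
    rw [WeierstrassCurve.Affine.polynomialY]
    simp only [map_add, map_mul, map_ofNat, ha, ← hx, ← hy]
    ring
  rw [hfx] at hX
  rw [hfy] at hY
  -- `P` lies over the maximal ideal
  have hcm : P.comap (algebraMap R W.CoordinateRing) = maximalIdeal R := by
    have hp : (P.comap (algebraMap R W.CoordinateRing)).IsPrime := inferInstance
    by_cases h0 : P.comap (algebraMap R W.CoordinateRing) = ⊥
    · exfalso
      let φ : W.CoordinateRing →+* W.CoordinateRing ⧸ P := Ideal.Quotient.mk P
      let ψ : R →+* W.CoordinateRing ⧸ P := φ.comp (algebraMap R W.CoordinateRing)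
      have hψ : ∀ r, ψ r = φ (a r) := fun r => rfl
      have hker : Function.Injective ψ := by
        rw [RingHom.injective_iff_ker_eq_bot, ← h0]
        ext r
        rw [RingHom.mem_ker, hψ, Ideal.Quotient.eq_zero_iff_mem]
        rfl
      have hΔ' : (W.map ψ).toAffine.Δ ≠ 0 := by
        rw [WeierstrassCurve.map_Δ]
        exact fun h => hΔ (hker (by rw [h, map_zero]))
      have heq : (W.map ψ).toAffine.Equation (φ x) (φ y) := by
        rw [equation_iff']
        simp only [WeierstrassCurve.map_a₁, WeierstrassCurve.map_a₂, WeierstrassCurve.map_a₃,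
          WeierstrassCurve.map_a₄, WeierstrassCurve.map_a₆, hψ]
        have := congrArg φ hf
        simpa only [map_add, map_sub, map_mul, map_pow, map_zero] using this
      have hns := (equation_iff_nonsingular_of_Δ_ne_zero hΔ').1 heq
      rw [nonsingular_iff'] at hns
      simp only [WeierstrassCurve.map_a₁, WeierstrassCurve.map_a₂, WeierstrassCurve.map_a₃,
          WeierstrassCurve.map_a₄, hψ] at hns
      rcases hns.2 with h | h
      · apply h
        have := (Ideal.Quotient.eq_zero_iff_mem (I := P)).2 hX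
        change φ _ = 0 at this
        simpa only [map_add, map_sub, map_mul, map_pow, map_zero, map_ofNat] using this
      · apply h
        have := (Ideal.Quotient.eq_zero_iff_mem (I := P)).2 hY
        change φ _ = 0 at this
        simpa only [map_add, map_sub, map_mul, map_pow, map_zero, map_ofNat] using this
    · exact IsLocalRing.eq_maximalIdeal (hp.isMaximal h0)
  have hm : ∀ r ∈ maximalIdeal R, a r ∈ P := by
    intro r hr
    rw [← hcm] at hr
    exact hr
  refine ⟨hm, ?_⟩
  have m3 := hm _ h3
  have m4 := hm _ h4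
  have m6 := hm _ h6
  have hx3 : x ^ 3 ∈ P := by
    have e : x ^ 3 = - x * (a W.a₁ * y - (3 * x ^ 2 + 2 * a W.a₂ * x + a W.a₄)) -
        y * (2 * y + a W.a₁ * x + a W.a₃) - y * a W.a₃ + x * a W.a₄ + 2 * a W.a₆ := by
      linear_combination (2 : W.CoordinateRing) * hf
    rw [e]
    exact add_mem (add_mem (sub_mem (sub_mem (Ideal.mul_mem_left _ _ hX) (Ideal.mul_mem_left _ _ hY))
      (Ideal.mul_mem_left _ _ m3)) (Ideal.mul_mem_left _ _ m4))
      (Ideal.mul_mem_left _ _ m6)
  have hxP : x ∈ P := Ideal.IsPrime.mem_of_pow_mem inferInstance 3 hx3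
  refine ⟨hxP, ?_⟩
  have hy2 : y ^ 2 ∈ P := by
    have e : y ^ 2 = - a W.a₁ * y * x - y * a W.a₃ + (x ^ 2 + a W.a₂ * x + a W.a₄) * x + a W.a₆ := by
      linear_combination hf
    rw [e]
    exact add_mem (add_mem (sub_mem (Ideal.mul_mem_left _ _ hxP) (Ideal.mul_mem_left _ _ m3))
      (Ideal.mul_mem_left _ _ hxP)) m6
  exact Ideal.IsPrime.mem_of_pow_mem inferInstance 2 hy2

end K485.WeierReg
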