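import Groth.Agent.Dix.NeronEllA
import Mathlib.RingTheory.DiscreteValuationRing.TFAE
import Mathlib.RingTheory.DedekindDomain.Dvr

/-!
# Sections of a regular scheme, flat over a one-dimensional regular base, go to the smooth locus
-/

set_option autoImplicit false
universe u
open CategoryTheory CategoryTheory.Limits AlgebraicGeometry IsLocalRing

namespace K485.SecReg

open Groth.Agent.Dix.NeronEllA Groth.Agent.Flat2D.FiberStalk

/-- Local algebra: `A → B → C` local with `A → C` bijective, the maximal ideal of `A` principal and `B` regular: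
then `B / m_A B` is regular. -/
theorem isRegularLocalRing_quotient {A B C : Type*} [CommRing A] [IsLocalRing A] [IsNoetherianRing A] [CommRing B]
    [IsRegularLocalRing B] [CommRing C] [IsLocalRing C] (g : A →+* B) [IsLocalHom g] (h : B →+* C)
    [IsLocalHom h] (hb : Function.Bijective (h.comp g)) (hA : (maximalIdeal A).IsPrincipal) :
    IsRegularLocalRing (B ⧸ (maximalIdeal A).map g) := by
  obtain ⟨ϖ, hϖ⟩ := hA.principal
  rw [Ideal.submodule_span_eq] at hϖ
  have hmap : (maximalIdeal A).map g = Ideal.span {g ϖ} := by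
    conv_lhs => rw [hϖ, Ideal.map_span, Set.image_singleton]
  have hϖm : ϖ ∈ maximalIdeal A := by
    rw [hϖ]
    exact Ideal.mem_span_singleton_self _
  rw [hmap]
  by_cases h2 : ϖ ∈ maximalIdeal A ^ 2
  · -- then `ϖ = 0`
    have h0 : maximalIdeal A = ⊥ := by
      have h3 : maximalIdeal A ≤ maximalIdeal A • maximalIdeal A := by
        rw [smul_eq_mul, ← pow_two]
        conv_lhs => rw [hϖ]
        rw [Ideal.span_singleton_le_iff_mem]
        exact h2
      exact Submodule.eq_bot_of_le_smul_of_le_jacobson_bot (maximalIdeal A) (maximalIdeal A)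
        (IsNoetherian.noetherian _) h3 (IsLocalRing.maximalIdeal_le_jacobson _)
    have h4 : ϖ = 0 := by
      rw [h0] at hϖm
      exact hϖm
    rw [h4, map_zero, Ideal.span_singleton_eq_bot.2 rfl]
    exact IsRegularLocalRing.of_ringEquiv (RingEquiv.quotientBot B).symm
  · have h3 : g ϖ ∈ maximalIdeal B := by
      rw [mem_maximalIdeal, mem_nonunits_iff, isUnit_map_iff g]
      exact hϖm
    refine (Groth.Agent.CalgA.RegBasic.quotient_of_notMem_sq (g ϖ) h3 ?_).1
    intro h4
    apply h2
    let e : A ≃+* C := RingEquiv.ofBijective _ hb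
    have h5 : h (g ϖ) ∈ maximalIdeal C ^ 2 := by
      have h6 : (maximalIdeal B).map h ≤ maximalIdeal C :=
        ((IsLocalRing.local_hom_TFAE h).out 0 2).mp ‹IsLocalHom h›
      have h7 := Ideal.mem_map_of_mem h h4
      rw [Ideal.map_pow] at h7
      exact Ideal.pow_right_mono h6 2 h7
    have h8 : e.symm (h (g ϖ)) = ϖ := by
      rw [RingEquiv.symm_apply_eq]
      rfl
    rw [← h8]
    have hloc : IsLocalHom e.symm.toRingHom := ⟨fun a ha => by
      have : IsUnit (e.symm a) := ha
      rwa [isUnit_map_iff] at this⟩
    have h9 : (maximalIdeal C).map e.symm.toRingHom ≤ maximalIdeal A :=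
      ((IsLocalRing.local_hom_TFAE e.symm.toRingHom).out 0 2).mp hloc
    have h10 := Ideal.mem_map_of_mem e.symm.toRingHom h5
    rw [Ideal.map_pow] at h10
    exact Ideal.pow_right_mono h9 2 h10

/-- Sections of `f : X ⟶ S` at whose points `X` is regular and the maximal ideal of the base is principal. -/
theorem section_mem_smoothLocus {S X : Scheme.{u}} [IsLocallyNoetherian S] (f : X ⟶ S)
    [LocallyOfFinitePresentation f] [Flat f]
    (s : S ⟶ X) (hs : s ≫ f = 𝟙 S) (t : S) (hreg : IsRegularLocalRing (X.presheaf.stalk (s t)))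
    (hS : ∀ y : S, (maximalIdeal (S.presheaf.stalk y)).IsPrincipal) : s t ∈ f.smoothLocus := by
  have hiso : IsIso (s ≫ f) := by rw [hs]; infer_instance
  have hbij : Function.Bijective ((s.stalkMap t).hom.comp (f.stalkMap (s t)).hom) := by
    have h1 : IsIso ((s ≫ f).stalkMap t) := inferInstance
    rw [Scheme.Hom.stalkMap_comp] at h1
    exact (@asIso _ _ _ _ _ h1).commRingCatIsoToRingEquiv.bijective
  apply mem_smoothLocus_of_fibre_of_surjective f
  · have h4 : IsIso ((s ≫ f).residueFieldMap t) := inferInstance
    have h5 : (s ≫ f).residueFieldMap t = f.residueFieldMap (s t) ≫ s.residueFieldMap t :=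
      Scheme.residueFieldMap_comp _ _ _
    intro y
    have h6 : Function.Surjective ((s ≫ f).residueFieldMap t).hom :=
      (asIso ((s ≫ f).residueFieldMap t)).commRingCatIsoToRingEquiv.surjective
    obtain ⟨z, hz⟩ := h6 ((s.residueFieldMap t).hom y)
    have h7 := congr(($h5).hom z)
    exact ⟨z, (s.residueFieldMap t).hom.injective (h7.symm.trans hz)⟩
  · rw [fibreIdeal_def]
    exact isRegularLocalRing_quotient (f.stalkMap (s t)).hom (s.stalkMap t).hom hbij (hS _)

/-- the maximal ideals of the stalks of a Dedekind scheme are principal -/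
theorem isPrincipal_stalk (R : Type u) [CommRing R] [IsDedekindDomain R] (y : Spec (CommRingCat.of R)) :
    (maximalIdeal ((Spec (CommRingCat.of R)).presheaf.stalk y)).IsPrincipal := by
  let A := (Spec (CommRingCat.of R)).presheaf.stalk y
  let _ : Algebra R A := StructureSheaf.stalkAlgebra R y
  have : IsLocalization.AtPrime A y.asIdeal := StructureSheaf.IsLocalization.to_stalk R y
  have hdom : IsDomain A := IsLocalization.isDomain_of_le_nonZeroDivisors A
    (Ideal.primeCompl_le_nonZeroDivisors y.asIdeal)
  have hded : IsDedekindDomain A := IsLocalization.isDedekindDomain R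
    (Ideal.primeCompl_le_nonZeroDivisors y.asIdeal) A
  exact maximalIdeal_isPrincipal_of_isDedekindDomain A

end K485.SecReg
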