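import Groth.Agent.Neron.K485.DivConst
import Groth.Agent.S0558
import Groth.Agent.CurvesC.RegNormal

/-!
# Divisible points of semi-abelian schemes over regular local rings extend

`exists_extend_of_divisible`: `R` a regular local ring with separably closed residue field of characteristic zero,
`x ≠ 0` in `R`, `𝒜` a semi-abelian scheme over `R` which is proper over `R[1/x]`: a section of `𝒜` over `R[1/x]` which is
an `n`-th power for all `n > 0` extends to a section over `R`.
-/

set_option autoImplicit false
universe u

open CategoryTheory Limits AlgebraicGeometry MonoidalCategory CartesianMonoidalCategory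
open scoped MonObj

namespace K485.DivExtMain

open K485.DvrPow

theorem exists_frac (R B : Type u) [CommRing R] [IsDomain R] [CommRing B] [Algebra R B] (x : R) (hx : x ≠ 0)
    [IsLocalization.Away x B] :
    ∃ (K : Type u) (_ : Field K) (_ : Algebra R K) (_ : Algebra B K) (_ : IsScalarTower R B K)
      (_ : IsFractionRing R K), Function.Injective (algebraMap B K) := by
  have h1 : IsUnit (algebraMap R (FractionRing R) x) :=
    IsUnit.mk0 _ (fun h => hx (IsFractionRing.injective R (FractionRing R) (by rw [h, map_zero])))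
  let f : B →+* FractionRing R := IsLocalization.Away.lift x h1
  let _ : Algebra B (FractionRing R) := f.toAlgebra
  have h2 : IsScalarTower R B (FractionRing R) :=
    IsScalarTower.of_algebraMap_eq fun r => (IsLocalization.Away.lift_eq x h1 r).symm
  refine ⟨FractionRing R, inferInstance, inferInstance, inferInstance, h2, inferInstance, ?_⟩
  rw [injective_iff_map_eq_zero]
  intro b hb
  obtain ⟨r, ⟨_, n, rfl⟩, rfl⟩ := IsLocalization.exists_mk'_eq (Submonoid.powers x) b
  have h3 := congrArg (algebraMap B (FractionRing R))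
    (IsLocalization.mk'_spec B r (⟨(fun n => x ^ n) n, n, rfl⟩ : Submonoid.powers x))
  rw [map_mul, hb, zero_mul, ← IsScalarTower.algebraMap_apply] at h3
  have h4 : r = 0 := IsFractionRing.injective R (FractionRing R) (by rw [← h3, map_zero])
  rw [h4, IsLocalization.mk'_zero]

variable {R : Type u} [CommRing R] [IsRegularLocalRing R] [CharZero (IsLocalRing.ResidueField R)]
  [IsSepClosed (IsLocalRing.ResidueField R)] (x : R) (hx : x ≠ 0)
  (𝒜 : Over (Spec (CommRingCat.of R))) [GrpObj 𝒜] [IsCommMonObj 𝒜] [Smooth 𝒜.hom] [IsSeparated 𝒜.hom]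
  [QuasiCompact 𝒜.hom]

include hx in
theorem exists_extend_of_divisible (hsab : SGA7.FibresUnipotentRankZero 𝒜)
    (hconn : ∀ (L : Type u) [Field L] (t : Spec (CommRingCat.of L) ⟶ Spec (CommRingCat.of R)),
      ConnectedSpace ↑(pullback 𝒜.hom t))
    (B : Type u) [CommRing B] [Algebra R B] [IsLocalization.Away x B]
    (hprop : IsProper (pullback.snd 𝒜.hom (Spec.map (CommRingCat.ofHom (algebraMap R B)))))
    (c : pt (algebraMap R B) ⟶ 𝒜) (hc : ∀ n : ℕ, 0 < n → ∃ y : pt (algebraMap R B) ⟶ 𝒜, y ^ n = c) :
    ∃ c' : Over.mk (𝟙 (Spec (CommRingCat.of R))) ⟶ 𝒜,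
      (Over.homMk (Spec.map (CommRingCat.ofHom (algebraMap R B))) :
        pt (algebraMap R B) ⟶ Over.mk (𝟙 (Spec (CommRingCat.of R)))) ≫ c' = c := by
  have hdom : IsDomain R := Groth.Agent.S0558.result R
  have hnor : IsIntegrallyClosed R := Groth.Agent.CurvesC.RegNormal.isIntegrallyClosed R
  have hperf : PerfectField (IsLocalRing.ResidueField R) := inferInstance
  have hac : IsAlgClosed (IsLocalRing.ResidueField R) := inferInstance
  obtain ⟨K, _, _, _, _, _, hBK⟩ := exists_frac R B x hx
  have hB : IsDomain B := hBK.isDomain _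
  exact DivExt.exists_extend 𝒜 DivConst.constProp hsab hconn B K hBK hprop c hc

end K485.DivExtMain
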