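import Groth.Agent.Neron.K485.CompCyc
import Groth.Agent.AbVar.K521.BcTate
import Groth.Agent.Sga7.H736.Interface
import Groth.Agent.Sga7.H333.NeronSemi
import Groth.Agent.S4056
import Groth.Agent.Sga7.H620.TorsCount
import Groth.Agent.Sga7.H750.NeronMain

/-!
# Powers of points of semi-abelian schemes over strictly henselian discrete valuation rings extend

`exists_pow_uniform`: a group scheme of finite type over a field and an open subgroup: all `k`-points have a uniform
power in the subgroup.

`exists_pow_extend`: `𝒜` a semi-abelian scheme over a strictly henselian discrete valuation ring `V` with proper generic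
fibre: there is `m > 0` such that the `m`-th power of every point of the generic fibre extends to a section.
-/

set_option autoImplicit false
universe u

open CategoryTheory Limits AlgebraicGeometry MonoidalCategory CartesianMonoidalCategory
open scoped MonObj

namespace K485.PowExt

section field

variable {k : Type u} [Field k] {H Q : Over (Spec (CommRingCat.of k))} [GrpObj H] [GrpObj Q]

open K485.CompCyc

/-- All rational points have a uniform power in a given open subgroup. -/
theorem exists_pow_uniform [LocallyOfFiniteType H.hom] [QuasiCompact H.hom] (j : Q ⟶ H) [IsMonHom j]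
    [IsOpenImmersion j.left] :
    ∃ N : ℕ, 0 < N ∧ ∀ x : 𝟙_ (Over (Spec (CommRingCat.of k))) ⟶ H,
      ∃ q : 𝟙_ (Over (Spec (CommRingCat.of k))) ⟶ Q, q ≫ j = x ^ N := by
  have hfin : Finite (ConnectedComponents H.left) := inferInstance
  have := Fintype.ofFinite (ConnectedComponents H.left)
  set C := Fintype.card (ConnectedComponents H.left)
  refine ⟨C.factorial, C.factorial_pos, fun x => ?_⟩
  obtain ⟨n, m, hne, hF⟩ := Fintype.exists_ne_map_eq_of_card_lt
    (fun n : Fin (C + 1) => ConnectedComponents.mk (pt (x ^ (n : ℕ)))) (by simp [C])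
  wlog hlt : n < m generalizing n m
  · exact this m n hne.symm hF.symm (lt_of_le_of_ne (not_lt.1 hlt) hne.symm)
  have h1 : pt (x ^ (m : ℕ)) ∈ connectedComponent (pt (x ^ (n : ℕ))) := by
    have h2 : connectedComponent (pt (x ^ (n : ℕ))) = connectedComponent (pt (x ^ (m : ℕ))) :=
      ConnectedComponents.coe_eq_coe.1 hF
    rw [h2]
    exact mem_connectedComponent
  obtain ⟨q, hq⟩ := exists_of_mem j _ _ h1
  have hlt' : (n : ℕ) < m := hlt
  have hd : (m : ℕ) - n ∣ C.factorial :=
    Nat.dvd_factorial (Nat.sub_pos_of_lt hlt') (by have := m.2; omega)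
  obtain ⟨c, hc⟩ := hd
  refine ⟨q ^ c, ?_⟩
  rw [hc, pow_mul, MonObj.pow_comp, hq, pow_sub x hlt'.le]

end field

section dvr

variable {V K : Type u} [CommRing V] [IsDomain V] [IsDiscreteValuationRing V] [Field K] [Algebra V K]
  [IsFractionRing V K]

/-- the generic point as a `V`-scheme -/
noncomputable abbrev gp (V K : Type u) [CommRing V] [Field K] [Algebra V K] : Over (Spec (CommRingCat.of V)) :=
  Over.mk (Spec.map (CommRingCat.ofHom (algebraMap V K)))

/-- the inclusion of the generic point -/
noncomputable def inc (V K : Type u) [CommRing V] [Field K] [Algebra V K] :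
    gp V K ⟶ 𝟙_ (Over (Spec (CommRingCat.of V))) :=
  Over.homMk (Spec.map (CommRingCat.ofHom (algebraMap V K)))

omit [IsDomain V] [IsDiscreteValuationRing V] [IsFractionRing V K] in
/-- The points of a Neron model extend. -/
theorem exists_section (N : Over (Spec (CommRingCat.of V))) (hN : SGA7.IsNeron V K N) (d : gp V K ⟶ N) :
    ∃ s : 𝟙_ (Over (Spec (CommRingCat.of V))) ⟶ N, inc V K ≫ s = d := by
  set f := Spec.map (CommRingCat.ofHom (algebraMap V K)) with hf
  have hd : d.left ≫ N.hom = f := Over.w d
  let g' : (SGA7.genFib V K).obj (𝟙_ (Over (Spec (CommRingCat.of V)))) ⟶ (SGA7.genFib V K).obj N :=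
    Over.homMk (pullback.lift (pullback.snd _ _ ≫ d.left) (pullback.snd _ _) (by rw [Category.assoc, hd]))
      (pullback.lift_snd _ _ _)
  have hY : Smooth (𝟙_ (Over (Spec (CommRingCat.of V)))).hom := by dsimp; infer_instance
  obtain ⟨g, hg⟩ := (hN.2.2.2 _ hY).2 g'
  refine ⟨g, ?_⟩
  ext1
  change f ≫ g.left = d.left
  have h1 : ((SGA7.genFib V K).map g).left ≫ pullback.fst N.hom f =
      pullback.fst (𝟙_ (Over (Spec (CommRingCat.of V)))).hom f ≫ g.left := pullback.lift_fst _ _ _
  have h2 : (SGA7.genFib V K).map g = g' := hg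
  let σ : Spec (CommRingCat.of K) ⟶ pullback (𝟙_ (Over (Spec (CommRingCat.of V)))).hom f :=
    pullback.lift f (𝟙 _) (by rw [Category.id_comp]; exact Category.comp_id f)
  have h3 : σ ≫ pullback.fst _ _ = f := pullback.lift_fst _ _ _
  have h4 : σ ≫ pullback.snd _ _ = 𝟙 _ := pullback.lift_snd _ _ _
  have h5 : g'.left ≫ pullback.fst N.hom f = pullback.snd _ _ ≫ d.left := pullback.lift_fst _ _ _
  calc f ≫ g.left = σ ≫ pullback.fst _ _ ≫ g.left := by rw [← Category.assoc, h3]
    _ = σ ≫ ((SGA7.genFib V K).map g).left ≫ pullback.fst N.hom f := by rw [h1]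
    _ = σ ≫ g'.left ≫ pullback.fst N.hom f := by rw [h2]
    _ = σ ≫ pullback.snd _ _ ≫ d.left := by rw [h5]
    _ = d.left := by rw [← Category.assoc, h4, Category.id_comp]

omit [IsDomain V] [IsDiscreteValuationRing V] [Field K] [Algebra V K] [IsFractionRing V K] in
/-- Lift of a section through an open immersion. -/
theorem exists_lift [IsLocalRing V] {N 𝒜 : Over (Spec (CommRingCat.of V))} (u : 𝒜 ⟶ N) [IsOpenImmersion u.left]
    (s : 𝟙_ (Over (Spec (CommRingCat.of V))) ⟶ N)
    (hs : s.left (IsLocalRing.closedPoint V) ∈ Set.range u.left) :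
    ∃ c' : 𝟙_ (Over (Spec (CommRingCat.of V))) ⟶ 𝒜, c' ≫ u = s := by
  have h3 : Set.range s.left ⊆ Set.range u.left := by
    rintro _ ⟨y, rfl⟩
    have h4 : y ⤳ IsLocalRing.closedPoint V := IsLocalRing.specializes_closedPoint y
    have h5 : s.left y ⤳ s.left (IsLocalRing.closedPoint V) := h4.map s.left.continuous
    exact h5.mem_open u.left.isOpenEmbedding.isOpen_range hs
  refine ⟨Over.homMk (IsOpenImmersion.lift u.left s.left h3) ?_, ?_⟩
  · rw [← Over.w u, ← Category.assoc, IsOpenImmersion.lift_fac]
    exact Over.w s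
  · ext1
    exact IsOpenImmersion.lift_fac _ _ _

attribute [local instance] Functor.grpObjObj in
omit [IsFractionRing V K] in
/-- Powers of points of a Neron model extend to a given open subgroup with the same generic fibre. -/
theorem exists_pow (N 𝒜 : Over (Spec (CommRingCat.of V))) [GrpObj N] [GrpObj 𝒜] (hN : SGA7.IsNeron V K N)
    (u : 𝒜 ⟶ N) [IsMonHom u] [IsOpenImmersion u.left] :
    ∃ m : ℕ, 0 < m ∧ ∀ c : gp V K ⟶ 𝒜, ∃ c' : 𝟙_ (Over (Spec (CommRingCat.of V))) ⟶ 𝒜,
      inc V K ≫ c' = c ^ m := by
  set k := IsLocalRing.ResidueField V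
  let r : Spec (CommRingCat.of k) ⟶ Spec (CommRingCat.of V) := Spec.map (CommRingCat.ofHom (IsLocalRing.residue V))
  let j : (Over.pullback r).obj 𝒜 ⟶ (Over.pullback r).obj N := (Over.pullback r).map u
  have := hN.1
  have := hN.2.2.1
  have hj : IsOpenImmersion j.left := by
    have h2 : j.left ≫ pullback.snd N.hom r = pullback.snd 𝒜.hom r := pullback.lift_snd _ _ _
    have h3 : j.left ≫ pullback.fst N.hom r = pullback.fst 𝒜.hom r ≫ u.left := pullback.lift_fst _ _ _
    have h1 : IsPullback (pullback.fst 𝒜.hom r) j.left u.left (pullback.fst N.hom r) := by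
      refine IsPullback.of_bot (v₂₁ := pullback.snd N.hom r) (h₃₁ := r) (v₂₂ := N.hom) ?_ h3.symm
        (IsPullback.of_hasPullback _ _)
      rw [h2, Over.w u]
      exact IsPullback.of_hasPullback _ _
    exact MorphismProperty.of_isPullback h1 inferInstance
  have hjm : IsMonHom j := inferInstance
  have hlft : LocallyOfFiniteType ((Over.pullback r).obj N).hom := by
    change LocallyOfFiniteType (pullback.snd N.hom r); infer_instance
  have hqc : QuasiCompact ((Over.pullback r).obj N).hom := by
    change QuasiCompact (pullback.snd N.hom r); infer_instance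
  obtain ⟨m, hm, H⟩ := exists_pow_uniform j
  refine ⟨m, hm, fun c => ?_⟩
  obtain ⟨s, hs⟩ := exists_section N hN (c ≫ u)
  let ir : Over.mk r ⟶ 𝟙_ (Over (Spec (CommRingCat.of V))) := Over.homMk r
  obtain ⟨q, hq⟩ := H (K521.BcTate.toPt r N (ir ≫ s))
  have h1 : K521.BcTate.toPt r N (ir ≫ s) ^ m = K521.BcTate.toPt r N (ir ≫ s ^ m) := by
    rw [MonObj.comp_pow]
    exact (map_pow (K521.BcTate.ptsEquiv r N) (ir ≫ s) m).symm
  have h2 : q.left ≫ j.left ≫ pullback.fst N.hom r = r ≫ (s ^ m).left := by
    have h3 := congrArg (fun z => z.left ≫ pullback.fst N.hom r) (hq.trans h1)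
    exact ((Category.assoc _ _ _).symm.trans h3).trans (K521.BcTate.toPt_left_fst r N _)
  have h3 : j.left ≫ pullback.fst N.hom r = pullback.fst 𝒜.hom r ≫ u.left := pullback.lift_fst _ _ _
  have h4 : (s ^ m).left (IsLocalRing.closedPoint V) ∈ Set.range u.left := by
    have h5 : r (IsLocalRing.closedPoint k) = IsLocalRing.closedPoint V := by
      exact IsLocalRing.PrimeSpectrum.comap_residue _ _
    rw [← h5]
    refine ⟨(q.left ≫ pullback.fst 𝒜.hom r) (IsLocalRing.closedPoint k), ?_⟩
    rw [← Scheme.Hom.comp_apply, Category.assoc, ← h3, h2]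
    rfl
  obtain ⟨c', hc'⟩ := exists_lift u (s ^ m) h4
  refine ⟨c', ?_⟩
  have h5 : Mono u.left := inferInstance
  have h6 : Mono u := Over.mono_of_mono_left u
  rw [← cancel_mono u, Category.assoc, hc', MonObj.comp_pow, hs, ← MonObj.pow_comp]

attribute [local instance] Functor.grpObjObj in
/-- **Powers extend**: `𝒜` a semi-abelian scheme over a strictly henselian discrete valuation ring with proper generic
fibre; some power of every point of the generic fibre extends to a section. -/
theorem exists_pow_extend [HenselianLocalRing V] [IsSepClosed (IsLocalRing.ResidueField V)]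
    (𝒜 : Over (Spec (CommRingCat.of V))) [GrpObj 𝒜] [Smooth 𝒜.hom] [IsSeparated 𝒜.hom]
    [QuasiCompact 𝒜.hom] (hsab : SGA7.FibresUnipotentRankZero 𝒜)
    (hconn : ∀ (L : Type u) [Field L] (t : Spec (CommRingCat.of L) ⟶ Spec (CommRingCat.of V)),
      ConnectedSpace ↑(pullback 𝒜.hom t))
    (hprop : IsProper (pullback.snd 𝒜.hom (Spec.map (CommRingCat.ofHom (algebraMap V K))))) :
    ∃ m : ℕ, 0 < m ∧ ∀ c : Over.mk (Spec.map (CommRingCat.ofHom (algebraMap V K))) ⟶ 𝒜,
      ∃ c' : Over.mk (𝟙 (Spec (CommRingCat.of V))) ⟶ 𝒜,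
        (Over.homMk (Spec.map (CommRingCat.ofHom (algebraMap V K))) :
          Over.mk (Spec.map (CommRingCat.ofHom (algebraMap V K))) ⟶ Over.mk (𝟙 (Spec (CommRingCat.of V)))) ≫ c' =
            c ^ m := by
  let A := (SGA7.genFib V K).obj 𝒜
  have hA1 : IsProper A.hom := hprop
  have hA2 : Smooth A.hom := by change Smooth (pullback.snd 𝒜.hom _); infer_instance
  have hA3 : ConnectedSpace A.left := hconn K _
  have hA4 : GeometricallyIntegral A.hom := Groth.Agent.Sga7.H620.TorsCount.geometricallyIntegral_of_smooth_connected A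
  obtain ⟨N, _, e, he, hN⟩ := Groth.Agent.Sga7.H750.NeronMain.neAll V K A
  have he1 := he
  have he' : IsMonHom e.inv := inferInstance
  obtain ⟨u, hu, hue⟩ := Groth.Agent.Sga7.H333.NeronSemi.exists_hom_of_isNeron V K 𝒜 N hN e.inv
  have hiso : IsIso ((SGA7.genFib V K).map u) := by rw [hue]; infer_instance
  have hN1 : IsProper ((SGA7.genFib V K).obj N).hom := by
    rw [← Over.w e.hom]; infer_instance
  have hN2 : GeometricallyIntegral ((SGA7.genFib V K).obj N).hom := by
    have h1 : ConnectedSpace ((SGA7.genFib V K).obj N).left :=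
      (e.inv.left.homeomorph.surjective).connectedSpace e.inv.left.homeomorph.continuous
    have h2 := hN.1
    have h3 : Smooth ((SGA7.genFib V K).obj N).hom := by change Smooth (pullback.snd N.hom _); infer_instance
    exact Groth.Agent.Sga7.H620.TorsCount.geometricallyIntegral_of_smooth_connected _
  have := Groth.Agent.S4056.result V K N hN 𝒜 hsab u
  exact exists_pow N 𝒜 hN u

end dvr

end K485.PowExt
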