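import Groth.Agent.Neron.K485.LocGlue
import Groth.Agent.Neron.K485.DivExtMain
import Groth.Agent.Neron.K485.PowExt
import Groth.Agent.Neron.K446.Nmp
import Groth.Agent.Neron.K446.StrictPt
import Groth.Agent.Ega4late.H521.SchDenseAffine

/-!
# Local Néron models from affine charts of the divisor
-/

set_option autoImplicit false
universe u

open IsLocalRing CategoryTheory CategoryTheory.Limits AlgebraicGeometry MonObj
open MonoidalCategory CartesianMonoidalCategory

namespace K485.ChartLoc

open Groth.Agent.Neron.K446.Local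
open Groth.Agent.Sga67.TorsionLift (sp spMap spMap_comp)

/-- Strict henselizations at points of the divisor. -/
theorem exists_strict {A : Type u} [CommRing A] {x : A} (hA : RegPair A x) (q : Ideal A) [q.IsPrime] (hq : x ∈ q) :
    ∃ (R : Type u) (_ : CommRing R) (_ : Algebra A R) (_ : IsRegularLocalRing R) (_ : HenselianLocalRing R)
      (_ : IsSepClosed (ResidueField R)), Par x R ∧ EtPBC.IsIndEtale A R ∧
      (maximalIdeal R).comap (algebraMap A R) = q := by
  obtain ⟨R, _, _, algR, hloc, hR⟩ := Groth.Agent.S0537.result (Localization.AtPrime q)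
  let algAR : Algebra A R := ((algebraMap (Localization.AtPrime q) R).comp
    (algebraMap A (Localization.AtPrime q))).toAlgebra
  have htR : IsScalarTower A (Localization.AtPrime q) R := IsScalarTower.of_algebraMap_eq fun _ => rfl
  obtain ⟨h1, h2, h3, h4, h5⟩ := hA.par q hq R
  refine ⟨R, inferInstance, algAR, h1, h2, h3, ⟨h4, h5⟩, ?_, ?_⟩
  · exact Groth.Agent.Proet.IndEtale.isIndEtale_trans A (Localization.AtPrime q) R
      (Groth.Agent.Etbc.H193.PbkLocal.isIndEtale_of_isLocalization q.primeCompl (Localization.AtPrime q))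
      (Groth.Agent.Etbc.H193.PbkLocal.isIndEtale_of_isStrictHenselization (Localization.AtPrime q) R)
  · have h7 : (maximalIdeal R).comap (algebraMap (Localization.AtPrime q) R) =
        maximalIdeal (Localization.AtPrime q) :=
      congrArg PrimeSpectrum.asIdeal (IsLocalRing.comap_closedPoint (algebraMap (Localization.AtPrime q) R))
    rw [IsScalarTower.algebraMap_eq A (Localization.AtPrime q) R, ← Ideal.comap_comap, h7]
    exact Localization.AtPrime.under_maximalIdeal

/-- The complement of the divisor is schematically dense. -/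
theorem isSchematicallyDense {A : Type u} [CommRing A] {x : A} {A' : Type u} [CommRing A'] [Algebra A A']
    (hx : algebraMap A A' x ∈ nonZeroDivisors A')
    (U : (Spec (CommRingCat.of A')).Opens) (hU : (U : Set (Spec (CommRingCat.of A'))) = Set.range (st A' (Rx x A'))) :
    CInt.IsSchematicallyDense U := by
  let t : Γ(Spec (CommRingCat.of A'), ⊤) := (Scheme.ΓSpecIso (CommRingCat.of A')).inv (algebraMap A A' x)
  have ht : t ∈ nonZeroDivisors Γ(Spec (CommRingCat.of A'), ⊤) := by
    let e : A' ≃+* Γ(Spec (CommRingCat.of A'), ⊤) := (Scheme.ΓSpecIso (CommRingCat.of A')).symm.commRingCatIsoToRingEquiv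
    have h1 : e (algebraMap A A' x) ∈ (nonZeroDivisors A').map e := ⟨_, hx, rfl⟩
    rw [MulEquivClass.map_nonZeroDivisors] at h1
    exact h1
  refine Groth.Agent.Ega4late.H521.SchDenseAffine.isSchematicallyDense_of_basicOpen_le ht ?_
  rw [basicOpen_eq_of_affine']
  intro s hs
  change s ∈ (U : Set (Spec (CommRingCat.of A')))
  rw [hU, mem_range_st_iff]
  have h2 : (Scheme.ΓSpecIso (CommRingCat.of A')).hom t = algebraMap A A' x := by
    simp [t]
  rw [h2] at hs
  exact hs

/-- **Local Néron models from charts.** -/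
theorem loc_of_chart (hE : DivExt.{u}) (hP : PowExt.{u}) {S : Scheme.{u}} (U : S.Opens) (𝒜 : Over S)
    {A : Type u} [CommRing A] {x : A} (k : Spec (CommRingCat.of A) ⟶ S) [Etale k]
    (G : Over (Spec (CommRingCat.of A))) [GrpObj G] [IsCommMonObj G] [Smooth G.hom] [IsSeparated G.hom]
    [QuasiCompact G.hom] (c : G.left ⟶ 𝒜.left) (hc : IsPullback c G.hom 𝒜.hom k) (hG : SA x G) (hA : RegPair A x)
    (hU : ∀ p : PrimeSpectrum A, k p ∈ U ↔ x ∉ p.asIdeal) (p : PrimeSpectrum A) (hp : x ∈ p.asIdeal) :
    LocGlue.Loc U 𝒜 (k p) := by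
  obtain ⟨R, _, _, _, _, _, hR, hind, hcomap⟩ := exists_strict hA p.asIdeal hp
  obtain ⟨A', _, _, _, χ, -, -, I, _, _, m, b, hgood⟩ := hG.exists_nbhd_aux hE hP hA R hR hind
  obtain ⟨N, φ, j, h⟩ := exists_glued G b
  have hsep := h.isSeparated' hG hA hgood
  have hsm := h.smooth
  have hnzd : algebraMap A A' x ∈ nonZeroDivisors A' := (hA.of_smooth A').nzd
  let g : Spec (CommRingCat.of A') ⟶ S := st A A' ≫ k
  have het : Etale (st A A') := by
    rw [HasRingHomProperty.Spec_iff (P := @Etale)]
    exact (RingHom.etale_algebraMap (R := A) (S := A')).mpr inferInstance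
  have hget : Etale g := inferInstance
  have hrange : Set.range (st A' (Rx x A')) = g ⁻¹' (U : Set S) := by
    ext s
    rw [mem_range_st_iff]
    change _ ↔ g s ∈ U
    rw [Scheme.Hom.comp_apply]
    exact ((hU (st A A' s)).trans Iff.rfl).symm
  have hg : ((g ⁻¹ᵁ U : (Spec (CommRingCat.of A')).Opens) : Set (Spec (CommRingCat.of A'))) =
      Set.range (st A' (Rx x A')) := hrange.symm
  have hUd := isSchematicallyDense hnzd _ hg
  let s' : PrimeSpectrum A' := ⟨(maximalIdeal R).comap χ, Ideal.IsPrime.comap _⟩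
  have hs' : g s' = k p := by
    change k (st A A' s') = k p
    congr 1
    apply PrimeSpectrum.ext
    change ((maximalIdeal R).comap χ).comap (algebraMap A A') = p.asIdeal
    rw [← hcomap]
    ext a
    simp only [Ideal.mem_comap, AlgHom.commutes]
  refine ⟨Spec (CommRingCat.of A'), g, hget, s', hs', N.left, N.hom, hsm, hsep, Spec (CommRingCat.of (Rx x A')),
    st A' (Rx x A'), inferInstance, hrange, (G ⊗ Yx x A').left, j.left, (snd G (Yx x A')).left,
    (fst G (Yx x A')).left ≫ c, h.isPullback_j, ?_, ?_⟩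
  · have h1 : IsPullback (fst G (Yx x A')).left (snd G (Yx x A')).left G.hom (Yx x A').hom :=
      IsPullback.of_hasPullback _ _
    have h2 := h1.paste_horiz hc
    have h3 : st A' (Rx x A') ≫ g = (Yx x A').hom ≫ k := by
      change st A' (Rx x A') ≫ st A A' ≫ k = st A (Rx x A') ≫ k
      rw [← Category.assoc, st_comp]
    rw [h3]
    exact h2
  · intro Y p hp
    exact h.extU hA hgood (g ⁻¹ᵁ U) hg hUd p

end K485.ChartLoc
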