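import Groth.Agent.Localalg.GrpSchPts
import Mathlib.RingTheory.IntegralDomain
import Mathlib.AlgebraicGeometry.Noetherian
import Mathlib.Topology.NoetherianSpace
import Groth.Prelude.Def_Neron
import Mathlib.CategoryTheory.Monoidal.Cartesian.Over

/-!
# Component groups with a character trivial on the identity component

`H` is a commutative group scheme of finite type over a field `k`, `j₀ : Q ⟶ H` a connected open subgroup and
`θ : H(k) → kˣ` a homomorphism trivial on `Q(k)`. If every element of the kernel of `θ` which has a power in `Q(k)` has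
a `P ^ s`-th power in `Q(k)`, then there is a `k`-point `x₀` such that every `k`-point has a `P ^ s`-th power in the
connected component of a power of `x₀`.
-/

set_option autoImplicit false
universe u

open CategoryTheory Limits AlgebraicGeometry MonoidalCategory CartesianMonoidalCategory
open scoped MonObj

namespace K485.CompCyc

variable {k : Type u} [Field k] {H Q : Over (Spec (CommRingCat.of k))} [GrpObj H] [GrpObj Q]

/-- the underlying point of a rational point -/
noncomputable def pt {H : Over (Spec (CommRingCat.of k))} (x : 𝟙_ (Over (Spec (CommRingCat.of k))) ⟶ H) : H.left :=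
  x.left (IsLocalRing.closedPoint k)

omit [GrpObj H] in
theorem comp_toUnit (x : 𝟙_ (Over (Spec (CommRingCat.of k))) ⟶ H) : x ≫ toUnit H = 𝟙 _ := toUnit_unique _ _

omit [GrpObj Q] in
theorem comp_mul_const (x : 𝟙_ (Over (Spec (CommRingCat.of k))) ⟶ Q) (j : Q ⟶ H)
    (z : 𝟙_ (Over (Spec (CommRingCat.of k))) ⟶ H) : x ≫ (j * (toUnit Q ≫ z)) = (x ≫ j) * z := by
  rw [MonObj.comp_mul, ← Category.assoc, comp_toUnit, Category.id_comp]

omit [GrpObj H] in
theorem mem_of_comp {H' : Over (Spec (CommRingCat.of k))} (f : H' ⟶ H)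
    (x y : 𝟙_ (Over (Spec (CommRingCat.of k))) ⟶ H') (h : pt x ∈ connectedComponent (pt y)) :
    pt (x ≫ f) ∈ connectedComponent (pt (y ≫ f)) :=
  f.left.continuous.mapsTo_connectedComponent _ h

/-- Translations preserve connected components. -/
theorem mem_mul (x y z : 𝟙_ (Over (Spec (CommRingCat.of k))) ⟶ H) (h : pt x ∈ connectedComponent (pt y)) :
    pt (x * z) ∈ connectedComponent (pt (y * z)) := by
  have h1 := mem_of_comp ((𝟙 H) * (toUnit H ≫ z)) x y h
  rwa [comp_mul_const, comp_mul_const, Category.comp_id, Category.comp_id] at h1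

omit [GrpObj Q] in
/-- The translates of a connected group are connected. -/
theorem mem_of_sub [ConnectedSpace Q.left] (j : Q ⟶ H) (q q' : 𝟙_ (Over (Spec (CommRingCat.of k))) ⟶ Q)
    (y : 𝟙_ (Over (Spec (CommRingCat.of k))) ⟶ H) :
    pt ((q ≫ j) * y) ∈ connectedComponent (pt ((q' ≫ j) * y)) := by
  have h1 := mem_of_comp (j * (toUnit Q ≫ y)) q q' (by
    rw [PreconnectedSpace.connectedComponent_eq_univ]
    trivial)
  rwa [comp_mul_const, comp_mul_const] at h1

theorem mem_of_eq_comp [ConnectedSpace Q.left] (j : Q ⟶ H) [IsMonHom j]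
    (q : 𝟙_ (Over (Spec (CommRingCat.of k))) ⟶ Q) (x y : 𝟙_ (Over (Spec (CommRingCat.of k))) ⟶ H)
    (h : q ≫ j = x * y⁻¹) : pt x ∈ connectedComponent (pt y) := by
  have h1 := mem_of_sub j q 1 y
  rwa [h, MonObj.one_comp, one_mul, inv_mul_cancel_right] at h1

/-- Points in the identity component are in every open subgroup. -/
theorem exists_eq_comp (j : Q ⟶ H) [IsMonHom j] [IsOpenImmersion j.left]
    (x : 𝟙_ (Over (Spec (CommRingCat.of k))) ⟶ H) (hx : pt x ∈ connectedComponent (pt (1 : _ ⟶ H))) :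
    ∃ q : 𝟙_ (Over (Spec (CommRingCat.of k))) ⟶ Q, q ≫ j = x := by
  have hcl : IsClosed (Set.range j.left) :=
    (Groth.Agent.Localalg.GrpSchPts.isSubgroupSet_range H j).isClosed_of_isOpen
      j.left.isOpenEmbedding.isOpen_range
  have hop : IsOpen (Set.range j.left) := j.left.isOpenEmbedding.isOpen_range
  have h1 : pt (1 : 𝟙_ (Over (Spec (CommRingCat.of k))) ⟶ H) ∈ Set.range j.left := by
    have h2 : (1 : 𝟙_ (Over (Spec (CommRingCat.of k))) ⟶ Q) ≫ j = 1 := MonObj.one_comp _
    rw [← h2]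
    exact ⟨pt 1, rfl⟩
  have h2 : pt x ∈ Set.range j.left :=
    (IsClopen.connectedComponent_subset ⟨hcl, hop⟩ h1) hx
  have h3 : Set.range x.left ⊆ Set.range j.left := by
    rintro _ ⟨s, rfl⟩
    have hs : s = IsLocalRing.closedPoint k := Subsingleton.elim (α := PrimeSpectrum k) _ _
    rw [hs]
    exact h2
  let q : Spec (CommRingCat.of k) ⟶ Q.left := IsOpenImmersion.lift j.left x.left h3
  have hq : q ≫ j.left = x.left := IsOpenImmersion.lift_fac _ _ _
  refine ⟨Over.homMk q ?_, ?_⟩
  · rw [← Over.w j, ← Category.assoc, hq]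
    exact Over.w x
  · ext1
    exact hq

/-- Points in the same component differ by a point of the connected open subgroup. -/
theorem exists_of_mem (j : Q ⟶ H) [IsMonHom j] [IsOpenImmersion j.left]
    (x y : 𝟙_ (Over (Spec (CommRingCat.of k))) ⟶ H) (h : pt x ∈ connectedComponent (pt y)) :
    ∃ q : 𝟙_ (Over (Spec (CommRingCat.of k))) ⟶ Q, q ≫ j = x * y⁻¹ := by
  apply exists_eq_comp
  have h1 := mem_mul x y y⁻¹ h
  rwa [mul_inv_cancel] at h1

/-- A Noetherian space has finitely many connected components. -/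
theorem finite_components (X : Type*) [TopologicalSpace X] [TopologicalSpace.NoetherianSpace X] :
    Finite (ConnectedComponents X) := by
  have hfin : Finite (irreducibleComponents X) := TopologicalSpace.NoetherianSpace.finite_irreducibleComponents
  have hne : ∀ Z : irreducibleComponents X, ∃ x, x ∈ (Z : Set X) := fun Z => Z.2.1.1
  choose f hf using hne
  refine Finite.of_surjective (fun Z => ConnectedComponents.mk (f Z)) ?_
  intro y
  obtain ⟨x, rfl⟩ := ConnectedComponents.surjective_coe y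
  refine ⟨⟨irreducibleComponent x, irreducibleComponent_mem_irreducibleComponents x⟩, ?_⟩
  apply ConnectedComponents.coe_eq_coe'.2
  exact isIrreducible_irreducibleComponent.isConnected.isPreconnected.subset_connectedComponent
    mem_irreducibleComponent (hf ⟨irreducibleComponent x, irreducibleComponent_mem_irreducibleComponents x⟩)

variable [LocallyOfFiniteType H.hom] [QuasiCompact H.hom]

instance finite_connectedComponents : Finite (ConnectedComponents H.left) := by
  have : IsLocallyNoetherian H.left := LocallyOfFiniteType.isLocallyNoetherian H.hom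
  have : CompactSpace H.left := QuasiCompact.compactSpace_of_compactSpace H.hom
  have : IsNoetherian H.left := { }
  exact finite_components _

/-- Every point has a power in a given open subgroup. -/
theorem exists_pow (j : Q ⟶ H) [IsMonHom j] [IsOpenImmersion j.left]
    (x : 𝟙_ (Over (Spec (CommRingCat.of k))) ⟶ H) :
    ∃ N : ℕ, 0 < N ∧ ∃ q : 𝟙_ (Over (Spec (CommRingCat.of k))) ⟶ Q, q ≫ j = x ^ N := by
  obtain ⟨n, m, hne, hF⟩ := Finite.exists_ne_map_eq_of_infinite
    (fun n : ℕ => ConnectedComponents.mk (pt (x ^ n)))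
  wlog hlt : n < m generalizing n m
  · exact this m n hne.symm hF.symm (lt_of_le_of_ne (not_lt.1 hlt) hne.symm)
  have h1 : pt (x ^ m) ∈ connectedComponent (pt (x ^ n)) := by
    have h2 : connectedComponent (pt (x ^ n)) = connectedComponent (pt (x ^ m)) :=
      ConnectedComponents.coe_eq_coe.1 hF
    rw [h2]
    exact mem_connectedComponent
  obtain ⟨q, hq⟩ := exists_of_mem j _ _ h1
  refine ⟨m - n, Nat.sub_pos_of_lt hlt, q, ?_⟩
  rw [hq, pow_sub x hlt.le]

/-- **Cyclicity of the component group** away from `P`. -/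
theorem exists_generator [ConnectedSpace Q.left] (j : Q ⟶ H) [IsMonHom j] [IsOpenImmersion j.left]
    (hcomm : ∀ x y : 𝟙_ (Over (Spec (CommRingCat.of k))) ⟶ H, x * y = y * x)
    (θ : (𝟙_ (Over (Spec (CommRingCat.of k))) ⟶ H) →* kˣ)
    (hθ : ∀ q : 𝟙_ (Over (Spec (CommRingCat.of k))) ⟶ Q, θ (q ≫ j) = 1) (P : ℕ)
    (hP : ∀ z : 𝟙_ (Over (Spec (CommRingCat.of k))) ⟶ H, θ z = 1 → ∀ N : ℕ, 0 < N →
      (∃ q : 𝟙_ (Over (Spec (CommRingCat.of k))) ⟶ Q, q ≫ j = z ^ N) →
      ∃ (s : ℕ) (q : 𝟙_ (Over (Spec (CommRingCat.of k))) ⟶ Q), q ≫ j = z ^ (P ^ s)) :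
    ∃ x₀ : 𝟙_ (Over (Spec (CommRingCat.of k))) ⟶ H, ∀ x : 𝟙_ (Over (Spec (CommRingCat.of k))) ⟶ H,
      ∃ s m : ℕ, pt (x ^ (P ^ s)) ∈ connectedComponent (pt ((x₀ ^ m) ^ (P ^ s))) := by
  have hfin : Finite θ.range := by
    choose f hf using fun v : θ.range => v.2
    refine Finite.of_injective (fun v : θ.range => ConnectedComponents.mk (pt (f v))) ?_
    intro v v' h
    have h1 : connectedComponent (pt (f v)) = connectedComponent (pt (f v')) :=
      ConnectedComponents.coe_eq_coe.1 h
    have h2 : pt (f v) ∈ connectedComponent (pt (f v')) := h1 ▸ mem_connectedComponent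
    obtain ⟨q, hq⟩ := exists_of_mem j _ _ h2
    have h3 := hθ q
    rw [hq, map_mul, map_inv, hf, hf, mul_inv_eq_one] at h3
    exact Subtype.ext h3
  obtain ⟨⟨ζ, x₀, hx₀⟩, hζ⟩ := IsCyclic.exists_generator (α := θ.range)
  refine ⟨x₀, fun x => ?_⟩
  have h1 : (⟨θ x, x, rfl⟩ : θ.range) ∈ Subgroup.zpowers (⟨ζ, x₀, hx₀⟩ : θ.range) := hζ _
  rw [← mem_powers_iff_mem_zpowers] at h1
  obtain ⟨m, hm⟩ := h1
  have hm' : ζ ^ m = θ x := congrArg Subtype.val hm
  have h2 : θ (x * (x₀ ^ m)⁻¹) = 1 := by
    rw [map_mul, map_inv, map_pow, hx₀, hm', mul_inv_cancel]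
  obtain ⟨N, hN, hq⟩ := exists_pow j (x * (x₀ ^ m)⁻¹)
  obtain ⟨s, q, hq⟩ := hP _ h2 N hN hq
  refine ⟨s, m, mem_of_eq_comp j q _ _ ?_⟩
  rw [hq, Commute.mul_pow (hcomm _ _), inv_pow]

end K485.CompCyc
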