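import Groth.Agent.CurvesB.DimOneTop
import Groth.Agent.Sga7.H737.R4
import Groth.Agent.Sga7.H757.Glue
import Groth.Agent.Sga7.H738.TorusG
import Groth.Agent.Sga3.H816.TorusDim
import Groth.Agent.Sga3B.PinTransport
import Groth.Agent.Sga3B.RG.BrHc
import Groth.Agent.Sga3.H830.CommAux
import Groth.Agent.S3270

/-!
# Connected smooth affine groups of dimension one over an algebraically closed field
-/

set_option autoImplicit false
universe u

open CategoryTheory CategoryTheory.Limits MonoidalCategory CartesianMonoidalCategory AlgebraicGeometry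

namespace K485.DimOneGrp

variable {k : Type u} [Field k]

/-- The affine line has two distinct points one of which specializes to the other. -/
theorem exists_specializes_line : ∃ x y : (Groth.Agent.Sga7.H737.AffPt.line k).left, x ⤳ y ∧ y ≠ x := by
  let p : PrimeSpectrum (Polynomial k) := ⟨⊥, Ideal.isPrime_bot⟩
  let q : PrimeSpectrum (Polynomial k) := ⟨Ideal.span {Polynomial.X}, by
    rw [Ideal.span_singleton_prime Polynomial.X_ne_zero]
    exact Polynomial.prime_X⟩
  refine ⟨p, q, ?_, ?_⟩
  · exact (PrimeSpectrum.le_iff_specializes p q).1 bot_le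
  · intro h
    have h1 : Ideal.span {(Polynomial.X : Polynomial k)} = ⊥ := congrArg PrimeSpectrum.asIdeal h
    rw [Ideal.span_singleton_eq_bot] at h1
    exact Polynomial.X_ne_zero h1

theorem exists_specializes_ga : ∃ x y : (Red.Ga (Spec (CommRingCat.of k))).left, x ⤳ y ∧ y ≠ x := by
  obtain ⟨x, y, hxy, hne⟩ := exists_specializes_line (k := k)
  have h1 : IsIso (Groth.Agent.Sga7.H737.R4.gaLine (k := k)).inv.left :=
    inferInstanceAs (IsIso ((Over.forget _).map (Groth.Agent.Sga7.H737.R4.gaLine (k := k)).inv))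
  let g := (Groth.Agent.Sga7.H737.R4.gaLine (k := k)).inv.left
  refine ⟨g x, g y, hxy.map g.continuous, fun h => hne ?_⟩
  exact g.isOpenEmbedding.injective h

/-- A closed immersion into an irreducible scheme of dimension one of a scheme with a non-trivial specialization
is surjective. -/
theorem surjective_of_specializes {C P : Scheme.{u}} (i : C ⟶ P) [IsClosedImmersion i] [IrreducibleSpace P]
    (hP : topologicalKrullDim P = 1) {x y : C} (hxy : x ⤳ y) (hne : y ≠ x) : Surjective i := by
  obtain ⟨-, h2⟩ := Groth.Agent.CurvesB.DimOneTop.topologicalKrullDim_eq_one_iff.1 hP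
  have h3 : ∀ z, z ⤳ i x → z = i x := by
    refine (h2 (i x)).resolve_left fun h => hne ?_
    exact i.isClosedEmbedding.injective (h _ (hxy.map i.continuous))
  have h4 : genericPoint P = i x := h3 _ ((genericPoint_spec P).specializes trivial)
  refine ⟨Set.range_eq_univ.1 (Set.eq_univ_of_univ_subset ?_)⟩
  rw [← (genericPoint_spec P).def, h4]
  exact closure_minimal (by rintro _ rfl; exact ⟨x, rfl⟩) i.isClosedEmbedding.isClosed_range

/-- A group which contains the additive group and is integral of dimension one is the additive group. -/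
theorem nonempty_iso_ga (G : Over (Spec (CommRingCat.of k))) [GrpObj G] [IsIntegral G.left]
    (hdim : topologicalKrullDim ↥G.left = 1)
    (j : Red.Ga (Spec (CommRingCat.of k)) ⟶ G) [IsMonHom j] [IsClosedImmersion j.left] :
    Nonempty (Grp.mk G ≅ Grp.mk (Red.Ga (Spec (CommRingCat.of k)))) := by
  obtain ⟨x, y, hxy, hne⟩ := exists_specializes_ga (k := k)
  have h1 : Surjective j.left := surjective_of_specializes j.left hdim hxy hne
  have h2 : IsIso j.left := isIso_of_isClosedImmersion_of_surjective j.left
  have h3 : IsIso ((Over.forget _).map j) := h2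
  have h4 : IsIso j := isIso_of_reflects_iso j (Over.forget _)
  exact ⟨(Grp.mkIso' (asIso j)).symm⟩

/-- An integral affine group of dimension one over an algebraically closed field is commutative. -/
theorem isCommMonObj [IsAlgClosed k] (G : Over (Spec (CommRingCat.of k))) [GrpObj G] [IsIntegral G.left]
    [IsAffine G.left] [LocallyOfFiniteType G.hom] (hdim : topologicalKrullDim ↥G.left = 1) :
    IsCommMonObj G := by
  obtain ⟨A, _, _, e, he, hft⟩ := Groth.Agent.Sga3B.RG.BrHc.exists_hopf_ft G
  have hiso : IsIso e.hom.left := inferInstanceAs (IsIso ((Over.forget _).map e.hom))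
  have hiso' : IsIso e.inv.left := inferInstanceAs (IsIso ((Over.forget _).map e.inv))
  have hint0 : IsIntegral (Groth.Agent.Books.AffBridge.SpecOver k A).left := by
    have hne : Nonempty (Groth.Agent.Books.AffBridge.SpecOver k A).left := ⟨e.hom.left (Nonempty.some inferInstance)⟩
    exact isIntegral_of_isOpenImmersion e.inv.left
  have hint : IsIntegral (Spec (CommRingCat.of A)) := hint0
  have hdom : IsDomain A := (affine_isIntegral_iff _).1 hint
  have hd : ringKrullDim A = 1 := by
    rw [← PrimeSpectrum.topologicalKrullDim_eq_ringKrullDim, ← hdim]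
    exact (IsHomeomorph.topologicalKrullDim_eq _ (e.hom.left.homeomorph).isHomeomorph).symm
  have hdim' : ∀ P : Ideal A, P.IsPrime → P ≠ ⊥ → P.IsMaximal := by
    intro P hP hne
    have h1 : ∀ I : Ideal A, I ≠ ⊥ → I.IsPrime → I.IsMaximal := by
      rw [← Ring.krullDimLE_one_iff_of_noZeroDivisors, Ring.krullDimLE_iff, hd]
      norm_num
    exact h1 P hne hP
  have hc : Coalgebra.IsCocomm k A := Groth.Agent.Books.CocommDescent.isCocomm_of_commute_points
    (fun p g => Groth.Agent.Books.Dim1.commute_points hdim' p g)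
  have h1 : IsCommMonObj ((Spec (CommRingCat.of A)).asOver (Spec (CommRingCat.of k))) :=
    isCommMonObj_spec_asOver_spec
  exact Groth.Agent.Sga3.H830.CommAux.isCommMonObj_of_mono e.hom

/-- The torus of rank one is the multiplicative group. -/
theorem nonempty_iso_gm (S : Scheme.{u}) :
    Nonempty (Grp.mk (Red.DS S (Fin 1 → ℤ)) ≅ Grp.mk (Red.Gm S)) :=
  ⟨Groth.Agent.Sga3B.PinTransport.dsIso ((LinearEquiv.funUnique (Fin 1) ℤ ℤ).symm.toAddEquiv)⟩

/-- **Structure of connected affine groups of dimension one.** -/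
theorem ga_or_gm [IsAlgClosed k] (G : Over (Spec (CommRingCat.of k))) [GrpObj G] [IsIntegral G.left]
    [IsAffine G.left] [LocallyOfFiniteType G.hom] (hdim : topologicalKrullDim ↥G.left = 1) :
    Nonempty (Grp.mk G ≅ Grp.mk (Red.Ga (Spec (CommRingCat.of k)))) ∨
      Nonempty (Grp.mk G ≅ Grp.mk (Red.Gm (Spec (CommRingCat.of k)))) := by
  have hcomm := isCommMonObj G hdim
  have hsm := Groth.Agent.Books.AlgPtsSmooth.smooth_of_isReduced G
  by_cases h : ∃ j : Red.Ga (Spec (CommRingCat.of k)) ⟶ G, IsMonHom j ∧ IsClosedImmersion j.left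
  · obtain ⟨j, hj, hj'⟩ := h
    exact Or.inl (nonempty_iso_ga G hdim j)
  · right
    obtain ⟨r, ⟨e⟩⟩ := Groth.Agent.Sga7.H738.TorusG.nonempty_iso_ds k G
      (fun j h1 h2 => h ⟨j, h1, h2⟩)
    have hr := Groth.Agent.Sga3.H816.TorusDim.topologicalKrullDim_DS k r
    let e' : G ≅ Red.DS (Spec (CommRingCat.of k)) (Fin r → ℤ) := (Grp.forget _).mapIso e
    have hiso : IsIso e'.hom.left := inferInstanceAs (IsIso ((Over.forget _).map e'.hom))
    have h1 : topologicalKrullDim ↥G.left = (r : WithBot ℕ∞) := by
      rw [← hr]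
      exact IsHomeomorph.topologicalKrullDim_eq _ (e'.hom.left.homeomorph).isHomeomorph
    have h2 : r = 1 := by
      rw [hdim] at h1
      exact_mod_cast h1.symm
    subst h2
    obtain ⟨g⟩ := nonempty_iso_gm (Spec (CommRingCat.of k))
    exact ⟨e ≪≫ g⟩

end K485.DimOneGrp
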