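import Groth.Agent.Flat2E.FinSepClosure
import Mathlib.FieldTheory.RatFunc.Degree
import Mathlib.FieldTheory.AlgebraicClosure
import Mathlib.FieldTheory.IsAlgClosed.Basic
import Mathlib.RingTheory.Norm.Basic

/-!
# Field extensions of finite type: algebraic subextensions have bounded degree, divisible elements are constant
-/

set_option autoImplicit false
universe u

namespace K485.DivFld

open Polynomial

/-- Algebraic subextensions of a finitely generated extension have bounded degree. -/
theorem exists_bound {L : Type u} [Field L] (F₀ : Subfield L) [Algebra.EssFiniteType F₀ L] :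
    ∃ D : ℕ, ∀ (κ E : Type u) [Field κ] [Field E] (ρ : κ →+* E) (φ : E →+* L),
      (φ.comp ρ).fieldRange = F₀ → ρ.IsIntegral → (letI := ρ.toAlgebra; Module.finrank κ E) ≤ D := by
  have hfin : FiniteDimensional F₀ (algebraicClosure F₀ L) :=
    Groth.Agent.Flat2E.FinSepClosure.finiteDimensional_of_isAlgebraic _
  refine ⟨Module.finrank F₀ (algebraicClosure F₀ L), ?_⟩
  intro κ E _ _ ρ φ hF₀ hρ
  let _ := ρ.toAlgebra
  let i : κ ≃+* F₀ := ((RingHom.rangeRestrictFieldEquiv (φ.comp ρ))).trans (RingEquiv.subfieldCongr hF₀)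
  have hi : ∀ a : κ, ((i a : F₀) : L) = φ (ρ a) := fun a => rfl
  have hmem : ∀ e : E, φ e ∈ algebraicClosure F₀ L := by
    intro e
    rw [mem_algebraicClosure_iff]
    obtain ⟨p, hp1, hp2⟩ := hρ e
    refine ⟨p.map (i : κ →+* F₀), ?_, ?_⟩
    · exact (hp1.map (i : κ →+* F₀)).ne_zero
    · rw [Polynomial.aeval_def, Polynomial.eval₂_map]
      have h1 : (algebraMap F₀ L).comp (i : κ →+* F₀) = φ.comp ρ := RingHom.ext hi
      rw [h1, ← Polynomial.hom_eval₂, hp2, map_zero]
  let j : E →+* algebraicClosure F₀ L := φ.codRestrict _ hmem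
  let _ : Algebra F₀ E := (ρ.comp (i.symm : F₀ →+* κ)).toAlgebra
  let j' : E →ₗ[F₀] algebraicClosure F₀ L :=
    { toFun := j
      map_add' := map_add j
      map_smul' := by
        intro c e
        rw [Algebra.smul_def, map_mul, RingHom.id_apply, Algebra.smul_def]
        congr 1
        apply Subtype.ext
        change φ (ρ (i.symm c)) = _
        rw [← hi, RingEquiv.apply_symm_apply]
        rfl }
  have h2 : Module.finrank F₀ E ≤ Module.finrank F₀ (algebraicClosure F₀ L) :=
    LinearMap.finrank_le_finrank_of_injective (f := j') (j.injective)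
  have h3 : Module.finrank κ E = Module.finrank F₀ E := by
    refine Algebra.finrank_eq_of_equiv_equiv i (RingEquiv.refl E) ?_
    ext a
    change ρ (i.symm (i a)) = ρ a
    rw [RingEquiv.symm_apply_apply]
  rw [h3]
  exact h2

/-- Divisible elements of a finitely generated extension of an algebraically closed field are constant. -/
theorem mem_of_divisible {k L : Type u} [Field k] [IsAlgClosed k] [Field L] [Algebra k L]
    [Algebra.EssFiniteType k L] (u : L) (hu : ∀ n : ℕ, 0 < n → ∃ v : L, v ^ n = u) :
    u ∈ (algebraMap k L).range := by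
  by_contra hcon
  have htr : Transcendental k u := by
    intro h
    exact hcon (minpoly.mem_range_of_degree_eq_one k u
      (IsAlgClosed.degree_eq_one_of_irreducible k (minpoly.irreducible h.isIntegral)))
  have hinj : Function.Injective (aeval (R := k) u) := transcendental_iff_injective.mp htr
  let g : RatFunc k →+* L := IsFractionRing.lift (A := k[X]) (g := (aeval (R := k) u).toRingHom) hinj
  have hg : ∀ p : k[X], g (algebraMap k[X] (RatFunc k) p) = aeval u p := fun p =>
    IsFractionRing.lift_algebraMap _ _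
  let _ : Algebra (RatFunc k) L := g.toAlgebra
  have htow : IsScalarTower k (RatFunc k) L := IsScalarTower.of_algebraMap_eq fun a => by
    have h1 := hg (C a)
    rw [aeval_C] at h1
    exact h1.symm
  have hess : Algebra.EssFiniteType (RatFunc k) L := .of_comp k (RatFunc k) L
  have hfin : FiniteDimensional (RatFunc k) (algebraicClosure (RatFunc k) L) :=
    Groth.Agent.Flat2E.FinSepClosure.finiteDimensional_of_isAlgebraic _
  set D := Module.finrank (RatFunc k) (algebraicClosure (RatFunc k) L) with hD
  have hD0 : 0 < D := Module.finrank_pos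
  obtain ⟨v, hv⟩ := hu (D + 1) (Nat.succ_pos _)
  have huX : algebraMap (RatFunc k) L RatFunc.X = u := by
    have h1 := hg X
    rw [aeval_X] at h1
    exact h1
  have hvm : v ∈ algebraicClosure (RatFunc k) L := by
    rw [mem_algebraicClosure_iff]
    refine IsAlgebraic.of_pow (n := D + 1) (Nat.succ_pos _) ?_
    rw [hv, ← huX]
    exact isAlgebraic_algebraMap _
  have h1 : (⟨v, hvm⟩ : algebraicClosure (RatFunc k) L) ^ (D + 1) = algebraMap (RatFunc k) _ RatFunc.X := by
    apply Subtype.ext
    exact hv.trans huX.symm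
  have h2 := congrArg (Algebra.norm (RatFunc k)) h1
  rw [map_pow, Algebra.norm_algebraMap, ← hD] at h2
  have h3 : Algebra.norm (RatFunc k) (⟨v, hvm⟩ : algebraicClosure (RatFunc k) L) ≠ 0 := by
    intro h
    rw [h, zero_pow (Nat.succ_ne_zero _)] at h2
    exact pow_ne_zero _ RatFunc.X_ne_zero h2.symm
  have hpow : ∀ (z : RatFunc k) (_ : z ≠ 0) (m : ℕ), (z ^ m).intDegree = m * z.intDegree := by
    intro z hz m
    induction m with
    | zero => simp
    | succ m ih => rw [pow_succ, RatFunc.intDegree_mul (pow_ne_zero _ hz) hz, ih]; push_cast; ring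
  have h4 := congrArg RatFunc.intDegree h2
  rw [hpow _ h3, hpow _ RatFunc.X_ne_zero, RatFunc.intDegree_X] at h4
  have h5 : ((D + 1 : ℕ) : ℤ) ∣ (D : ℤ) := ⟨_, by rw [h4, mul_one]⟩
  have h6 := Nat.le_of_dvd hD0 (by exact_mod_cast h5)
  omega

end K485.DivFld
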