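import Groth.Agent.S7682
import Groth.Agent.Fga.PosMain
import Groth.Agent.Variety.K420.IntCoeff
import Groth.Agent.Grpsch.MulFin
import Groth.Agent.Pi1C.LefReduce
import Groth.Agent.CycB.ImageInt
import Groth.Agent.CohqB.DevSupport
import Groth.Agent.Flat2B.DimFibre
import Groth.Agent.VarietyB.ExactLoc
import Groth.Agent.Neron.K485.DivFld

/-!
# Divisible points of abelian varieties over finitely generated extensions are constant

`Q` an abelian variety over a field `k`, `L` a finitely generated extension, `x : Spec L ⟶ Q` a point which is an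
`n`-th power for every `n > 0`: the image of `x` is a closed point (`isClosed_of_divisible`).  If `Z` is the closure of
the image of `x`, of dimension `d`, `Z_n` that of an `n`-th root, `M` a symmetric ample module: `n^(2d) (M^d · Z_n) =
([n]^* M ^ d · Z_n) = [κ(Z_n) : κ(Z)] (M^d · Z)` and the degrees `[κ(Z_n) : κ(Z)]` are bounded.
-/

set_option autoImplicit false
universe u

open CategoryTheory Limits AlgebraicGeometry MonoidalCategory CartesianMonoidalCategory
open scoped MonObj

namespace K485.DivAb

open MvPolynomial K420.PolyNat Groth.Agent Groth.Agent.Fga.PicMon Groth.Agent.Grpsch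

theorem coeff_scale {r : ℕ} (P : MvPolynomial (Fin r) ℚ) (a : ℚ) :
    coeff (ones r) (bind₁ (fun i => C a * X i) P) = a ^ r * coeff (ones r) P := by
  induction P using MvPolynomial.induction_on' with
  | monomial s c =>
    rw [MvPolynomial.bind₁_monomial]
    have h1 : ∏ i ∈ s.support, (C a * X i : MvPolynomial (Fin r) ℚ) ^ s i =
        C (a ^ (∑ i ∈ s.support, s i)) * ∏ i ∈ s.support, (X i : MvPolynomial (Fin r) ℚ) ^ s i := by
      rw [← Finset.prod_pow_eq_pow_sum, map_prod, ← Finset.prod_mul_distrib]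
      refine Finset.prod_congr rfl fun i _ => ?_
      rw [mul_pow, map_pow]
    rw [h1, ← mul_assoc, ← C_mul, mul_comm c, C_mul, mul_assoc, coeff_C_mul]
    have h2 : C c * ∏ i ∈ s.support, (X i : MvPolynomial (Fin r) ℚ) ^ s i = monomial s c := by
      rw [monomial_eq]; rfl
    rw [h2, coeff_monomial]
    split_ifs with h
    · subst h
      congr 1
      congr 1
      have : (ones r).support = Finset.univ := by
        ext i; simp [ones]
      rw [this]
      simp [ones]
    · rw [mul_zero, mul_zero]
  | add p q hp hq => rw [map_add, coeff_add, coeff_add, hp, hq, mul_add]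

theorem eval_scale {r : ℕ} (P : MvPolynomial (Fin r) ℚ) (a : ℚ) (x : Fin r → ℚ) :
    eval x (bind₁ (fun i => C a * X i) P) = eval (fun i => a * x i) P := by
  rw [← MvPolynomial.coe_aeval_eq_eval, ← MvPolynomial.coe_aeval_eq_eval]
  simp only [RingHom.coe_coe]
  rw [MvPolynomial.aeval_bind₁]
  simp

/-- Residue field extensions of locally quasi-finite morphisms are finite. -/
theorem residueFieldMap_finite {X Y : Scheme.{u}} (f : X ⟶ Y) [LocallyQuasiFinite f] (x : X) :
    (f.residueFieldMap x).hom.Finite := by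
  have h1 : (f.stalkMap x).hom.QuasiFinite := f.quasiFiniteAt x
  have h2 : (X.residue x).hom.QuasiFinite :=
    RingHom.QuasiFinite.of_finite (RingHom.Finite.of_surjective _ (X.residue_surjective _))
  have h3 := h2.comp h1
  rw [← CommRingCat.hom_comp, ← Scheme.residue_residueFieldMap, CommRingCat.hom_comp] at h3
  have h4 : (f.residueFieldMap x).hom.QuasiFinite := RingHom.QuasiFinite.of_comp h3
  let i : Algebra (Y.residueField (f x)) (X.residueField x) := (f.residueFieldMap x).hom.toAlgebra
  have : Algebra.QuasiFinite (Y.residueField (f x)) (X.residueField x) := h4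
  exact (Module.Finite.of_quasiFinite :
    Module.Finite (Y.residueField (f x)) (X.residueField x))

theorem support_subset {Y : Scheme.{u}} (D : Y.IdealSheafData) :
    (D.support : Set Y) ⊆ CohB1.support (ClSub.quotMod D) := by
  intro x hx
  by_contra hs
  rw [CohqB.DevSupport.not_mem_support_iff] at hs
  obtain ⟨y, rfl⟩ : x ∈ Set.range D.subschemeι := by rw [D.range_subschemeι]; exact hx
  let t : Γ(ClSub.quotMod D, ⊤) := (1 : Γ(D.subscheme, D.subschemeι ⁻¹ᵁ ⊤))
  have h0 : (ClSub.quotMod D).presheaf.germ ⊤ (D.subschemeι y) trivial t = 0 := Subsingleton.elim _ _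
  obtain ⟨W, hWV, hxW, hW⟩ := VarietyB.ExactLoc.exists_res_eq_zero (ClSub.quotMod D)
    (x := D.subschemeι y) (U := ⊤) trivial t h0
  have h1 : (1 : Γ(D.subscheme, D.subschemeι ⁻¹ᵁ W)) = 0 := by
    have h2 : D.subscheme.presheaf.map (homOfLE ((TopologicalSpace.Opens.map D.subschemeι.base).monotone hWV)).op
      (1 : Γ(D.subscheme, D.subschemeι ⁻¹ᵁ ⊤)) = 0 := hW
    rwa [map_one] at h2
  have h3 : (1 : D.subscheme.presheaf.stalk y) = 0 := by
    rw [← map_one (D.subscheme.presheaf.germ (D.subschemeι ⁻¹ᵁ W) y hxW).hom, h1, map_zero]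
  exact one_ne_zero h3

section coef

variable (k : Type u) [Field k] {X : Scheme.{u}} [X.Over (Spec (CommRingCat.of k))]
  [IsProper (X ↘ Spec (CommRingCat.of k))]

/-- The coefficient of `n_1 ⋯ n_d` for an ample module is a positive integer. -/
theorem exists_coeff (M : X.Modules) (hM : CohB1.IsAmple M) (Z : X.IdealSheafData) (d : ℕ)
    (hd : topologicalKrullDim (Z.support : Set X) = d) :
    ∃ (P : MvPolynomial (Fin d) ℚ) (c : ℕ), 0 < c ∧ coeff (ones d) P = c ∧
      ∀ n : Fin d → ℕ, (Curv2.euler k X (Curv2.tensorPows (ClSub.quotMod Z) d (fun _ => M) n) : ℚ) =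
        eval (fun i => (n i : ℚ)) P := by
  have hN : IsNoetherian X := Fga.SnapperTwist.isNoetherian_of_proper k X
  obtain ⟨e, he⟩ := EtpbcA.CdFinDim.exists_dim_le (X ↘ Spec (CommRingCat.of k))
  have hsupp : topologicalKrullDim (CohB1.support (ClSub.quotMod Z)) = d := by
    rw [(K424.IntSum.support_quotMod_subset Z).antisymm (support_subset Z)]
    exact hd
  have hcoh : Coh.IsCoh (ClSub.quotMod Z) := K424.IntSum.isCoh_quotMod Z
  obtain ⟨P, -, hP⟩ := S1528.result k X (ClSub.quotMod Z) hcoh d hsupp.le d (fun _ => M) (fun _ => hM.1)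
  obtain ⟨M', hM', ⟨e'⟩⟩ := PicGrp.exists_inverse hM.1
  have h1 : mc M * mc M' = 1 := by rw [← mc_tensor, ← mc_one]; exact mc_eq e'
  have h2 := K420.IntCoeff.coeff_eq_intNum' k e he hcoh hsupp.le (L := fun _ => M) (M := fun _ => M')
    (fun _ => hM.1) (fun _ => hM') (fun _ => h1) hP
  have h3 := Fga.PosMain.intNum_pos k X e he (fun _ : Fin d => M) (fun _ => M') (fun _ => hM) (fun _ => ⟨e'⟩) _ hcoh hsupp
  refine ⟨P, (FGA.intNum k X e (fun _ : Fin d => M') (ClSub.quotMod Z)).toNat, by omega, ?_, hP⟩
  rw [show coeff (ones d) P = _ from h2]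
  exact_mod_cast (Int.toNat_of_nonneg h3.le).symm

end coef

section fld

variable {L : Type u} [Field L]

/-- The image in `L` of the residue field of the image of `x`. -/
noncomputable def resRange {X : Scheme.{u}} (x : Spec (CommRingCat.of L) ⟶ X) : Subfield L :=
  (X.descResidueField (Scheme.stalkClosedPointTo x)).hom.fieldRange

theorem resRange_comp {X Y : Scheme.{u}} (g : Spec (CommRingCat.of L) ⟶ Y) (f : Y ⟶ X) :
    resRange (g ≫ f) = ((Y.descResidueField (Scheme.stalkClosedPointTo g)).hom.comp
      (f.residueFieldMap (g (IsLocalRing.closedPoint L))).hom).fieldRange := by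
  have h := Scheme.descResidueField_stalkClosedPointTo_comp (f := f) g
  exact congrArg (fun z => (CommRingCat.Hom.hom z).fieldRange) h

theorem resRange_comp_le {X Y : Scheme.{u}} (g : Spec (CommRingCat.of L) ⟶ Y) (f : Y ⟶ X) :
    resRange (g ≫ f) ≤ resRange g := by
  rw [resRange_comp]
  rintro _ ⟨a, rfl⟩
  exact ⟨_, rfl⟩

theorem mem_resRange {k : Type u} [CommRing k] (ψ : k →+* L) (a : k) :
    ψ a ∈ resRange (Spec.map (CommRingCat.ofHom ψ)) := by
  generalize hx : Spec.map (CommRingCat.ofHom ψ) = x
  have h1 := Scheme.descResidueField_stalkClosedPointTo_fromSpecResidueField L _ x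
  obtain ⟨r, hr⟩ := Spec.map_surjective ((Spec (CommRingCat.of k)).fromSpecResidueField (x (IsLocalRing.closedPoint L)))
  have h1' : Spec.map (r ≫ Scheme.descResidueField (Scheme.stalkClosedPointTo x)) = Spec.map (CommRingCat.ofHom ψ) := by
    rw [hx, Spec.map_comp, hr]
    exact h1
  have h2 := Spec.map_injective h1'
  have h3 := congrArg (fun z => z.hom a) h2
  exact ⟨r.hom a, h3⟩

end fld

theorem one_le_dim_closure {X : Scheme.{u}} {x : X} (hx : ¬ IsClosed ({x} : Set X)) :
    (1 : WithBot ℕ∞) ≤ topologicalKrullDim (closure ({x} : Set X)) := by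
  obtain ⟨y, hy, hyx⟩ : ∃ y ∈ closure ({x} : Set X), y ≠ x := by
    by_contra! h
    apply hx
    rw [← closure_subset_iff_isClosed]
    intro y hy
    exact h y hy
  by_contra hcon
  rw [not_le] at hcon
  have hle : topologicalKrullDim (closure ({x} : Set X)) ≤ ((0 : ℕ) : WithBot ℕ∞) := by
    rw [← ENat.WithBot.lt_add_one_iff]
    simpa using hcon
  have hT : IsClosed (closure ({x} : Set X)) := isClosed_closure
  have hemb : Topology.IsClosedEmbedding (Subtype.val : closure ({x} : Set X) → X) :=
    hT.isClosedEmbedding_subtypeVal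
  have hsob : QuasiSober (closure ({x} : Set X)) := hemb.quasiSober
  have hT0 : T0Space (closure ({x} : Set X)) := hemb.isEmbedding.t0Space
  have hsub : closure ({y} : Set X) ⊆ closure ({x} : Set X) :=
    closure_minimal (Set.singleton_subset_iff.mpr hy) isClosed_closure
  have h1 := Flat2B.DimFibre.topologicalKrullDim_lt 0 hle
    (Set.inclusion hsub : closure ({y} : Set X) → closure ({x} : Set X))
    (Topology.IsClosedEmbedding.inclusion hsub (isClosed_closure.preimage continuous_subtype_val))
    ⟨x, subset_closure rfl⟩ ?_ ?_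
  · exact absurd h1 (not_lt.mpr (Pi1C.LefReduce.topologicalKrullDim_closure_nonneg y))
  · rintro ⟨z, hz⟩
    rw [← hemb.isInducing.specializes_iff]
    exact specializes_iff_mem_closure.mpr (hsub hz)
  · rintro ⟨z, hz⟩ h
    have hzx : z = x := congrArg Subtype.val h
    subst hzx
    apply hyx
    have h2 : y ⤳ z := specializes_iff_mem_closure.mpr hz
    have h3 : z ⤳ y := specializes_iff_mem_closure.mpr hy
    exact (h2.antisymm h3).eq

section main

variable {k : Type u} [Field k] (Q : Over (Spec (CommRingCat.of k))) [GrpObj Q] [IsProper Q.hom]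
  [GeometricallyIntegral Q.hom] {L : Type u} [Field L] [Algebra k L]

theorem range_eq {X : Scheme.{u}} (y : Spec (CommRingCat.of L) ⟶ X) :
    Set.range y = {y (IsLocalRing.closedPoint L)} := by
  ext z
  constructor
  · rintro ⟨t, rfl⟩
    have : t = IsLocalRing.closedPoint L := Subsingleton.elim (α := PrimeSpectrum L) _ _
    rw [this]; rfl
  · rintro rfl
    exact ⟨_, rfl⟩

theorem residueDegree_le {X Y : Scheme.{u}} (y : Spec (CommRingCat.of L) ⟶ Y) (f : Y ⟶ X) [IsFinite f]
    (D : ℕ) (hD : ∀ (κ E : Type u) [Field κ] [Field E] (ρ : κ →+* E) (φ : E →+* L),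
      (φ.comp ρ).fieldRange = resRange (y ≫ f) → ρ.IsIntegral → (letI := ρ.toAlgebra; Module.finrank κ E) ≤ D)
    [IsIntegral y.ker.subscheme] :
    (y.ker.subschemeι ≫ f).residueDegree (genericPoint y.ker.subscheme) ≤ D := by
  have hint : IsIntegral y.image := ‹_›
  have hS : IsIntegral (Spec (CommRingCat.of L)) := inferInstance
  have h0 : y.toImage (IsLocalRing.closedPoint L) = genericPoint y.image := by
    rw [← CycB.ImageInt.toImage_genericPoint y]
    congr 1
    exact Subsingleton.elim (α := PrimeSpectrum L) _ _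
  change (y.imageι ≫ f).residueDegree (genericPoint y.image) ≤ D
  rw [← h0]
  have h1 : resRange (y ≫ f) = resRange (y.toImage ≫ (y.imageι ≫ f)) := by
    rw [← Category.assoc, Scheme.Hom.toImage_imageι]
  rw [resRange_comp y.toImage] at h1
  have hfin : IsFinite (y.imageι ≫ f) := inferInstance
  exact hD _ _ _ _ h1.symm (residueFieldMap_finite (y.imageι ≫ f) _).to_isIntegral

theorem isClosed_of_divisible [Algebra.EssFiniteType k L] (x : Spec (CommRingCat.of L) ⟶ Q.left)
    (hxk : x ≫ Q.hom = Spec.map (CommRingCat.ofHom (algebraMap k L)))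
    (hx : ∀ n : ℕ, 0 < n → ∃ y : Spec (CommRingCat.of L) ⟶ Q.left, y ≫ (𝟙 Q ^ n).left = x) :
    IsClosed ({x (IsLocalRing.closedPoint L)} : Set Q.left) := by
  let _ : Algebra k (resRange x) := ((algebraMap k L).codRestrict (resRange x) (fun a => by
    refine resRange_comp_le x Q.hom ?_
    rw [hxk]
    exact mem_resRange _ _)).toAlgebra
  have htow : IsScalarTower k (resRange x) L := IsScalarTower.of_algebraMap_eq fun _ => rfl
  have hess : Algebra.EssFiniteType (resRange x) L := .of_comp k (resRange x) L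
  obtain ⟨D, hD⟩ := DivFld.exists_bound (resRange x)
  let oQ : Q.left.Over (Spec (CommRingCat.of k)) := ⟨Q.hom⟩
  have hpQ : IsProper (Q.left ↘ Spec (CommRingCat.of k)) := ‹IsProper Q.hom›
  obtain ⟨M, hM, hMs⟩ := MulFin.exists_symm_ample Q
  obtain ⟨e, he⟩ := EtpbcA.CdFinDim.exists_dim_le (Q.left ↘ Spec (CommRingCat.of k))
  -- the dimension of the closure of the image of `x`
  obtain ⟨d, hd⟩ : ∃ d : ℕ, topologicalKrullDim (closure ({x (IsLocalRing.closedPoint L)} : Set Q.left)) = d := by
    have h1 := Pi1C.LefReduce.topologicalKrullDim_closure_nonneg (X := Q.left) (x (IsLocalRing.closedPoint L))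
    have h2 := (topologicalKrullDim_subspace_le Q.left (closure ({x (IsLocalRing.closedPoint L)} : Set Q.left))).trans he
    generalize topologicalKrullDim (closure ({x (IsLocalRing.closedPoint L)} : Set Q.left)) = t at h1 h2
    induction t with
    | bot => exact absurd h1 (by simp)
    | coe t =>
      induction t with
      | top => exact absurd (top_le_iff.mp (WithBot.coe_le_coe.mp h2)) (ENat.natCast_ne_top e)
      | coe t => exact ⟨t, rfl⟩
  have hsupp : ∀ y : Spec (CommRingCat.of L) ⟶ Q.left, (y.ker.support : Set Q.left) =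
      closure {y (IsLocalRing.closedPoint L)} := by
    intro y
    rw [Scheme.Hom.support_ker, range_eq]
  obtain ⟨PX, cX, hcX, hcX', hPX⟩ := exists_coeff k M hM x.ker d (by rw [hsupp x]; exact hd)
  have key : ∀ n : ℕ, 0 < n → (n ^ 2) ^ d ≤ D * cX := by
    intro n hn
    obtain ⟨y, hy⟩ := hx n hn
    have hfin : IsFinite (𝟙 Q ^ n).left := MulFin.isFinite_pow Q n hn
    have hdy : topologicalKrullDim (y.ker.support : Set Q.left) = d := by
      rw [hsupp y, Pi1C.LefReduce.dim_closure_eq (𝟙 Q ^ n).left]
      rw [← hd, ← hy]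
      rfl
    obtain ⟨P, c, hc, hc', hP⟩ := exists_coeff k M hM y.ker d hdy
    have hint : IsIntegral y.ker.subscheme := CycB.ImageInt.isIntegral_image y
    have hker : (y.ker.subschemeι ≫ (𝟙 Q ^ n).left).ker = x.ker := by
      rw [Scheme.Hom.ker_comp, Scheme.IdealSheafData.ker_subschemeι, ← Scheme.Hom.ker_comp, hy]
    obtain ⟨iso⟩ := MulFin.nonempty_iso_of_symm Q M hM.1 hMs n
    have h1 := S7682.result k Q.left Q.left (𝟙 Q ^ n).left (Over.w _) y.ker d hdy (fun _ => M) (fun _ => hM.1)
      (bind₁ (fun i => C ((n : ℚ) ^ 2) * X i) P) PX (by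
        intro t
        rw [eval_scale, K420.IntCoeff.euler_tensorPows, mc_eq iso, mc_tensorPow]
        have h2 := hP (fun i => n ^ 2 * t i)
        rw [K420.IntCoeff.euler_tensorPows] at h2
        simp only [pow_mul] at h2
        rw [h2]
        push_cast
        rfl) (by rw [hker]; exact hPX)
    have h2 : coeff (ones d) (bind₁ (fun i => C ((n : ℚ) ^ 2) * X i) P) =
      ((y.ker.subschemeι ≫ (𝟙 Q ^ n).left).residueDegree (genericPoint y.ker.subscheme) : ℚ) *
        coeff (ones d) PX := h1
    rw [coeff_scale, hc', hcX'] at h2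
    have h3 := residueDegree_le y (𝟙 Q ^ n).left D (by rw [hy]; exact hD)
    have h4 : (n ^ 2) ^ d * c =
      (y.ker.subschemeι ≫ (𝟙 Q ^ n).left).residueDegree (genericPoint y.ker.subscheme) * cX := by
      exact_mod_cast h2
    calc (n ^ 2) ^ d ≤ (n ^ 2) ^ d * c := Nat.le_mul_of_pos_right _ hc
      _ = _ := h4
      _ ≤ D * cX := Nat.mul_le_mul_right _ h3
  -- the dimension is zero
  have hd0 : d = 0 := by
    by_contra hne
    have h1 := key (D * cX + 1) (Nat.succ_pos _)
    have h2 : D * cX + 1 ≤ ((D * cX + 1) ^ 2) ^ d := by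
      rw [← pow_mul]
      exact Nat.le_self_pow (by positivity) _
    omega
  by_contra hcl
  have h1 := one_le_dim_closure hcl
  rw [hd, hd0] at h1
  exact absurd h1 (by norm_num)

end main

end K485.DivAb
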