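import Groth.Agent.Ega43.DvrDomination
import Mathlib.RingTheory.LocalRing.ResidueField.Basic

/-!
# Domination by discrete valuation rings with finitely generated residue field extension

`exists_dvr`: a Noetherian local domain `A` which is not a field is dominated by a discrete valuation ring `V` of any
finitely generated extension `L` of its fraction field, such that the residue field of `V` is essentially of finite type
over `A`.
-/

set_option autoImplicit false

namespace K485.DvrEss

open IsLocalRing Groth.Agent.Ega43.DvrDomination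

universe u v

/-- Krull-Akizuki: finiteness of the residue field extension. -/
theorem finite_residue (B : Type u) [CommRing B] [IsDomain B] [IsNoetherianRing B]
    (hart : ∀ a : B, a ≠ 0 → IsArtinianRing (B ⧸ Ideal.span {a}))
    (K : Type v) [Field K] [Algebra B K] [IsFractionRing B K] (V : Subring K) [IsLocalRing V] (φ : B →+* V)
    (hφ : ∀ b : B, (φ b : K) = algebraMap B K b) (a : B) (ha : a ≠ 0) (ha' : ¬ IsUnit (φ a)) :
    ((residue V).comp φ).Finite := by
  have hV : ∀ b : B, algebraMap B K b ∈ V := fun b => by rw [← hφ]; exact (φ b).2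
  obtain ⟨l, hl⟩ := exists_pow_mul_mem B hart K V hV a ha
  have hinj := IsFractionRing.injective B K
  have haK : algebraMap B K a ≠ 0 := by rwa [Ne, map_eq_zero_iff _ hinj]
  have haK' : algebraMap B K a ^ l ≠ 0 := pow_ne_zero _ haK
  let _ : Algebra B V := φ.toAlgebra
  let W : Submodule B K :=
    { carrier := V
      add_mem' := fun h h' => V.add_mem h h'
      zero_mem' := V.zero_mem
      smul_mem' := fun b v hv => by rw [Algebra.smul_def]; exact V.mul_mem (hV b) hv }
  let M : Submodule B K := Submodule.span B {(algebraMap B K a ^ l)⁻¹} ⊓ W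
  have hMV : ∀ m ∈ M, m ∈ V := fun m hm => (Submodule.mem_inf.mp hm).2
  have hM : M.FG := by
    have h1 : (Submodule.span B {(algebraMap B K a ^ l)⁻¹} : Submodule B K).FG := Submodule.fg_span_singleton _
    have h2 : IsNoetherian B (Submodule.span B {(algebraMap B K a ^ l)⁻¹} : Submodule B K) :=
      isNoetherian_of_fg_of_noetherian _ h1
    exact (isNoetherian_submodule.mp h2) M inf_le_left
  have hMf : Module.Finite B M := Module.Finite.of_fg hM
  let f : M →ₗ[B] ResidueField V :=
    { toFun := fun m => residue V ⟨m.1, hMV m.1 m.2⟩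
      map_add' := fun x y => by rw [← map_add]; rfl
      map_smul' := fun b x => by
        have h1 : (⟨((b • x : M) : K), hMV _ (b • x).2⟩ : V) = φ b * ⟨x.1, hMV _ x.2⟩ := by
          apply Subtype.ext
          rw [Subring.coe_mul, hφ]
          exact Algebra.smul_def _ _
        rw [h1, map_mul, RingHom.id_apply, Algebra.smul_def]
        rfl }
  have hf : Function.Surjective f := by
    intro z
    obtain ⟨v, rfl⟩ := residue_surjective z
    obtain ⟨b, w, hw, hb⟩ := hl v v.2
    have h1 : (v : K) - algebraMap B K a * w = b • (algebraMap B K a ^ l)⁻¹ := by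
      rw [Algebra.smul_def]
      field_simp
      linear_combination hb
    have h2 : (v : K) - algebraMap B K a * w ∈ V := V.sub_mem v.2 (V.mul_mem (hV a) hw)
    have h3 : (v : K) - algebraMap B K a * w ∈ M := by
      refine Submodule.mem_inf.mpr ⟨?_, h2⟩
      rw [h1]
      exact Submodule.smul_mem _ _ (Submodule.mem_span_singleton_self _)
    refine ⟨⟨_, h3⟩, ?_⟩
    change residue V ⟨(v : K) - algebraMap B K a * w, _⟩ = residue V v
    have h4 : (⟨(v : K) - algebraMap B K a * w, h2⟩ : V) = v - φ a * ⟨w, hw⟩ := by
      apply Subtype.ext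
      rw [AddSubgroupClass.coe_sub, Subring.coe_mul, hφ]
    have h5 : residue V (φ a) = 0 := by
      rw [residue_eq_zero_iff, mem_maximalIdeal]
      exact ha'
    rw [h4, map_sub, map_mul, h5, zero_mul, sub_zero]
  have h6 : Module.Finite B (ResidueField V) := Module.Finite.of_surjective f hf
  exact RingHom.finite_algebraMap.mpr h6

theorem essFiniteType_comp_finite {A : Type*} {B : Type*} {C : Type*} [CommRing A] [CommRing B] [CommRing C] (f : A →+* B) (g : B →+* C)
    (hf : f.EssFiniteType) (hg : g.Finite) : (g.comp f).EssFiniteType := by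
  algebraize [f, g, g.comp f]
  have h1 : Algebra.EssFiniteType A B := hf
  have h2 : Module.Finite B C := hg
  change Algebra.EssFiniteType A C
  exact Algebra.EssFiniteType.comp A B C

/-- A Noetherian subring `A` with fraction field `L` and a nonzero nonunit `x` of `A` gives a
discrete valuation ring of `L` containing `A` in which `x` is not a unit, with residue field of finite type. -/
theorem exists_dvr_of_subring (L : Type u) [Field L] (A : Subring L) [IsNoetherianRing A]
    (hfrac : IsFractionRing A L) (x : A) (hx0 : x ≠ 0) (hx : ¬ IsUnit x) :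
    ∃ (W : ValuationSubring L) (h : A ≤ W.toSubring), IsDiscreteValuationRing W ∧
      (x : L) ∈ W.nonunits ∧ RingHom.EssFiniteType ((residue W).comp (Subring.inclusion h)) := by
  obtain ⟨⟨p, hp⟩⟩ := Ideal.nonempty_minimalPrimes (I := Ideal.span {x})
    (fun h => hx (Ideal.span_singleton_eq_top.mp h))
  have hpp : p.IsPrime := hp.1.1
  have hht : p.height ≤ 1 :=
    Ideal.height_le_one_of_isPrincipal_of_mem_minimalPrimes (Ideal.span {x}) p hp
  set B := LocalSubring.ofPrime A p with hB
  have hAB : A ≤ B.toSubring := LocalSubring.le_ofPrime A p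
  have hloc : IsLocalization.AtPrime B.toSubring p := inferInstance
  have hBN : IsNoetherianRing B.toSubring :=
    IsLocalization.isNoetherianRing p.primeCompl _ inferInstance
  have hBfrac : IsFractionRing B.toSubring L :=
    IsFractionRing.isFractionRing_of_isDomain_of_isLocalization p.primeCompl B.toSubring L
  have hdim : Ring.KrullDimLE 1 B.toSubring := by
    rw [Ring.krullDimLE_iff, IsLocalization.AtPrime.ringKrullDim_eq_height p B.toSubring]
    exact_mod_cast hht
  have hart : ∀ a : B.toSubring, a ≠ 0 → IsArtinianRing (B.toSubring ⧸ Ideal.span {a}) := by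
    intro a ha
    have h1 := isFiniteLength_quotient_span_singleton B.toSubring
      (mem_nonZeroDivisors_of_ne_zero ha)
    rw [isFiniteLength_iff_isNoetherian_isArtinian] at h1
    have h2 := h1.2
    exact isArtinian_of_tower (B.toSubring) h2
  obtain ⟨W, hW⟩ := B.exists_le_valuationSubring
  have hWN : IsNoetherianRing W.toSubring :=
    isNoetherianRing_of_between B.toSubring hart L W.toSubring (fun b => hW.1 b.2)
  have hxB : ¬ IsUnit (⟨x, hAB x.2⟩ : B.toSubring) := by
    intro h
    have h1 : algebraMap A B.toSubring x = ⟨x, hAB x.2⟩ := rfl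
    rw [← h1, IsLocalization.AtPrime.isUnit_to_map_iff B.toSubring p] at h
    exact h (hp.1.2 (Ideal.subset_span rfl))
  have hxW' : ¬ IsUnit (⟨x, hW.1 (hAB x.2)⟩ : W.toSubring) := fun h => hxB (hW.2.1 _ h)
  have hxW : (x : L) ∈ W.nonunits := by
    rw [ValuationSubring.mem_nonunits_iff_exists_mem_maximalIdeal]
    refine ⟨hW.1 (hAB x.2), ?_⟩
    rw [mem_maximalIdeal, mem_nonunits_iff]
    exact hxW'
  have hWN' : IsNoetherianRing W := hWN
  have hWf : ¬ IsField W := by
    intro h
    rw [ValuationSubring.mem_nonunits_iff_exists_mem_maximalIdeal] at hxW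
    obtain ⟨h1, h2⟩ := hxW
    rw [isField_iff_maximalIdeal_eq.mp h, Ideal.mem_bot] at h2
    have h3 : (x : L) = 0 := congrArg Subtype.val h2
    exact hx0 (Subtype.ext h3)
  have hiff : IsDiscreteValuationRing W ↔ ValuationRing W :=
    (IsDiscreteValuationRing.TFAE W hWf).out 0 1
  refine ⟨W, hAB.trans hW.1, hiff.mpr inferInstance, hxW, ?_⟩
  have hWl : IsLocalRing W.toSubring := inferInstanceAs (IsLocalRing W)
  have h1 : ((residue W.toSubring).comp (Subring.inclusion (show B.toSubring ≤ W.toSubring from hW.1))).Finite :=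
    finite_residue B.toSubring hart L W.toSubring (Subring.inclusion (show B.toSubring ≤ W.toSubring from hW.1))
      (fun b => rfl) ⟨x, hAB x.2⟩
      (fun h => hx0 (Subtype.ext (show (x : L) = 0 from congrArg (fun z : B.toSubring => (z : L)) h))) hxW'
  have h2 : (Subring.inclusion hAB).EssFiniteType := by
    change (algebraMap A B.toSubring).EssFiniteType
    rw [RingHom.essFiniteType_algebraMap]
    exact Algebra.EssFiniteType.of_isLocalization _ p.primeCompl
  exact essFiniteType_comp_finite (Subring.inclusion hAB)
    ((residue W.toSubring).comp (Subring.inclusion (show B.toSubring ≤ W.toSubring from hW.1))) h2 h1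

/-- A Noetherian local domain which is not a field is dominated by a discrete valuation ring
of any finitely generated extension of its fraction field, with residue field essentially of finite type. -/
theorem exists_dvr_dominating (A : Type v) [CommRing A] [IsDomain A] [IsLocalRing A]
    [IsNoetherianRing A] (hA : ¬ IsField A) (L : Type u) [Field L] [Algebra A L]
    (hinj : Function.Injective (algebraMap A L)) [Algebra.EssFiniteType A L] :
    ∃ (W : ValuationSubring L) (f : A →+* W), IsDiscreteValuationRing W ∧ (∀ a : A, (f a : L) = algebraMap A L a) ∧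
      (∀ a ∈ maximalIdeal A, algebraMap A L a ∈ W.nonunits) ∧ RingHom.EssFiniteType ((residue W).comp f) := by
  classical
  -- a valuation ring dominating `A`
  obtain ⟨V, hV⟩ := (LocalSubring.range (algebraMap A L)).exists_le_valuationSubring
  have hVA : ∀ a : A, algebraMap A L a ∈ V := fun a => hV.1 ⟨a, rfl⟩
  have hVm : ∀ a ∈ maximalIdeal A, algebraMap A L a ∈ V.nonunits := by
    intro a ha
    rw [ValuationSubring.mem_nonunits_iff_exists_mem_maximalIdeal]
    refine ⟨hVA a, ?_⟩
    rw [mem_maximalIdeal, mem_nonunits_iff]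
    intro h
    have h1 : IsUnit (⟨algebraMap A L a, ⟨a, rfl⟩⟩ : (LocalSubring.range (algebraMap A L)).toSubring) :=
      hV.2.1 _ h
    obtain ⟨⟨_, c, rfl⟩, hc⟩ := isUnit_iff_exists_inv.mp h1
    have hc' : algebraMap A L a * algebraMap A L c = 1 := congrArg Subtype.val hc
    rw [← map_mul, ← map_one (algebraMap A L)] at hc'
    exact (mem_maximalIdeal a).mp ha (IsUnit.of_mul_eq_one c (hinj hc'))
  obtain ⟨σ, hσ⟩ := (Algebra.essFiniteType_iff A L).mp inferInstance
  obtain ⟨G, hG⟩ := (isNoetherianRing_iff_ideal_fg A).mp inferInstance (maximalIdeal A)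
  have hm : maximalIdeal A ≠ ⊥ := fun h => hA (isField_iff_maximalIdeal_eq.mpr h)
  have hGm : ∀ g ∈ G, g ∈ maximalIdeal A := fun g hg => by rw [← hG]; exact Ideal.subset_span hg
  have hGne : G.Nonempty := by
    rw [Finset.nonempty_iff_ne_empty]
    rintro rfl
    exact hm (by rw [← hG]; simp)
  obtain ⟨x, hxG, hxmax⟩ := G.exists_max_image (fun a => V.valuation (algebraMap A L a)) hGne
  have hx0 : algebraMap A L x ≠ 0 := by
    intro h0
    apply hm
    rw [← hG, Ideal.span_eq_bot]
    intro g hg
    have := hxmax g hg
    rw [h0, map_zero, nonpos_iff_eq_zero, map_eq_zero, map_eq_zero_iff _ hinj] at this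
    exact this
  let τ : Set L := (fun s : L => if s ∈ V then s else s⁻¹) '' (σ : Set L) ∪
    (fun a : A => algebraMap A L a / algebraMap A L x) '' (G : Set A)
  have hτfin : τ.Finite := (σ.finite_toSet.image _).union (G.finite_toSet.image _)
  let S : Subalgebra A L := Algebra.adjoin A τ
  have hSV : ∀ s ∈ S, s ∈ V := by
    intro s hs
    induction hs using Algebra.adjoin_induction with
    | mem x' hx =>
      rcases hx with ⟨s, hs, rfl⟩ | ⟨a, ha, rfl⟩
      · dsimp only
        split_ifs with h
        · exact h
        · exact (V.mem_or_inv_mem s).resolve_left h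
      · rw [← V.valuation_le_one_iff, map_div₀]
        exact div_le_one_of_le₀ (hxmax a ha) zero_le
    | algebraMap r => exact hVA r
    | add x y _ _ hx hy => exact V.add_mem _ _ hx hy
    | mul x y _ _ hx hy => exact V.mul_mem _ _ hx hy
  have hSft : Algebra.FiniteType A S := by
    rw [← Subalgebra.fg_iff_finiteType]
    exact ⟨hτfin.toFinset, by simp [S]⟩
  have hSN : IsNoetherianRing S := Algebra.FiniteType.isNoetherianRing A S
  have hfrac : IsFractionRing S L := by
    have key : ∀ z : L, ∃ b ∈ S, b ≠ 0 ∧ z * b ∈ S := by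
      intro z
      obtain ⟨t, ht, htu, hzt⟩ := hσ z
      have h1 : ∀ s ∈ (σ : Set L), ∃ b ∈ S, b ≠ 0 ∧ s * b ∈ S := by
        intro s hs
        have h2 : (if s ∈ V then s else s⁻¹) ∈ S :=
          Algebra.subset_adjoin (Or.inl ⟨s, hs, rfl⟩)
        by_cases hsV : s ∈ V
        · rw [if_pos hsV] at h2
          exact ⟨1, S.one_mem, one_ne_zero, by simpa using h2⟩
        · rw [if_neg hsV] at h2
          have hs0 : s ≠ 0 := by rintro rfl; exact hsV V.zero_mem
          exact ⟨s⁻¹, h2, inv_ne_zero hs0, by rw [mul_inv_cancel₀ hs0]; exact S.one_mem⟩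
      obtain ⟨b, hb, hb0, htb⟩ := mul_mem_of_adjoin A L S σ h1 t ht
      obtain ⟨c, hc, hc0, hztc⟩ := mul_mem_of_adjoin A L S σ h1 (z * t) hzt
      refine ⟨(t * b) * c, S.mul_mem htb hc, mul_ne_zero (mul_ne_zero htu.ne_zero hb0) hc0, ?_⟩
      have : z * (t * b * c) = (z * t * c) * b := by ring
      rw [this]
      exact S.mul_mem hztc hb
    refine ⟨⟨?_, ?_, ?_⟩⟩
    · intro y
      have : (y : S) ≠ 0 := nonZeroDivisors.ne_zero y.2
      exact IsUnit.mk0 _ (fun h => this (Subtype.ext h))
    · intro z
      obtain ⟨b, hb, hb0, hzb⟩ := key z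
      exact ⟨⟨⟨z * b, hzb⟩, ⟨⟨b, hb⟩, mem_nonZeroDivisors_of_ne_zero
        (fun h => hb0 (congrArg Subtype.val h))⟩⟩, rfl⟩
    · intro y z h
      exact ⟨1, by rw [Subtype.ext h]⟩
  have hxS : algebraMap A L x ∈ S := S.algebraMap_mem x
  have hdiv : ∀ g ∈ G, algebraMap A L g / algebraMap A L x ∈ S := fun g hg =>
    Algebra.subset_adjoin (Or.inr ⟨g, hg, rfl⟩)
  have hSN' : IsNoetherianRing S.toSubring := hSN
  obtain ⟨W, hSW, hWdvr, hxW, hess⟩ := exists_dvr_of_subring L S.toSubring
    (by exact hfrac) ⟨algebraMap A L x, hxS⟩ (fun h => hx0 (congrArg Subtype.val h)) (by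
      intro h
      obtain ⟨⟨y, hy⟩, hxy⟩ := isUnit_iff_exists_inv.mp h
      have hxy' : algebraMap A L x * y = 1 := congrArg Subtype.val hxy
      have h1 := hVm x (hGm x hxG)
      rw [ValuationSubring.mem_nonunits_iff] at h1
      have h2 := (V.valuation_le_one_iff y).mpr (hSV y hy)
      have h3 : V.valuation (algebraMap A L x * y) = 1 := by rw [hxy', map_one]
      rw [map_mul] at h3
      exact absurd h3 (mul_lt_one_of_lt_of_le h1 h2).ne)
  refine ⟨W, (Subring.inclusion hSW).comp (algebraMap A S), hWdvr, fun a => rfl, ?_, ?_⟩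
  · intro a ha
    rw [ValuationSubring.mem_nonunits_iff] at hxW ⊢
    have h1 : a ∈ Ideal.span (G : Set A) := by rw [hG]; exact ha
    induction h1 using Submodule.span_induction with
    | mem g hg =>
      have h2 : algebraMap A L g = algebraMap A L x * (algebraMap A L g / algebraMap A L x) := by
        field_simp
      rw [h2, map_mul]
      exact mul_lt_one_of_lt_of_le hxW ((W.valuation_le_one_iff _).mpr (hSW (hdiv g hg)))
    | zero => simp
    | add y z hy hz ihy ihz =>
      rw [map_add]
      exact Valuation.map_add_lt _ (ihy (by rw [← hG]; exact hy)) (ihz (by rw [← hG]; exact hz))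
    | smul c y hy ihy =>
      rw [smul_eq_mul, map_mul, map_mul, mul_comm]
      exact mul_lt_one_of_lt_of_le (ihy (by rw [← hG]; exact hy))
        ((W.valuation_le_one_iff _).mpr (hSW (S.algebraMap_mem c)))
  · let g : S →+* ResidueField W := (residue W).comp (Subring.inclusion hSW)
    have hg : g.EssFiniteType := hess
    change (g.comp (algebraMap A S)).EssFiniteType
    algebraize [g, g.comp (algebraMap A S)]
    exact Algebra.EssFiniteType.comp A S (ResidueField W)

/-- Packaged form of `exists_dvr_dominating`: a discrete valuation ring `R` with fraction field `L`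
and a local injective algebra map `A → R`. -/
theorem exists_dvr (A : Type v) [CommRing A] [IsDomain A] [IsLocalRing A]
    [IsNoetherianRing A] (hA : ¬ IsField A) (L : Type u) [Field L] [Algebra A L]
    (hinj : Function.Injective (algebraMap A L)) [Algebra.EssFiniteType A L] :
    ∃ (R : Type u) (_ : CommRing R) (_ : IsDomain R) (_ : IsDiscreteValuationRing R)
      (_ : Algebra A R) (_ : Algebra R L) (_ : IsScalarTower A R L) (_ : IsFractionRing R L)
      (_ : IsLocalHom (algebraMap A R)), Algebra.EssFiniteType A (ResidueField R) := by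
  obtain ⟨W, f, hW, hWA, hWm, hess⟩ := exists_dvr_dominating A hA L hinj
  let _ : Algebra A W := f.toAlgebra
  have hst : IsScalarTower A W L := IsScalarTower.of_algebraMap_eq (fun a => (hWA a).symm)
  refine ⟨W, inferInstance, inferInstance, hW, inferInstance, inferInstance, hst, inferInstance,
    ⟨fun a ha => ?_⟩, ?_⟩
  · by_contra hna
    have h1 := hWm a ((mem_maximalIdeal a).mpr hna)
    rw [ValuationSubring.mem_nonunits_iff_exists_mem_maximalIdeal] at h1
    obtain ⟨h2, h3⟩ := h1
    refine (mem_maximalIdeal _).mp h3 ?_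
    have h4 : (⟨algebraMap A L a, h2⟩ : W) = f a := Subtype.ext (hWA a).symm
    rw [h4]
    exact ha
  · exact RingHom.essFiniteType_algebraMap.mp hess

end K485.DvrEss
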