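import Mathlib.RingTheory.ZariskisMainTheorem
import Mathlib.RingTheory.Localization.Integral
import Mathlib.RingTheory.Artinian.Module
import Mathlib.RingTheory.LocalRing.ResidueField.Fiber
import Mathlib.RingTheory.Spectrum.Prime.Topology

/-!
# Zariski's main theorem for birational extensions of normal local domains
-/

set_option autoImplicit false

namespace K485.ZmtLoc

open IsLocalRing

universe u

theorem quasiFiniteAt {R D : Type u} [CommRing R] [IsLocalRing R] [CommRing D] [Algebra R D]
    [Algebra.FiniteType R D] (q : PrimeSpectrum D) (hq : q.asIdeal.comap (algebraMap R D) = maximalIdeal R)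
    (H : ∀ q' : PrimeSpectrum D, q'.asIdeal.comap (algebraMap R D) = maximalIdeal R → q'.asIdeal.IsMaximal) :
    Algebra.QuasiFiniteAt R q.asIdeal := by
  rw [Algebra.quasiFiniteAt_iff_isOpen_singleton_fiber]
  set p := q.comap (algebraMap R D) with hp
  have hpm : p.asIdeal = maximalIdeal R := hq
  let F : Set (PrimeSpectrum D) := PrimeSpectrum.comap (algebraMap R D) ⁻¹' {p}
  have hT1 : T1Space F := by
    refine ⟨fun x => ?_⟩
    have h1 : IsClosed ({x.1} : Set (PrimeSpectrum D)) := by
      rw [PrimeSpectrum.isClosed_singleton_iff_isMaximal]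
      refine H x.1 ?_
      have h2 : PrimeSpectrum.comap (algebraMap R D) x.1 = p := x.2
      rw [← hpm, ← h2]
      rfl
    have h3 : ({x} : Set F) = Subtype.val ⁻¹' {x.1} := by
      ext y
      simp [Subtype.ext_iff]
    rw [h3]
    exact h1.preimage continuous_subtype_val
  let e := PrimeSpectrum.preimageHomeomorphFiber R D p
  have hT1' : T1Space (PrimeSpectrum (p.asIdeal.Fiber D)) := e.symm.isEmbedding.t1Space
  have hN : IsNoetherianRing (p.asIdeal.Fiber D) :=
    Algebra.FiniteType.isNoetherianRing p.asIdeal.ResidueField _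
  have hK : Ring.KrullDimLE 0 (p.asIdeal.Fiber D) := by
    rw [Ring.krullDimLE_zero_iff]
    intro I hI
    have := isClosed_singleton (x := (⟨I, hI⟩ : PrimeSpectrum (p.asIdeal.Fiber D)))
    rwa [PrimeSpectrum.isClosed_singleton_iff_isMaximal] at this
  have hA : IsArtinianRing (p.asIdeal.Fiber D) := isArtinianRing_iff_isNoetherianRing_krullDimLE_zero.mpr ⟨hN, hK⟩
  have hd : DiscreteTopology (PrimeSpectrum (p.asIdeal.Fiber D)) := inferInstance
  have hd' : DiscreteTopology F := e.isEmbedding.discreteTopology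
  exact isOpen_discrete _

theorem surjective {R K D : Type u} [CommRing R] [IsDomain R] [IsLocalRing R] [IsIntegrallyClosed R] [Field K]
    [Algebra R K] [IsFractionRing R K] [CommRing D] [Algebra R D] [Algebra D K] [IsScalarTower R D K]
    (hinj : Function.Injective (algebraMap D K)) [Algebra.FiniteType R D] (q : Ideal D) [hqp : q.IsPrime]
    (hq : q.comap (algebraMap R D) = maximalIdeal R)
    (H : ∀ q' : PrimeSpectrum D, q'.asIdeal.comap (algebraMap R D) = maximalIdeal R → q'.asIdeal.IsMaximal) :
    Function.Surjective (algebraMap R D) := by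
  have h1 : Algebra.QuasiFiniteAt R q := quasiFiniteAt ⟨q, hqp⟩ hq H
  obtain ⟨r, hr, hri, hx⟩ := Algebra.zariskisMainProperty_iff.mp (Algebra.ZariskisMainProperty.of_finiteType (R := R) q)
  have key : ∀ y : D, IsIntegral R y → ∃ z : R, algebraMap R D z = y := by
    intro y hy
    have h2 : IsIntegral R (algebraMap D K y) := hy.algebraMap
    obtain ⟨z, hz⟩ := IsIntegrallyClosed.isIntegral_iff.mp h2
    refine ⟨z, hinj ?_⟩
    rw [← hz, ← IsScalarTower.algebraMap_apply]
  obtain ⟨r₀, rfl⟩ := key r hri
  have h3 : IsUnit r₀ := by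
    by_contra h
    apply hr
    have h4 : r₀ ∈ q.comap (algebraMap R D) := by
      rw [hq]
      exact (mem_maximalIdeal _).mpr h
    exact h4
  obtain ⟨s, hs⟩ := isUnit_iff_exists_inv'.mp h3
  intro y
  obtain ⟨m, hm⟩ := hx y
  obtain ⟨z, hz⟩ := key _ hm
  refine ⟨s ^ m * z, ?_⟩
  rw [map_mul, hz, ← mul_assoc, ← map_pow, ← map_mul, ← mul_pow, hs, one_pow, map_one, one_mul]

end K485.ZmtLoc
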