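import Groth.Agent.Neron.K485.DvrPow
import Groth.Agent.Neron.K485.DvrEss
import Groth.Agent.Neron.K485.ZmtLoc

/-!
# Divisible points of semi-abelian schemes over normal local rings extend

-/

set_option autoImplicit false
universe u

open CategoryTheory Limits AlgebraicGeometry MonoidalCategory CartesianMonoidalCategory
open scoped MonObj

namespace K485.DivExt

open K485.DvrPow

/-- Divisible points over finitely generated extensions are constant. -/
def ConstProp : Prop :=
  ∀ (k : Type u) [Field k] [IsAlgClosed k] [CharZero k] (G : Over (Spec (CommRingCat.of k))) [GrpObj G]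
    [IsCommMonObj G] [Smooth G.hom] [IsSeparated G.hom] [QuasiCompact G.hom] [ConnectedSpace G.left]
    (_ : SGA7.FibresUnipotentRankZero G) (L : Type u) [Field L] [Algebra k L] [Algebra.EssFiniteType k L]
    (x : pt (algebraMap k L) ⟶ G) (_ : ∀ n : ℕ, 0 < n → ∃ y : pt (algebraMap k L) ⟶ G, y ^ n = x),
    ∃ x₀ : 𝟙_ (Over (Spec (CommRingCat.of k))) ⟶ G,
      (Over.homMk (Spec.map (CommRingCat.ofHom (algebraMap k L))) : pt (algebraMap k L) ⟶ 𝟙_ _) ≫ x₀ = x

theorem isDominant_of_injective {D E : Type u} [CommRing D] [CommRing E]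
    (g : D →+* E) (hg : Function.Injective g) : IsDominant (Spec.map (CommRingCat.ofHom g)) := by
  refine ⟨?_⟩
  change DenseRange (PrimeSpectrum.comap g)
  rw [PrimeSpectrum.denseRange_comap_iff_ker_le_nilRadical, (RingHom.injective_iff_ker_eq_bot g).mp hg]
  exact bot_le

theorem bcEquiv_symm_left {S S' : Scheme.{u}} (f : S' ⟶ S) (T : Over S') (X : Over S) (z : T ⟶ Red.bc f X) :
    ((Groth.Agent.Sga3B.BcPts.bcEquiv f T X).symm z).left = z.left ≫ pullback.fst X.hom f := by
  simp [Groth.Agent.Sga3B.BcPts.bcEquiv, Adjunction.homEquiv_counit]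

theorem proper_comp {S T T' : Scheme.{u}} (𝒜 : Over S) (g : T ⟶ S) (r : T' ⟶ T)
    (hprop : IsProper (pullback.snd 𝒜.hom g)) : IsProper (pullback.snd 𝒜.hom (r ≫ g)) := by
  have h1 : IsPullback (pullback.fst 𝒜.hom (r ≫ g)) (pullback.snd 𝒜.hom (r ≫ g)) 𝒜.hom (r ≫ g) :=
    IsPullback.of_hasPullback _ _
  have h2 : IsPullback (pullback.lift (pullback.fst 𝒜.hom (r ≫ g))
      (pullback.snd 𝒜.hom (r ≫ g) ≫ r) (by rw [h1.w, Category.assoc]))
      (pullback.snd 𝒜.hom (r ≫ g)) (pullback.snd 𝒜.hom g) r := by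
    refine IsPullback.of_right (h₁₂ := pullback.fst 𝒜.hom g) (v₁₃ := 𝒜.hom) (h₂₂ := g) ?_ ?_
      (IsPullback.of_hasPullback 𝒜.hom g)
    · rw [pullback.lift_fst]
      exact h1
    · exact pullback.lift_snd _ _ _
  exact MorphismProperty.of_isPullback h2 hprop

theorem exists_loc (D K : Type u) [CommRing D] [IsDomain D] [Field K] [Algebra D K] [IsFractionRing D K]
    (q : Ideal D) [q.IsPrime] :
    ∃ (O : Type u) (_ : CommRing O) (_ : IsDomain O) (_ : IsLocalRing O) (_ : Algebra D O) (_ : Algebra O K)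
      (_ : IsScalarTower D O K) (_ : IsLocalization.AtPrime O q), IsFractionRing O K := by
  let O := Localization.AtPrime q
  have h1 : ∀ y : q.primeCompl, IsUnit (algebraMap D K y) := by
    intro y
    apply IsUnit.mk0
    intro h
    have h2 : (y : D) = 0 := IsFractionRing.injective D K (by rw [h, map_zero])
    exact y.2 (h2 ▸ q.zero_mem)
  let f : O →+* K := IsLocalization.lift (M := q.primeCompl) h1
  let _ : Algebra O K := f.toAlgebra
  have h2 : IsScalarTower D O K := IsScalarTower.of_algebraMap_eq fun d => (IsLocalization.lift_eq h1 d).symm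
  have h3 : IsDomain O := IsLocalization.isDomain_localization (Ideal.primeCompl_le_nonZeroDivisors q)
  exact ⟨O, inferInstance, h3, inferInstance, inferInstance, inferInstance, h2, inferInstance,
    IsFractionRing.isFractionRing_of_isDomain_of_isLocalization q.primeCompl O K⟩

theorem isFractionRing_of_tower (R D K : Type u) [CommRing R] [IsDomain R] [CommRing D] [IsDomain D] [Field K] [Algebra R K]
    [Algebra R D] [Algebra D K] [IsScalarTower R D K] [IsFractionRing R K]
    (hinj : Function.Injective (algebraMap D K)) : IsFractionRing D K := by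
  have hRK : Function.Injective (algebraMap R K) := IsFractionRing.injective R K
  refine ⟨⟨?_, ?_, ?_⟩⟩
  · intro y
    refine IsUnit.mk0 _ (fun h => nonZeroDivisors.ne_zero y.2 (hinj ?_))
    rw [h, map_zero]
  · intro z
    obtain ⟨a, b, hb, rfl⟩ := IsFractionRing.div_surjective (A := R) z
    have hb0 : algebraMap R K b ≠ 0 := fun h => nonZeroDivisors.ne_zero hb (hRK (by rw [h, map_zero]))
    refine ⟨⟨algebraMap R D a, ⟨algebraMap R D b, mem_nonZeroDivisors_of_ne_zero (fun h => hb0 ?_)⟩⟩, ?_⟩
    · rw [IsScalarTower.algebraMap_apply R D K, h, map_zero]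
    · change _ * algebraMap D K (algebraMap R D b) = algebraMap D K (algebraMap R D a)
      rw [← IsScalarTower.algebraMap_apply, ← IsScalarTower.algebraMap_apply, div_mul_cancel₀ _ hb0]
  · intro y z h
    exact ⟨1, by rw [hinj h]⟩

section

variable {R : Type u} [CommRing R] (𝒜 : Over (Spec (CommRingCat.of R)))

/-- Points over a domain are determined by their restriction to an extension. -/
theorem ext_of_inj [IsSeparated 𝒜.hom] {D E : Type u} [CommRing D] [IsDomain D] [CommRing E] (φ : R →+* D)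
    (χ : R →+* E) (g : D →+* E) (h : g.comp φ = χ) (hg : Function.Injective g) (a b : pt φ ⟶ 𝒜)
    (hab : ptMap φ χ g h ≫ a = ptMap φ χ g h ≫ b) : a = b := by
  ext1
  have h1 : Spec.map (CommRingCat.ofHom g) ≫ a.left = Spec.map (CommRingCat.ofHom g) ≫ b.left :=
    congrArg (fun z => z.left) hab
  have h2 : IsDominant (Spec.map (CommRingCat.ofHom g)) := isDominant_of_injective g hg
  have h3 : IsReduced (pt φ).left := inferInstanceAs (IsReduced (Spec (CommRingCat.of D)))
  exact ext_of_isDominant_of_isSeparated 𝒜.hom ((Over.w a).trans (Over.w b).symm)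
    (Spec.map (CommRingCat.ofHom g)) h1

variable [GrpObj 𝒜] [Smooth 𝒜.hom] [IsSeparated 𝒜.hom] [QuasiCompact 𝒜.hom]

theorem exists_root' (hsab : SGA7.FibresUnipotentRankZero 𝒜)
    (hconn : ∀ (L : Type u) [Field L] (t : Spec (CommRingCat.of L) ⟶ Spec (CommRingCat.of R)),
      ConnectedSpace ↑(pullback 𝒜.hom t))
    {V K : Type u} [CommRing V] [IsDomain V] [IsDiscreteValuationRing V] [Field K] [Algebra V K] [IsFractionRing V K]
    (φ : R →+* V) (ψ : R →+* K) (h : (algebraMap V K).comp φ = ψ)
    (hprop : IsProper (pullback.snd 𝒜.hom (Spec.map (CommRingCat.ofHom ψ))))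
    (c : pt ψ ⟶ 𝒜) (hc : ∀ n : ℕ, 0 < n → ∃ y : pt ψ ⟶ 𝒜, y ^ n = c) (n : ℕ) (hn : 0 < n) :
    ∃ z : pt φ ⟶ 𝒜, (ptMap φ ψ (algebraMap V K) h ≫ z) ^ n = c := by
  subst h
  exact exists_root 𝒜 hsab hconn φ hprop c hc n hn

/-- Constancy of the reduction of divisible points. -/
theorem exists_const [IsCommMonObj 𝒜] (hE : ConstProp.{u}) [IsLocalRing R] [IsAlgClosed (IsLocalRing.ResidueField R)]
    [CharZero (IsLocalRing.ResidueField R)] (hsab : SGA7.FibresUnipotentRankZero 𝒜)
    (hconn : ∀ (L : Type u) [Field L] (t : Spec (CommRingCat.of L) ⟶ Spec (CommRingCat.of R)),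
      ConnectedSpace ↑(pullback 𝒜.hom t))
    (L : Type u) [Field L] [Algebra (IsLocalRing.ResidueField R) L]
    [Algebra.EssFiniteType (IsLocalRing.ResidueField R) L]
    (x : pt ((algebraMap (IsLocalRing.ResidueField R) L).comp (IsLocalRing.residue R)) ⟶ 𝒜)
    (hx : ∀ n : ℕ, 0 < n → ∃ y : pt ((algebraMap (IsLocalRing.ResidueField R) L).comp (IsLocalRing.residue R)) ⟶ 𝒜,
      y ^ n = x) :
    ∃ x₀ : Spec (CommRingCat.of (IsLocalRing.ResidueField R)) ⟶ 𝒜.left,
      Spec.map (CommRingCat.ofHom (algebraMap (IsLocalRing.ResidueField R) L)) ≫ x₀ = x.left := by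
  let k := IsLocalRing.ResidueField R
  let p : Spec (CommRingCat.of k) ⟶ Spec (CommRingCat.of R) := Spec.map (CommRingCat.ofHom (IsLocalRing.residue R))
  let G := Red.bc p 𝒜
  have i1 : Smooth G.hom := by change Smooth (pullback.snd 𝒜.hom p); infer_instance
  have i2 : IsSeparated G.hom := by change IsSeparated (pullback.snd 𝒜.hom p); infer_instance
  have i3 : QuasiCompact G.hom := by change QuasiCompact (pullback.snd 𝒜.hom p); infer_instance
  have i4 : ConnectedSpace G.left := hconn k p
  have i5 : IsCommMonObj G := inferInstance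
  let w : (Over.map p).obj (pt (algebraMap k L)) ⟶ pt ((algebraMap k L).comp (IsLocalRing.residue R)) :=
    Over.homMk (𝟙 _) (by
      rw [Category.id_comp]
      exact (spec_comp (IsLocalRing.residue R) (algebraMap k L)).symm)
  let B := Groth.Agent.Sga3B.BcPts.bcMulEquiv p (pt (algebraMap k L)) 𝒜
  obtain ⟨x₀, hx₀⟩ := hE k G (ursz_bc p 𝒜 hsab) L (B (w ≫ x)) (fun n hn => by
    obtain ⟨y, hy⟩ := hx n hn
    refine ⟨B (w ≫ y), ?_⟩
    rw [← map_pow, ← MonObj.comp_pow, hy])
  refine ⟨x₀.left ≫ pullback.fst 𝒜.hom p, ?_⟩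
  have h1 : (Groth.Agent.Sga3B.BcPts.bcEquiv p (pt (algebraMap k L)) 𝒜).symm (B (w ≫ x)) = w ≫ x :=
    (Groth.Agent.Sga3B.BcPts.bcEquiv p _ 𝒜).symm_apply_apply _
  have h2 := congrArg (fun z => z.left) h1
  rw [← hx₀] at h2
  have h3 := (bcEquiv_symm_left p _ 𝒜 _).symm.trans h2
  have h4 : (w ≫ x).left = x.left := Category.id_comp _
  rw [← h4, ← h3]
  exact (Category.assoc _ _ _).symm

/-- The closure of a divisible point has finite fibre over the closed point. -/
theorem isMaximal_of [IsCommMonObj 𝒜] (hE : ConstProp.{u}) [IsDomain R] [IsLocalRing R]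
    [IsNoetherianRing R] (hR : ¬ IsField R)
    [IsAlgClosed (IsLocalRing.ResidueField R)] [CharZero (IsLocalRing.ResidueField R)]
    (hsab : SGA7.FibresUnipotentRankZero 𝒜)
    (hconn : ∀ (L : Type u) [Field L] (t : Spec (CommRingCat.of L) ⟶ Spec (CommRingCat.of R)),
      ConnectedSpace ↑(pullback 𝒜.hom t))
    {K D D₀ : Type u} [Field K] [Algebra R K] [IsFractionRing R K] [CommRing D] [IsDomain D] [Algebra R D]
    [Algebra D K] [IsScalarTower R D K] [IsFractionRing D K] [Algebra.FiniteType R D] [CommRing D₀]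
    (hprop : IsProper (pullback.snd 𝒜.hom (Spec.map (CommRingCat.ofHom (algebraMap R K)))))
    (c : pt (algebraMap R K) ⟶ 𝒜) (hc : ∀ n : ℕ, 0 < n → ∃ y : pt (algebraMap R K) ⟶ 𝒜, y ^ n = c)
    (j : Spec (CommRingCat.of D₀) ⟶ 𝒜.left) [IsOpenImmersion j] (g : D₀ →+* D) (hg : Function.Surjective g)
    (h1 : Spec.map (CommRingCat.ofHom (algebraMap D K)) ≫ Spec.map (CommRingCat.ofHom g) ≫ j = c.left)
    (h2 : Spec.map (CommRingCat.ofHom g) ≫ j ≫ 𝒜.hom = Spec.map (CommRingCat.ofHom (algebraMap R D)))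
    (q : Ideal D) [q.IsPrime] (hq : q.comap (algebraMap R D) = IsLocalRing.maximalIdeal R) : q.IsMaximal := by
  obtain ⟨O, _, _, _, _, _, _, hO1, hO2⟩ := exists_loc D K q
  have hRK : Function.Injective (algebraMap R K) := IsFractionRing.injective R K
  have hN : IsNoetherianRing D := Algebra.FiniteType.isNoetherianRing R D
  have hON : IsNoetherianRing O := IsLocalization.isNoetherianRing q.primeCompl _ inferInstance
  let _ : Algebra R O := ((algebraMap D O).comp (algebraMap R D)).toAlgebra
  have hROt : IsScalarTower R D O := IsScalarTower.of_algebraMap_eq fun _ => rfl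
  have hROK : IsScalarTower R O K := IsScalarTower.of_algebraMap_eq fun r => by
    rw [IsScalarTower.algebraMap_apply R D O, ← IsScalarTower.algebraMap_apply D O K,
      ← IsScalarTower.algebraMap_apply R D K]
  have hmemO : ∀ d : D, algebraMap D O d ∈ IsLocalRing.maximalIdeal O ↔ d ∈ q := fun d =>
    IsLocalization.AtPrime.to_map_mem_maximal_iff O q d
  have hO : ¬ IsField O := by
    intro hf
    obtain ⟨r, hr, hr0⟩ := Submodule.exists_mem_ne_zero_of_ne_bot
      (fun h => hR (IsLocalRing.isField_iff_maximalIdeal_eq.mpr h))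
    rw [← hq] at hr
    have h3 := (hmemO _).mpr hr
    rw [IsLocalRing.isField_iff_maximalIdeal_eq.mp hf, Ideal.mem_bot] at h3
    apply hr0
    apply hRK
    rw [map_zero, IsScalarTower.algebraMap_apply R D K, IsScalarTower.algebraMap_apply D O K, h3, map_zero]
  have hOK : Algebra.EssFiniteType O K := Algebra.EssFiniteType.of_isLocalization _ (nonZeroDivisors O)
  obtain ⟨V, _, _, _, _, _, _, _, _, hess⟩ := DvrEss.exists_dvr O hO K (IsFractionRing.injective O K)
  let φ : R →+* V := (algebraMap O V).comp (algebraMap R O)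
  have hφ : (algebraMap V K).comp φ = algebraMap R K := by
    rw [IsScalarTower.algebraMap_eq R O K, IsScalarTower.algebraMap_eq O V K, RingHom.comp_assoc]
  have hloc : IsLocalHom (algebraMap R O) := by
    refine ⟨fun r hr => ?_⟩
    by_contra h
    have h3 : r ∈ q.comap (algebraMap R D) := by rw [hq]; exact (IsLocalRing.mem_maximalIdeal _).mpr h
    exact (IsLocalRing.mem_maximalIdeal _).mp ((hmemO _).mpr h3) hr
  have hφl : IsLocalHom φ := RingHom.isLocalHom_comp _ _
  let k := IsLocalRing.ResidueField R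
  let L := IsLocalRing.ResidueField V
  let κ : k →+* L := IsLocalRing.ResidueField.map φ
  let _ : Algebra k L := κ.toAlgebra
  have hkL : (algebraMap k L).comp (IsLocalRing.residue R) = (IsLocalRing.residue V).comp φ :=
    IsLocalRing.ResidueField.map_comp_residue φ
  have hkess : Algebra.EssFiniteType k L := by
    have e1 : Algebra.EssFiniteType D O := Algebra.EssFiniteType.of_isLocalization O q.primeCompl
    have e2 : Algebra.EssFiniteType R O := Algebra.EssFiniteType.comp R D O
    let _ : Algebra R V := φ.toAlgebra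
    have e3 : IsScalarTower R O L := IsScalarTower.of_algebraMap_eq fun _ => rfl
    have e4 : Algebra.EssFiniteType R L := Algebra.EssFiniteType.comp R O L
    have e5 : IsScalarTower R k L := IsScalarTower.of_algebraMap_eq fun r => (RingHom.congr_fun hkL r).symm
    exact Algebra.EssFiniteType.of_comp R k L
  let χ : D →+* L := (IsLocalRing.residue V).comp ((algebraMap O V).comp (algebraMap D O))
  -- the point over `V`
  have hz : (Spec.map (CommRingCat.ofHom ((algebraMap O V).comp (algebraMap D O))) ≫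
      Spec.map (CommRingCat.ofHom g) ≫ j) ≫ 𝒜.hom = Spec.map (CommRingCat.ofHom φ) := by
    rw [Category.assoc, Category.assoc, h2, spec_comp]
  let z : pt φ ⟶ 𝒜 := Over.homMk _ hz
  have hzK : ptMap φ _ (algebraMap V K) hφ ≫ z = c := by
    ext1
    change Spec.map (CommRingCat.ofHom (algebraMap V K)) ≫ Spec.map _ ≫ _ = _
    rw [← h1, ← Category.assoc, spec_comp]
    congr 3
    rw [IsScalarTower.algebraMap_eq D O K, IsScalarTower.algebraMap_eq O V K, RingHom.comp_assoc]
  let r : pt ((algebraMap k L).comp (IsLocalRing.residue R)) ⟶ pt φ := ptMap φ _ (IsLocalRing.residue V) hkL.symm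
  obtain ⟨x₀, hx₀⟩ := exists_const 𝒜 hE hsab hconn L (r ≫ z) (fun n hn => by
    obtain ⟨zn, hzn⟩ := exists_root' 𝒜 hsab hconn φ _ hφ hprop c hc n hn
    refine ⟨r ≫ zn, ?_⟩
    rw [← MonObj.comp_pow]
    congr 1
    apply ext_of_inj 𝒜 φ _ (algebraMap V K) hφ (IsFractionRing.injective V K)
    rw [hzK, MonObj.comp_pow, hzn])
  have hx₀' : Spec.map (CommRingCat.ofHom (algebraMap k L)) ≫ x₀ =
      Spec.map (CommRingCat.ofHom χ) ≫ Spec.map (CommRingCat.ofHom g) ≫ j := by
    rw [hx₀]
    change Spec.map (CommRingCat.ofHom (IsLocalRing.residue V)) ≫ Spec.map _ ≫ _ = _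
    rw [← Category.assoc, spec_comp]
  have hr : Set.range x₀ ⊆ Set.range j := by
    rintro _ ⟨y, rfl⟩
    have h3 : y = Spec.map (CommRingCat.ofHom (algebraMap k L)) (IsLocalRing.closedPoint L) :=
      Subsingleton.elim (α := PrimeSpectrum k) _ _
    rw [h3, ← Scheme.Hom.comp_apply, hx₀', ← Category.assoc, Scheme.Hom.comp_apply]
    exact ⟨_, rfl⟩
  obtain ⟨a, ha⟩ := Spec.map_surjective (IsOpenImmersion.lift j x₀ hr)
  have ha' : Spec.map a ≫ j = x₀ := by rw [ha]; exact IsOpenImmersion.lift_fac _ _ _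
  have h3 : (algebraMap k L).comp a.hom = χ.comp g := by
    have h4 : Spec.map (CommRingCat.ofHom (algebraMap k L)) ≫ Spec.map a =
        Spec.map (CommRingCat.ofHom χ) ≫ Spec.map (CommRingCat.ofHom g) := by
      rw [← cancel_mono j, Category.assoc, ha', hx₀', Category.assoc]
    rw [← Spec.map_comp, ← Spec.map_comp] at h4
    exact congrArg CommRingCat.Hom.hom (Spec.map_injective h4)
  have hχ : ∀ d : D, χ d = 0 ↔ d ∈ q := by
    intro d
    rw [← hmemO]
    change IsLocalRing.residue V (algebraMap O V (algebraMap D O d)) = 0 ↔ _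
    rw [IsLocalRing.residue_eq_zero_iff, IsLocalRing.mem_maximalIdeal, IsLocalRing.mem_maximalIdeal,
      map_mem_nonunits_iff]
  rw [Ideal.isMaximal_iff]
  refine ⟨fun h => ‹q.IsPrime›.ne_top ((Ideal.eq_top_iff_one q).mpr h), fun J d hJ hd hdJ => ?_⟩
  obtain ⟨d₀, rfl⟩ := hg d
  have h4 : algebraMap k L (a.hom d₀) = χ (g d₀) := RingHom.congr_fun h3 d₀
  obtain ⟨s, hs⟩ := IsLocalRing.residue_surjective (a.hom d₀)
  have h5 : χ (algebraMap R D s) = χ (g d₀) := by
    rw [← h4, ← hs]
    exact (RingHom.congr_fun hkL s).symm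
  have h6 : IsUnit s := by
    by_contra h
    apply hd
    rw [← hχ, ← h4, ← hs, (IsLocalRing.residue_eq_zero_iff s).mpr ((IsLocalRing.mem_maximalIdeal _).mpr h), map_zero]
  have h7 : algebraMap R D s - g d₀ ∈ q := by
    rw [← hχ, map_sub, h5, sub_self]
  have h8 : algebraMap R D s ∈ J := by
    have := J.add_mem (hJ h7) hdJ
    rwa [sub_add_cancel] at this
  exact (Ideal.eq_top_iff_one J).mp (Ideal.eq_top_of_isUnit_mem J h8 (h6.map _))

/-- Divisible points over the fraction field of a normal Noetherian local domain extend. -/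
theorem exists_extend_frac [IsCommMonObj 𝒜] (hE : ConstProp.{u}) [IsDomain R] [IsLocalRing R]
    [IsNoetherianRing R] [IsIntegrallyClosed R]
    [IsAlgClosed (IsLocalRing.ResidueField R)] [CharZero (IsLocalRing.ResidueField R)]
    (hsab : SGA7.FibresUnipotentRankZero 𝒜)
    (hconn : ∀ (L : Type u) [Field L] (t : Spec (CommRingCat.of L) ⟶ Spec (CommRingCat.of R)),
      ConnectedSpace ↑(pullback 𝒜.hom t))
    {K : Type u} [Field K] [Algebra R K] [IsFractionRing R K]
    (hprop : IsProper (pullback.snd 𝒜.hom (Spec.map (CommRingCat.ofHom (algebraMap R K)))))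
    (c : pt (algebraMap R K) ⟶ 𝒜) (hc : ∀ n : ℕ, 0 < n → ∃ y : pt (algebraMap R K) ⟶ 𝒜, y ^ n = c) :
    ∃ s : Spec (CommRingCat.of R) ⟶ 𝒜.left, Spec.map (CommRingCat.ofHom (algebraMap R K)) ≫ s = c.left := by
  have hRK : Function.Injective (algebraMap R K) := IsFractionRing.injective R K
  by_cases hR : IsField R
  · have h1 : Function.Surjective (algebraMap R K) := by
      intro z
      obtain ⟨a, b, hb, rfl⟩ := IsFractionRing.div_surjective (A := R) z
      obtain ⟨b', hb'⟩ := hR.mul_inv_cancel (nonZeroDivisors.ne_zero hb)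
      refine ⟨a * b', ?_⟩
      have h2 : algebraMap R K b * algebraMap R K b' = 1 := by rw [← map_mul, hb', map_one]
      have h3 : algebraMap R K b ≠ 0 := left_ne_zero_of_mul_eq_one h2
      rw [map_mul, eq_div_iff h3, mul_assoc, mul_comm (algebraMap R K b'), h2, mul_one]
    let e : R ≃+* K := RingEquiv.ofBijective (algebraMap R K) ⟨hRK, h1⟩
    refine ⟨Spec.map (CommRingCat.ofHom e.symm.toRingHom) ≫ c.left, ?_⟩
    rw [← Category.assoc, spec_comp]
    have h2 : (algebraMap R K).comp e.symm.toRingHom = RingHom.id K := RingHom.ext fun z => e.apply_symm_apply z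
    rw [h2, CommRingCat.ofHom_id, Spec.map_id, Category.id_comp]
  have hRKe : Algebra.EssFiniteType R K := Algebra.EssFiniteType.of_isLocalization _ (nonZeroDivisors R)
  obtain ⟨V, _, _, _, _, _, _, _, hloc, -⟩ := DvrEss.exists_dvr R hR K hRK
  have hV : (algebraMap V K).comp (algebraMap R V) = algebraMap R K := (IsScalarTower.algebraMap_eq R V K).symm
  obtain ⟨z₀, hz₀⟩ := exists_root' 𝒜 hsab hconn (algebraMap R V) _ hV hprop c hc 1 one_pos
  rw [pow_one] at hz₀
  have hz₀' : Spec.map (CommRingCat.ofHom (algebraMap V K)) ≫ z₀.left = c.left := congrArg (fun z => z.left) hz₀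
  set x := z₀.left (IsLocalRing.closedPoint V) with hx
  let U := 𝒜.left.affineCover.X (𝒜.left.affineCover.idx x)
  let j₀ : U ⟶ 𝒜.left := 𝒜.left.affineCover.f (𝒜.left.affineCover.idx x)
  have hj : x ∈ Set.range j₀ := 𝒜.left.affineCover.covers x
  have hU : IsAffine U := inferInstance
  let D₀ : Type u := Γ(U, ⊤)
  let j : Spec (CommRingCat.of D₀) ⟶ 𝒜.left := U.isoSpec.inv ≫ j₀
  have hjr : Set.range j = Set.range j₀ := by
    ext y
    constructor
    · rintro ⟨w, rfl⟩
      exact ⟨U.isoSpec.inv w, rfl⟩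
    · rintro ⟨w, rfl⟩
      refine ⟨U.isoSpec.hom w, ?_⟩
      rw [← Scheme.Hom.comp_apply]
      change (U.isoSpec.hom ≫ U.isoSpec.inv ≫ j₀) w = _
      rw [Iso.hom_inv_id_assoc]
  have hji : IsOpenImmersion j := inferInstance
  have hr : Set.range z₀.left ⊆ Set.range j := by
    rw [hjr]
    rintro _ ⟨y, rfl⟩
    have h4 : y ⤳ IsLocalRing.closedPoint V := IsLocalRing.specializes_closedPoint y
    exact (h4.map z₀.left.continuous).mem_open j₀.isOpenEmbedding.isOpen_range hj
  obtain ⟨a, ha⟩ := Spec.map_surjective (IsOpenImmersion.lift j z₀.left hr)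
  have ha' : Spec.map a ≫ j = z₀.left := by rw [ha]; exact IsOpenImmersion.lift_fac _ _ _
  -- the structure map of `D₀`
  obtain ⟨σ, hσ⟩ := Spec.map_surjective (j ≫ 𝒜.hom)
  have hft : σ.hom.FiniteType := by
    have h5 : LocallyOfFiniteType (Spec.map σ) := by rw [hσ]; infer_instance
    exact (HasRingHomProperty.Spec_iff (P := @LocallyOfFiniteType)).mp h5
  let b : D₀ →+* K := (algebraMap V K).comp a.hom
  have hbσ : b.comp σ.hom = algebraMap R K := by
    have h5 : Spec.map (CommRingCat.ofHom b) ≫ Spec.map σ = Spec.map (CommRingCat.ofHom (algebraMap R K)) := by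
      have h6 : Spec.map (CommRingCat.ofHom b) = Spec.map (CommRingCat.ofHom (algebraMap V K)) ≫ Spec.map a := by
        rw [← Spec.map_comp]
        rfl
      rw [h6, hσ, Category.assoc, ← Category.assoc _ j, ha', ← Category.assoc, hz₀']
      exact Over.w c
    rw [← Spec.map_comp] at h5
    exact congrArg CommRingCat.Hom.hom (Spec.map_injective h5)
  have hbj : Spec.map (CommRingCat.ofHom b) ≫ j = c.left := by
    have h6 : Spec.map (CommRingCat.ofHom b) = Spec.map (CommRingCat.ofHom (algebraMap V K)) ≫ Spec.map a := by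
      rw [← Spec.map_comp]
      rfl
    rw [h6, Category.assoc, ha', hz₀']
  -- the image `D` of `D₀` in `K`
  let D : Subring K := b.range
  let g : D₀ →+* D := b.rangeRestrict
  have hg : Function.Surjective g := b.rangeRestrict_surjective
  let _ : Algebra R D := (g.comp σ.hom).toAlgebra
  have hRDK : IsScalarTower R D K := IsScalarTower.of_algebraMap_eq fun r => (RingHom.congr_fun hbσ r).symm
  have hDK : Function.Injective (algebraMap D K) := Subtype.val_injective
  have hfrac : IsFractionRing D K := isFractionRing_of_tower R D K hDK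
  have hDft : Algebra.FiniteType R D := by
    have h6 : (g.comp σ.hom).FiniteType := hft.comp_surjective hg
    exact h6
  have hDV : D ≤ (algebraMap V K).range := by
    rintro _ ⟨d, rfl⟩
    exact ⟨a.hom d, rfl⟩
  let e : V ≃+* (algebraMap V K).range := RingEquiv.ofBijective (algebraMap V K).rangeRestrict
    ⟨fun x y hxy => IsFractionRing.injective V K (congrArg Subtype.val hxy), (algebraMap V K).rangeRestrict_surjective⟩
  let δ : D →+* V := e.symm.toRingHom.comp (Subring.inclusion hDV)
  have hδ : (algebraMap V K).comp δ = algebraMap D K := by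
    ext d
    exact congrArg Subtype.val (e.apply_symm_apply (Subring.inclusion hDV d))
  have hδR : δ.comp (algebraMap R D) = algebraMap R V := by
    ext r
    apply IsFractionRing.injective V K
    change ((algebraMap V K).comp δ) (algebraMap R D r) = _
    rw [hδ, ← IsScalarTower.algebraMap_apply, ← IsScalarTower.algebraMap_apply]
  let q : Ideal D := (IsLocalRing.maximalIdeal V).comap δ
  have hqp : q.IsPrime := inferInstance
  have hq : q.comap (algebraMap R D) = IsLocalRing.maximalIdeal R := by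
    rw [Ideal.comap_comap, hδR]
    exact ((IsLocalRing.local_hom_TFAE (algebraMap R V)).out 0 4).mp hloc
  have hsurj : Function.Surjective (algebraMap R D) := by
    refine ZmtLoc.surjective hDK q hq fun q' hq' => ?_
    exact isMaximal_of 𝒜 hE hR hsab hconn hprop c hc j g hg
      (by
        rw [← Category.assoc, spec_comp]
        exact hbj)
      (by
        rw [← hσ]
        change Spec.map _ ≫ Spec.map (CommRingCat.ofHom σ.hom) = _
        rw [spec_comp]) q'.asIdeal hq'
  have hinj : Function.Injective (algebraMap R D) := by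
    intro x y h
    apply hRK
    rw [IsScalarTower.algebraMap_apply R D K, h, ← IsScalarTower.algebraMap_apply]
  let ε : R ≃+* D := RingEquiv.ofBijective (algebraMap R D) ⟨hinj, hsurj⟩
  refine ⟨Spec.map (CommRingCat.ofHom (ε.symm.toRingHom.comp g)) ≫ j, ?_⟩
  rw [← Category.assoc, spec_comp, ← hbj]
  congr 3
  ext d
  change algebraMap R K (ε.symm (g d)) = b d
  rw [IsScalarTower.algebraMap_apply R D K]
  exact congrArg Subtype.val (ε.apply_symm_apply (g d))

/-- **Divisible points extend** (over normal local rings), granting the constancy of divisible points over fields. -/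
theorem exists_extend [IsCommMonObj 𝒜] (hE : ConstProp.{u}) [IsDomain R] [IsLocalRing R]
    [IsNoetherianRing R] [IsIntegrallyClosed R]
    [IsAlgClosed (IsLocalRing.ResidueField R)] [CharZero (IsLocalRing.ResidueField R)]
    (hsab : SGA7.FibresUnipotentRankZero 𝒜)
    (hconn : ∀ (L : Type u) [Field L] (t : Spec (CommRingCat.of L) ⟶ Spec (CommRingCat.of R)),
      ConnectedSpace ↑(pullback 𝒜.hom t))
    (B : Type u) [CommRing B] [IsDomain B] [Algebra R B] (K : Type u) [Field K] [Algebra R K] [Algebra B K]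
    [IsScalarTower R B K] [IsFractionRing R K] (hBK : Function.Injective (algebraMap B K))
    (hprop : IsProper (pullback.snd 𝒜.hom (Spec.map (CommRingCat.ofHom (algebraMap R B)))))
    (c : pt (algebraMap R B) ⟶ 𝒜) (hc : ∀ n : ℕ, 0 < n → ∃ y : pt (algebraMap R B) ⟶ 𝒜, y ^ n = c) :
    ∃ c' : Over.mk (𝟙 (Spec (CommRingCat.of R))) ⟶ 𝒜,
      (Over.homMk (Spec.map (CommRingCat.ofHom (algebraMap R B))) :
        pt (algebraMap R B) ⟶ Over.mk (𝟙 (Spec (CommRingCat.of R)))) ≫ c' = c := by
  have h1 : (algebraMap B K).comp (algebraMap R B) = algebraMap R K := (IsScalarTower.algebraMap_eq R B K).symm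
  let r : pt (algebraMap R K) ⟶ pt (algebraMap R B) := ptMap _ _ (algebraMap B K) h1
  have hprop' : IsProper (pullback.snd 𝒜.hom (Spec.map (CommRingCat.ofHom (algebraMap R K)))) := by
    rw [← h1, ← spec_comp]
    exact proper_comp 𝒜 _ _ hprop
  obtain ⟨s, hs⟩ := exists_extend_frac 𝒜 hE hsab hconn hprop' (r ≫ c) (fun n hn => by
    obtain ⟨y, hy⟩ := hc n hn
    exact ⟨r ≫ y, by rw [← MonObj.comp_pow, hy]⟩)
  have h2 : s ≫ 𝒜.hom = 𝟙 _ := by
    apply spec_eq_of_dom (algebraMap R K) (IsFractionRing.injective R K)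
    rw [← Category.assoc, hs, Category.comp_id]
    exact Over.w (r ≫ c)
  refine ⟨Over.homMk s h2, ?_⟩
  apply ext_of_inj 𝒜 (algebraMap R B) _ (algebraMap B K) h1 hBK
  ext1
  change Spec.map _ ≫ Spec.map _ ≫ s = (r ≫ c).left
  rw [← hs, ← Category.assoc, spec_comp, h1]

end

end K485.DivExt
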