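import Groth.Agent.Neron.K485.DivAb
import Groth.Agent.Neron.K485.DivExt
import Groth.Agent.Sga7.H109.Struct
import Groth.Agent.Sga7.H301.NoGa
import Groth.Agent.Sga3B.PtMor
import Groth.Agent.Sga3.H780.Pointed
import Groth.Agent.Sga3.H780.PointedProd

/-!
# Divisible points of semi-abelian varieties over finitely generated extensions are constant
-/

set_option autoImplicit false
universe u

open CategoryTheory Limits AlgebraicGeometry MonoidalCategory CartesianMonoidalCategory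
open scoped MonObj

namespace K485.DivConst

open Groth.Agent Groth.Agent.Sga3B.AffTest

/-- The group theory. -/
theorem grp {A B C A₀ B₀ C₀ : Type*} [CommGroup A] [CommGroup B] [CommGroup C] [CommGroup A₀] [CommGroup B₀]
    [CommGroup C₀] (q : A →* B) (i : C →* A) (q₀ : A₀ →* B₀) (i₀ : C₀ →* A₀) (a : A₀ →* A) (b : B₀ →* B)
    (c : C₀ →* C) (hqa : ∀ x, q (a x) = b (q₀ x)) (hia : ∀ x, i (c x) = a (i₀ x)) (hi : Function.Injective i)
    (hiq : ∀ x, q (i x) = 1)
    (hker : ∀ x, q x = 1 → ∃ y, i y = x) (hker₀ : ∀ x, q₀ x = 1 → ∃ y, i₀ y = x)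
    (hb : Function.Injective b) (hq₀ : Function.Surjective q₀)
    (h1 : ∀ x : B, (∀ n : ℕ, 0 < n → ∃ y, y ^ n = x) → ∃ z, b z = x)
    (h2 : ∀ (x : B) (n : ℕ), 0 < n → x ^ n = 1 → ∃ z, b z = x)
    (h3 : ∀ (n : ℕ), 0 < n → ∀ x : B₀, ∃ y, y ^ n = x)
    (h4 : ∀ (n : ℕ), 0 < n → ∀ x : C₀, ∃ y, y ^ n = x)
    (h5 : ∀ x : C, (∀ n : ℕ, 0 < n → ∃ y, y ^ n = x) → ∃ z, c z = x)
    (x : A) (hx : ∀ n : ℕ, 0 < n → ∃ y, y ^ n = x) : ∃ z, a z = x := by
  -- `A₀` is divisible
  have hA₀ : ∀ (n : ℕ), 0 < n → ∀ x : A₀, ∃ y, y ^ n = x := by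
    intro n hn x
    obtain ⟨y₀, hy₀⟩ := h3 n hn (q₀ x)
    obtain ⟨y, rfl⟩ := hq₀ y₀
    obtain ⟨w, hw⟩ := hker₀ (x * (y ^ n)⁻¹) (by rw [map_mul, map_inv, map_pow, hy₀, mul_inv_cancel])
    obtain ⟨v, rfl⟩ := h4 n hn w
    refine ⟨y * i₀ v, ?_⟩
    rw [mul_pow, ← map_pow, hw, mul_left_comm, mul_inv_cancel, mul_one]
  -- the image of `x` is constant
  obtain ⟨s, hs⟩ := h1 (q x) (fun n hn => by
    obtain ⟨y, rfl⟩ := hx n hn
    exact ⟨q y, (map_pow q y n).symm⟩)
  obtain ⟨t, rfl⟩ := hq₀ s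
  obtain ⟨w, hw⟩ := hker (x * (a t)⁻¹) (by rw [map_mul, map_inv, hqa, hs, mul_inv_cancel])
  -- `w` is divisible
  have hwd : ∀ n : ℕ, 0 < n → ∃ y, y ^ n = w := by
    intro n hn
    obtain ⟨y, hy⟩ := hx n hn
    obtain ⟨t', ht'⟩ := hA₀ n hn t
    have h6 : (y * (a t')⁻¹) ^ n = i w := by
      rw [mul_pow, inv_pow, hy, ← map_pow, ht', hw]
    obtain ⟨s', hs'⟩ := h2 (q (y * (a t')⁻¹)) n hn (by rw [← map_pow, h6, hiq])
    obtain ⟨r, rfl⟩ := hq₀ s'
    obtain ⟨v, hv⟩ := hker (y * (a t')⁻¹ * (a r)⁻¹) (by rw [map_mul, map_inv q (a r), hqa r, hs', mul_inv_cancel])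
    have h7 : q₀ (r ^ n) = 1 := by
      apply hb
      rw [map_pow, map_pow, hs', ← map_pow, h6, hiq, map_one]
    obtain ⟨e, he⟩ := hker₀ _ h7
    obtain ⟨f, rfl⟩ := h4 n hn e
    refine ⟨v * c f, hi ?_⟩
    rw [map_pow, map_mul, hia, hv, mul_pow, ← map_pow a, ← map_pow i₀, he, mul_pow _ (a r)⁻¹, h6, map_pow, inv_pow,
      inv_mul_cancel_right]
  obtain ⟨z, hz⟩ := h5 w hwd
  refine ⟨i₀ z * t, ?_⟩
  rw [map_mul, ← hia, hz, hw, inv_mul_cancel_right]

section pts

variable {k : Type u} [Field k] [IsAlgClosed k] {L : Type u} [Field L] [Algebra k L]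

variable (k L) in
/-- the structure map `Spec L ⟶ Spec k` -/
noncomputable abbrev cst : sp k L ⟶ sp k k := spMap (Algebra.ofId k L)

omit [IsAlgClosed k] in
theorem sp_hom_self : (sp k k).hom = 𝟙 _ := by
  rw [sp_hom]
  exact Spec.map_id _

/-- A point with closed image is constant. -/
theorem const_of_closed' {X : Scheme.{u}} (f : X ⟶ Spec (CommRingCat.of k)) [LocallyOfFiniteType f]
    (x : Spec (CommRingCat.of L) ⟶ X) (h : x ≫ f = Spec.map (CommRingCat.ofHom (algebraMap k L)))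
    (hx : IsClosed ({x (IsLocalRing.closedPoint L)} : Set X)) :
    Spec.map (CommRingCat.ofHom (algebraMap k L)) ≫ pointOfClosedPoint f _ hx = x := by
  have h1 := Scheme.descResidueField_stalkClosedPointTo_fromSpecResidueField L _ x
  have h3 : Spec.map (Scheme.descResidueField (Scheme.stalkClosedPointTo x)) ≫
      Spec.map (residueFieldIsoBase f _ hx).inv = Spec.map (CommRingCat.ofHom (algebraMap k L)) := by
    rw [SpecMap_residueFieldIsoBase_inv, ← h, ← Category.assoc]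
    exact congrArg (fun z => z ≫ f) h1
  rw [← h3, pointOfClosedPoint, Category.assoc, ← Category.assoc (Spec.map (residueFieldIsoBase f _ hx).inv),
    ← Spec.map_comp, Iso.hom_inv_id, Spec.map_id, Category.id_comp]
  exact h1

theorem const_of_closed (X : Over (Spec (CommRingCat.of k))) [LocallyOfFiniteType X.hom] (x : sp k L ⟶ X)
    (hx : IsClosed ({x.left (IsLocalRing.closedPoint L)} : Set X.left)) : ∃ x₀ : sp k k ⟶ X, cst k L ≫ x₀ = x := by
  refine ⟨Over.homMk (pointOfClosedPoint X.hom _ hx) ?_, ?_⟩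
  · exact (pointOfClosedPoint_comp X.hom _ hx).trans sp_hom_self.symm
  ext1
  exact const_of_closed' X.hom x.left (Over.w x) hx

/-- Surjective morphisms are surjective on points over an algebraically closed field. -/
theorem exists_lift_pt {G Q : Over (Spec (CommRingCat.of k))} [LocallyOfFiniteType G.hom] [LocallyOfFiniteType Q.hom]
    (q : G ⟶ Q) [Surjective q.left] (s : sp k k ⟶ Q) :
    ∃ t : sp k k ⟶ G, t ≫ q = s := by
  have hs : s.left ≫ Q.hom = 𝟙 _ := (Over.w s).trans sp_hom_self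
  have hcl : IsClosed ({s.left (IsLocalRing.closedPoint k)} : Set Q.left) :=
    (pointEquivClosedPoint Q.hom ⟨s.left, hs⟩).2
  have : JacobsonSpace G.left := LocallyOfFiniteType.jacobsonSpace G.hom
  obtain ⟨g, hg, hg'⟩ := nonempty_inter_closedPoints (X := G.left)
    (Z := q.left ⁻¹' {s.left (IsLocalRing.closedPoint k)}) (by
      obtain ⟨g, hg⟩ := q.left.surjective (s.left (IsLocalRing.closedPoint k))
      exact ⟨g, hg⟩) (hcl.preimage q.left.continuous).isLocallyClosed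
  refine ⟨Over.homMk (pointOfClosedPoint G.hom g hg') ?_, ?_⟩
  · exact (pointOfClosedPoint_comp G.hom _ hg').trans sp_hom_self.symm
  ext1
  change pointOfClosedPoint G.hom g hg' ≫ q.left = s.left
  refine ext_of_apply_closedPoint_eq Q.hom ?_ hs ?_
  · rw [Category.assoc, Over.w, pointOfClosedPoint_comp]
  · rw [Scheme.Hom.comp_apply, pointOfClosedPoint_apply]
    exact hg

/-- Points are determined by their restriction to an extension. -/
theorem cst_cancel {X : Over (Spec (CommRingCat.of k))} [LocallyOfFiniteType X.hom] (a b : sp k k ⟶ X)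
    (h : cst k L ≫ a = cst k L ≫ b) : a = b := by
  ext1
  refine ext_of_apply_closedPoint_eq X.hom ((Over.w a).trans sp_hom_self) ((Over.w b).trans sp_hom_self) ?_
  have h1 : (cst k L).left (IsLocalRing.closedPoint L) = IsLocalRing.closedPoint k :=
    Subsingleton.elim (α := PrimeSpectrum k) _ _
  have h2 : (cst k L).left ≫ a.left = (cst k L).left ≫ b.left := congrArg (fun z => z.left) h
  rw [← h1]
  exact congrArg (fun z : (Spec (CommRingCat.of L)) ⟶ X.left => z (IsLocalRing.closedPoint L)) h2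

end pts

section torus

variable {k : Type u} [Field k] [IsAlgClosed k] {L : Type u} [Field L] [Algebra k L]

theorem torus_root (r n : ℕ) (hn : 0 < n) (x : sp k k ⟶ Red.DS (Spec (CommRingCat.of k)) (Fin r → ℤ)) :
    ∃ y : sp k k ⟶ Red.DS (Spec (CommRingCat.of k)) (Fin r → ℤ), y ^ n = x := by
  obtain ⟨w, rfl⟩ := (Sga3B.PtMor.dsPt (L := k) (Fin r → ℤ) k).surjective x
  have hw0 : ∀ m, w m ≠ 0 := fun m h => by
    have h1 : w m * w m⁻¹ = 1 := by rw [← map_mul, mul_inv_cancel, map_one]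
    rw [h, zero_mul] at h1
    exact zero_ne_one h1
  choose c hc using fun i : Fin r => IsAlgClosed.exists_pow_nat_eq (w (Multiplicative.ofAdd (Pi.single i 1))) hn
  have hc0 : ∀ i, c i ≠ 0 := fun i h => by
    have h1 := hc i
    rw [h, zero_pow hn.ne'] at h1
    exact hw0 _ h1.symm
  let v : Multiplicative (Fin r → ℤ) →* k :=
    { toFun := fun m => ∏ i, (c i) ^ (m.toAdd i)
      map_one' := by simp
      map_mul' := fun m m' => by
        rw [← Finset.prod_mul_distrib]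
        refine Finset.prod_congr rfl fun i _ => ?_
        rw [← zpow_add₀ (hc0 i)]
        rfl }
  refine ⟨Sga3B.PtMor.dsPt (L := k) (Fin r → ℤ) k v, ?_⟩
  rw [← map_pow]
  congr 1
  ext m
  change (∏ i, (c i) ^ ((Pi.single m 1 : Fin r → ℤ) i)) ^ n = w (Multiplicative.ofAdd (Pi.single m 1))
  rw [Finset.prod_eq_single m, Pi.single_eq_same, zpow_one, hc]
  · intro j _ hj
    rw [Pi.single_eq_of_ne hj, zpow_zero]
  · intro h
    exact absurd (Finset.mem_univ _) h

theorem torus_const (r : ℕ) [Algebra.EssFiniteType k L] (x : sp k L ⟶ Red.DS (Spec (CommRingCat.of k)) (Fin r → ℤ))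
    (hx : ∀ n : ℕ, 0 < n → ∃ y : sp k L ⟶ Red.DS (Spec (CommRingCat.of k)) (Fin r → ℤ), y ^ n = x) :
    ∃ x₀ : sp k k ⟶ Red.DS (Spec (CommRingCat.of k)) (Fin r → ℤ), cst k L ≫ x₀ = x := by
  obtain ⟨w, rfl⟩ := (Sga3B.PtMor.dsPt (L := k) (Fin r → ℤ) L).surjective x
  have h1 : ∀ m, ∃ a : k, algebraMap k L a = w m := by
    intro m
    refine DivFld.mem_of_divisible (w m) fun n hn => ?_
    obtain ⟨y, hy⟩ := hx n hn
    obtain ⟨v, rfl⟩ := (Sga3B.PtMor.dsPt (L := k) (Fin r → ℤ) L).surjective y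
    rw [← map_pow] at hy
    have h2 := (Sga3B.PtMor.dsPt (L := k) (Fin r → ℤ) L).injective hy
    exact ⟨v m, by rw [← h2]; rfl⟩
  choose w₀ hw₀ using h1
  have hinj : Function.Injective (algebraMap k L) := (algebraMap k L).injective
  let w' : Multiplicative (Fin r → ℤ) →* k :=
    { toFun := w₀
      map_one' := hinj (by rw [hw₀, map_one, map_one])
      map_mul' := fun m m' => hinj (by rw [hw₀, map_mul, map_mul, hw₀, hw₀]) }
  refine ⟨Sga3B.PtMor.dsPt (L := k) (Fin r → ℤ) k w', ?_⟩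
  rw [cst, Sga3B.PtMor.dsPt_nat]
  congr 1
  exact MonoidHom.ext fun m => hw₀ m

end torus

section main

variable {k : Type u} [Field k] [IsAlgClosed k] {L : Type u} [Field L] [Algebra k L]

section Q

variable (Q : Over (Spec (CommRingCat.of k))) [GrpObj Q] [IsProper Q.hom] [GeometricallyIntegral Q.hom]

omit [IsAlgClosed k] [IsProper Q.hom] [GeometricallyIntegral Q.hom] in
theorem pow_left (n : ℕ) {T : Over (Spec (CommRingCat.of k))} (y : T ⟶ Q) :
    (y ^ n).left = y.left ≫ (𝟙 Q ^ n).left := by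
  rw [← Over.comp_left, MonObj.comp_pow, Category.comp_id]

theorem ab_const [Algebra.EssFiniteType k L] (x : sp k L ⟶ Q) (hx : ∀ n : ℕ, 0 < n → ∃ y : sp k L ⟶ Q, y ^ n = x) :
    ∃ x₀ : sp k k ⟶ Q, cst k L ≫ x₀ = x := by
  refine const_of_closed Q x (DivAb.isClosed_of_divisible Q x.left (Over.w x) fun n hn => ?_)
  obtain ⟨y, rfl⟩ := hx n hn
  exact ⟨y.left, (pow_left Q n y).symm⟩

theorem ab_root (n : ℕ) (hn : 0 < n) (x : sp k k ⟶ Q) : ∃ y : sp k k ⟶ Q, y ^ n = x := by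
  have h1 : Surjective (𝟙 Q ^ n).left := Grpsch.MulFin.surjective_pow Q n hn
  obtain ⟨y, hy⟩ := exists_lift_pt (𝟙 Q ^ n) x
  exact ⟨y, by rw [← hy, MonObj.comp_pow, Category.comp_id]⟩

theorem ab_tors (n : ℕ) (hn : 0 < n) (x : sp k L ⟶ Q) (hx : x ^ n = 1) : ∃ x₀ : sp k k ⟶ Q, cst k L ≫ x₀ = x := by
  refine const_of_closed Q x ?_
  by_contra hcl
  have h1 := DivAb.one_le_dim_closure hcl
  have hfin : IsFinite (𝟙 Q ^ n).left := Grpsch.MulFin.isFinite_pow Q n hn
  rw [Pi1C.LefReduce.dim_closure_eq (𝟙 Q ^ n).left] at h1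
  have h2 : x.left ≫ (𝟙 Q ^ n).left = (cst k L ≫ (1 : sp k k ⟶ Q)).left := by
    rw [← pow_left, hx, MonObj.comp_one]
  have h3 : (𝟙 Q ^ n).left (x.left (IsLocalRing.closedPoint L)) =
      (1 : sp k k ⟶ Q).left (IsLocalRing.closedPoint k) := by
    have h4 := congrArg (fun z : (Spec (CommRingCat.of L)) ⟶ Q.left => z (IsLocalRing.closedPoint L)) h2
    refine h4.trans ?_
    have h5 : (cst k L).left (IsLocalRing.closedPoint L) = IsLocalRing.closedPoint k :=
      Subsingleton.elim (α := PrimeSpectrum k) _ _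
    rw [← h5]
    rfl
  rw [h3] at h1
  have hcl : IsClosed ({(1 : sp k k ⟶ Q).left (IsLocalRing.closedPoint k)} : Set Q.left) :=
    (pointEquivClosedPoint Q.hom ⟨(1 : sp k k ⟶ Q).left, (Over.w _).trans sp_hom_self⟩).2
  have h6 := Pi1C.LefReduce.topologicalKrullDim_closure_le _ hcl
  exact absurd (h1.trans h6) (by norm_num)

end Q

/-- post-composition on points -/
noncomputable def post {T G H : Over (Spec (CommRingCat.of k))} [GrpObj G] [GrpObj H] (f : G ⟶ H) [IsMonHom f] :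
    (T ⟶ G) →* (T ⟶ H) where
  toFun x := x ≫ f
  map_one' := MonObj.one_comp f
  map_mul' x y := MonObj.mul_comp x y f

/-- pre-composition on points -/
noncomputable def pre {T T' : Over (Spec (CommRingCat.of k))} (G : Over (Spec (CommRingCat.of k))) [GrpObj G] (f : T' ⟶ T) :
    (T ⟶ G) →* (T' ⟶ G) where
  toFun x := f ≫ x
  map_one' := MonObj.comp_one f
  map_mul' x y := MonObj.comp_mul f x y

theorem const_of_divisible [Algebra.EssFiniteType k L] (G : Over (Spec (CommRingCat.of k))) [GrpObj G]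
    [IsCommMonObj G] [Smooth G.hom] [QuasiCompact G.hom] [ConnectedSpace G.left] (h : Sga7.H109.Basic.NoGa G)
    (x : sp k L ⟶ G) (hx : ∀ n : ℕ, 0 < n → ∃ y : sp k L ⟶ G, y ^ n = x) : ∃ x₀ : sp k k ⟶ G, cst k L ≫ x₀ = x := by
  obtain ⟨r, i, Q, _, q, h1, h2, h3, h4, h5, h6, h7, h8, h9⟩ := Sga7.H109.Struct.exists_semiabelian G h
  have hQ : IsIntegral Q.left := Sga3.H780.Pointed.isIntegral Q
  have hQ' : GeometricallyIntegral Q.hom := Sga3.H780.PointedProd.geometricallyIntegral Q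
  have hQc : IsCommMonObj Q := isCommMonObj_of_isProper_of_geometricallyIntegral Q
  have hmono : Mono i := by
    have : Mono i.left := inferInstance
    exact (Over.forget _).mono_of_mono_map this
  have hT : IsCommMonObj (Red.DS (Spec (CommRingCat.of k)) (Fin r → ℤ)) := Sga7.H109.Struct.isCommMonObj_of_mono i
  have hiq : i ≫ q = 1 := by
    have h10 : i ≫ q = toUnit _ ≫ η[Q] := h6.w
    rw [h10]; rfl
  have hker : ∀ {T : Over (Spec (CommRingCat.of k))} (x : T ⟶ G), x ≫ q = 1 → ∃ y : T ⟶ _, y ≫ i = x := by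
    intro T x hx
    have h10 : IsPullback i (toUnit _) q η[Q] := h6
    exact ⟨h10.lift x (toUnit _) (by rw [hx]; rfl), h10.lift_fst _ _ _⟩
  let q₁ : (sp k L ⟶ G) →* (sp k L ⟶ Q) := post q
  let i₁ : (sp k L ⟶ Red.DS (Spec (CommRingCat.of k)) (Fin r → ℤ)) →* (sp k L ⟶ G) := post i
  let q₀ : (sp k k ⟶ G) →* (sp k k ⟶ Q) := post q
  let i₀ : (sp k k ⟶ Red.DS (Spec (CommRingCat.of k)) (Fin r → ℤ)) →* (sp k k ⟶ G) := post i
  let a : (sp k k ⟶ G) →* (sp k L ⟶ G) := pre G (cst k L)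
  let b : (sp k k ⟶ Q) →* (sp k L ⟶ Q) := pre Q (cst k L)
  let c : (sp k k ⟶ Red.DS (Spec (CommRingCat.of k)) (Fin r → ℤ)) →*
    (sp k L ⟶ Red.DS (Spec (CommRingCat.of k)) (Fin r → ℤ)) := pre _ (cst k L)
  refine grp (A := (sp k L ⟶ G)) (B := (sp k L ⟶ Q)) (A₀ := (sp k k ⟶ G)) (B₀ := (sp k k ⟶ Q))
    (C := (sp k L ⟶ Red.DS (Spec (CommRingCat.of k)) (Fin r → ℤ)))
    (C₀ := (sp k k ⟶ Red.DS (Spec (CommRingCat.of k)) (Fin r → ℤ))) q₁ i₁ q₀ i₀ a b c
    (fun x => Category.assoc (cst k L) x q) (fun x => Category.assoc (cst k L) x i) (fun a b hab => (cancel_mono i).mp hab) ?_ ?_ ?_ ?_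
    (exists_lift_pt q) (ab_const Q) (fun x n hn => ab_tors Q n hn x) (fun n hn => ab_root Q n hn)
    (fun n hn x => torus_root r n hn x) (fun x hx => torus_const r x hx) x hx
  · intro x
    change (x ≫ i) ≫ q = 1
    rw [Category.assoc, hiq, MonObj.comp_one]
  · exact fun x hx => hker x hx
  · exact fun x hx => hker x hx
  · exact fun a b hab => cst_cancel a b hab

end main

theorem constProp : DivExt.ConstProp.{u} := by
  intro k _ _ _ G _ _ _ _ _ _ h L _ _ _ x hx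
  have hG : Sga7.H109.Basic.NoGa G :=
    Sga7.H301.PGrp.NoGa.of_bc (Red.geomPt (S := Spec (CommRingCat.of k)) (IsLocalRing.closedPoint k)) (h _)
  obtain ⟨x₀, hx₀⟩ := const_of_divisible (k := k) (L := L) G hG x hx
  let e : 𝟙_ (Over (Spec (CommRingCat.of k))) ⟶ sp k k :=
    Over.homMk (𝟙 (Spec (CommRingCat.of k))) ((Category.id_comp _).trans sp_hom_self)
  refine ⟨e ≫ x₀, ?_⟩
  rw [← hx₀]
  ext1
  change Spec.map (CommRingCat.ofHom (algebraMap k L)) ≫ 𝟙 _ ≫ x₀.left =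
    Spec.map (CommRingCat.ofHom (algebraMap k L)) ≫ x₀.left
  rw [Category.id_comp]

end K485.DivConst
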