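import Groth.Agent.Ega2.DVRDominate
import Mathlib.RingTheory.Polynomial.GaussLemma
import Mathlib.RingTheory.UniqueFactorizationDomain.GCDMonoid

/-!
# A discrete valuation ring dominating a Noetherian local factorial domain in which two coprime non-units become
equal up to a one-unit
-/

set_option autoImplicit false
universe u
open IsLocalRing Polynomial

namespace K485.DvrCoprime

theorem exists_dvr (R : Type u) [CommRing R] [IsDomain R] [IsNoetherianRing R] [UniqueFactorizationMonoid R]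
    [IsLocalRing R] (Δ₁ Δ₂ : R) (h₁ : ¬ IsUnit Δ₁) (h₂ : ¬ IsUnit Δ₂) (hcop : IsRelPrime Δ₁ Δ₂) :
    ∃ (A : Type u) (_ : CommRing A) (_ : IsDomain A) (_ : IsDiscreteValuationRing A) (f : R →+* A),
      IsLocalHom f ∧ Function.Injective f ∧ ¬ IsUnit (f Δ₁) ∧
        ∃ u : Aˣ, (u : A) - 1 ∈ IsLocalRing.maximalIdeal A ∧ f Δ₁ = (u : A) * f Δ₂ := by
  classical
  have m₁ : Δ₁ ∈ maximalIdeal R := h₁
  have m₂ : Δ₂ ∈ maximalIdeal R := h₂
  have z₁ : Δ₁ ≠ 0 := by
    rintro rfl
    exact h₂ (hcop (dvd_zero Δ₂) dvd_rfl)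
  have z₂ : Δ₂ ≠ 0 := by
    rintro rfl
    exact h₁ (hcop dvd_rfl (dvd_zero Δ₁))
  let K := FractionRing R
  have hinj : Function.Injective (algebraMap R K) := IsFractionRing.injective R K
  let d₁ : K := algebraMap R K Δ₁
  let d₂ : K := algebraMap R K Δ₂
  have hd₁ : d₁ ≠ 0 := fun h => z₁ (hinj (by rw [map_zero]; exact h))
  have hd₂ : d₂ ≠ 0 := fun h => z₂ (hinj (by rw [map_zero]; exact h))
  let t : K := d₁ / d₂
  let ev : R[X] →+* K := eval₂RingHom (algebraMap R K) t
  let C' : Subring K := ev.range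
  let ψ : R[X] →+* ResidueField R := eval₂RingHom (residue R) 1
  -- the kernel of `ev` is contained in the kernel of `ψ`
  let L : R[X] := C Δ₂ * X - C Δ₁
  have hL : L.IsPrimitive := by
    intro r hr
    rw [C_dvd_iff_dvd_coeff] at hr
    have e0 : L.coeff 0 = - Δ₁ := by simp [L]
    have e1 : L.coeff 1 = Δ₂ := by simp [L]
    have k0 := hr 0
    have k1 := hr 1
    rw [e0, dvd_neg] at k0
    rw [e1] at k1
    exact hcop k0 k1
  have hψL : ψ L = 0 := by
    have e1 : residue R Δ₁ = 0 := (residue_eq_zero_iff _).2 m₁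
    have e2 : residue R Δ₂ = 0 := (residue_eq_zero_iff _).2 m₂
    simp [ψ, L, e1, e2]
  have hker : RingHom.ker ev ≤ RingHom.ker ψ := by
    intro p hp
    rw [RingHom.mem_ker] at hp ⊢
    obtain ⟨inst⟩ : Nonempty (NormalizedGCDMonoid R) := inferInstance
    have h3 : L ∣ p := by
      apply hL.dvd_of_fraction_map_dvd_fraction_map (K := K)
      have h4 : (X - C t) ∣ p.map (algebraMap R K) := by
        rw [dvd_iff_isRoot, IsRoot, eval_map]
        exact hp
      have h5 : L.map (algebraMap R K) = C d₂ * (X - C t) := by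
        have : d₂ * t = d₁ := mul_div_cancel₀ _ hd₂
        simp only [L, Polynomial.map_sub, Polynomial.map_mul, map_C, map_X]
        rw [mul_sub, ← C_mul, this]
      rw [h5]
      have hu : IsUnit (C d₂ : K[X]) := (isUnit_iff_ne_zero.2 hd₂).map C
      exact (hu.mul_left_dvd).2 h4
    obtain ⟨q, rfl⟩ := h3
    rw [map_mul, hψL, zero_mul]
  -- the point
  let φ : C' →+* ResidueField R := RingHom.liftOfSurjective ev.rangeRestrict ev.rangeRestrict_surjective
    ⟨ψ, by rw [RingHom.ker_rangeRestrict]; exact hker⟩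
  have hφ : ∀ p : R[X], φ (ev.rangeRestrict p) = ψ p := fun p =>
    RingHom.liftOfRightInverse_comp_apply _ _ _ _ _
  let P : Ideal C' := RingHom.ker φ
  have hP : P.IsPrime := RingHom.ker_isPrime φ
  have hPmem : ∀ p : R[X], ev.rangeRestrict p ∈ P ↔ ψ p = 0 := fun p => by
    rw [RingHom.mem_ker, hφ]
  have hPbot : P ≠ ⊥ := by
    intro h
    have h3 : ev.rangeRestrict (C Δ₁) ∈ P := by
      rw [hPmem]
      simp [ψ, (residue_eq_zero_iff _).2 m₁]
    rw [h, Ideal.mem_bot] at h3
    have h4 := congrArg Subtype.val h3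
    have h5 : ev (C Δ₁) = 0 := h4
    simp only [ev, coe_eval₂RingHom, eval₂_C] at h5
    exact hd₁ h5
  have hnoeth : IsNoetherianRing C' := isNoetherianRing_of_surjective _ _ ev.rangeRestrict
    ev.rangeRestrict_surjective
  have hfrac : IsFractionRing C' K := by
    refine IsFractionRing.of_field C' K ?_
    intro z
    obtain ⟨a, b, hb, rfl⟩ := IsFractionRing.div_surjective (A := R) z
    refine ⟨ev.rangeRestrict (C a), ev.rangeRestrict (C b), ?_⟩
    change _ = ev (C a) / ev (C b)
    simp [ev]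
  obtain ⟨V, hV, hCV, hVP⟩ := Groth.Agent.Ega2.DVRDominate.exists_dvr C' P hPbot
  have hRC : ∀ r : R, algebraMap R K r ∈ V.toSubring := fun r => hCV ⟨C r, by simp [ev]⟩
  let f : R →+* V := (algebraMap R K).codRestrict V.toSubring hRC
  have hf : ∀ r, ((f r : V) : K) = algebraMap R K r := fun r => rfl
  have hnon : ∀ r, (algebraMap R K r ∈ V.nonunits) ↔ r ∈ maximalIdeal R := by
    intro r
    have h3 := hVP (ev.rangeRestrict (C r))
    have h4 : ((ev.rangeRestrict (C r) : C') : K) = algebraMap R K r := by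
      change ev (C r) = _
      simp [ev]
    rw [h4] at h3
    rw [← h3, hPmem]
    simp [ψ, residue_eq_zero_iff]
  have hunit : ∀ r, IsUnit (f r) ↔ IsUnit r := by
    intro r
    have h3 := hnon r
    rw [ValuationSubring.mem_nonunits_iff_exists_mem_maximalIdeal] at h3
    constructor
    · intro h
      by_contra hr
      obtain ⟨ha, hb⟩ := h3.2 hr
      exact hb h
    · intro h
      exact h.map f
  have htV : t ∈ V := hCV ⟨X, by simp [ev]⟩
  have ht1 : t - 1 ∈ V.nonunits := by
    have h3 := hVP (ev.rangeRestrict (X - 1))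
    have h4 : ((ev.rangeRestrict (X - 1) : C') : K) = t - 1 := by
      change ev (X - 1) = _
      simp [ev]
    rw [h4] at h3
    rw [← h3, hPmem]
    simp [ψ]
  rw [ValuationSubring.mem_nonunits_iff_exists_mem_maximalIdeal] at ht1
  obtain ⟨hw, hw'⟩ := ht1
  let τ : V := ⟨t, htV⟩
  have hτ1 : τ - 1 ∈ maximalIdeal V := by
    have : τ - 1 = ⟨t - 1, hw⟩ := rfl
    rw [this]
    exact hw'
  have hτu : IsUnit τ := by
    by_contra hτ
    have h3 : τ ∈ maximalIdeal V := hτ
    have h4 := sub_mem h3 hτ1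
    rw [sub_sub_cancel] at h4
    exact (maximalIdeal.isMaximal V).ne_top ((Ideal.eq_top_iff_one _).2 h4)
  obtain ⟨v, hv⟩ := hτu
  refine ⟨V, inferInstance, inferInstance, hV, f, ⟨fun a ha => (hunit a).1 ha⟩, ?_, ?_, v, ?_, ?_⟩
  · intro a b hab
    exact hinj (by rw [← hf, ← hf, hab])
  · rw [hunit]
    exact h₁
  · rw [hv]
    exact hτ1
  · rw [hv]
    apply Subtype.ext
    change d₁ = t * d₂
    exact (div_mul_cancel₀ _ hd₂).symm

end K485.DvrCoprime
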