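import Groth.Agent.Neron.K485.PowExt
import Groth.Agent.Sga3B.BcPts
import Groth.Agent.Sga4h.ChartDVR
import Groth.Agent.Hensel.Exist
import Groth.Agent.Sga7.H738.RankZeroBc
import Groth.Agent.Sga7.H760.L2

/-!
# Divisible points of semi-abelian schemes extend over discrete valuation rings

`exists_root`: `𝒜` a semi-abelian scheme over `R`, `R → V` a discrete valuation ring with fraction field `K` such that
`𝒜_K` is proper; a point `c` of `𝒜` over `K` which is an `n`-th power for all `n > 0`: for all `n > 0`, `c` is the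
`n`-th power of (the restriction of) a point over `V`.
-/

set_option autoImplicit false
universe u

open CategoryTheory Limits AlgebraicGeometry MonoidalCategory CartesianMonoidalCategory
open scoped MonObj

namespace K485.DvrPow

/-- the `R`-scheme `Spec B` -/
noncomputable abbrev pt {R B : Type u} [CommRing R] [CommRing B] (φ : R →+* B) :
    Over (Spec (CommRingCat.of R)) :=
  Over.mk (Spec.map (CommRingCat.ofHom φ))

/-- maps between points -/
noncomputable def ptMap {R B C : Type u} [CommRing R] [CommRing B] [CommRing C] (φ : R →+* B) (χ : R →+* C)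
    (g : B →+* C) (h : g.comp φ = χ) : pt χ ⟶ pt φ :=
  Over.homMk (Spec.map (CommRingCat.ofHom g)) (by
    change Spec.map _ ≫ Spec.map _ = Spec.map _
    rw [← Spec.map_comp, ← CommRingCat.ofHom_comp, h])

section desc

variable {V K V' K' : Type u} [CommRing V] [IsDomain V] [ValuationRing V] [Field K] [Algebra V K] [IsFractionRing V K]
  [CommRing V'] [IsLocalRing V'] [Field K'] [Algebra V' K']

omit [IsLocalRing V'] in
theorem mem_range (ψ : V →+* V') [IsLocalHom ψ] (τ : K →+* K')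
    (h : τ.comp (algebraMap V K) = (algebraMap V' K').comp ψ) (hV' : Function.Injective (algebraMap V' K'))
    (z : K) (s : V') (hz : τ z = algebraMap V' K' s) : z ∈ (algebraMap V K).range := by
  rcases ValuationRing.isInteger_or_isInteger V z with ⟨y, hy⟩ | ⟨y, hy⟩
  · exact ⟨y, hy⟩
  · by_cases hz0 : z = 0
    · exact ⟨0, by rw [map_zero, hz0]⟩
    have h1 : algebraMap V' K' (ψ y * s) = algebraMap V' K' 1 := by
      have h2 : algebraMap V' K' (ψ y) = τ (algebraMap V K y) := (RingHom.congr_fun h y).symm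
      rw [map_mul, ← hz, h2, hy, map_inv₀, inv_mul_cancel₀, map_one]
      rwa [Ne, map_eq_zero]
    have h2 : IsUnit (ψ y) := IsUnit.of_mul_eq_one _ (hV' h1)
    have h3 : IsUnit y := isUnit_of_map_unit ψ y h2
    obtain ⟨w, hw⟩ := isUnit_iff_exists_inv.mp h3
    refine ⟨w, ?_⟩
    have h4 : algebraMap V K y * algebraMap V K w = 1 := by rw [← map_mul, hw, map_one]
    rw [hy] at h4
    exact ((inv_mul_eq_one₀ hz0).mp h4).symm

/-- Descent of the extension of a point over a valuation ring from a local extension. -/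
theorem exists_desc {X : Scheme.{u}} (ψ : V →+* V') [IsLocalHom ψ] (τ : K →+* K')
    (h : τ.comp (algebraMap V K) = (algebraMap V' K').comp ψ) (hV' : Function.Injective (algebraMap V' K'))
    (z : Spec (CommRingCat.of K) ⟶ X) (s : Spec (CommRingCat.of V') ⟶ X)
    (hz : Spec.map (CommRingCat.ofHom τ) ≫ z = Spec.map (CommRingCat.ofHom (algebraMap V' K')) ≫ s) :
    ∃ t : Spec (CommRingCat.of V) ⟶ X, Spec.map (CommRingCat.ofHom (algebraMap V K)) ≫ t = z := by
  set x := s (IsLocalRing.closedPoint V') with hx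
  let i := X.affineCover.idx x
  let j := X.affineCover.f i
  have hj : x ∈ Set.range j := X.affineCover.covers x
  have hs : Set.range s ⊆ Set.range j := by
    rintro _ ⟨y, rfl⟩
    have h4 : y ⤳ IsLocalRing.closedPoint V' := IsLocalRing.specializes_closedPoint y
    exact (h4.map s.continuous).mem_open j.isOpenEmbedding.isOpen_range hj
  have hzr : Set.range z ⊆ Set.range j := by
    rintro _ ⟨y, rfl⟩
    have h1 : y = Spec.map (CommRingCat.ofHom τ) (IsLocalRing.closedPoint K') :=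
      Subsingleton.elim (α := PrimeSpectrum K) _ _
    rw [h1, ← Scheme.Hom.comp_apply, hz, Scheme.Hom.comp_apply]
    exact hs ⟨_, rfl⟩
  let U := X.affineCover.X i
  let s' : Spec (CommRingCat.of V') ⟶ U := IsOpenImmersion.lift j s hs
  let z' : Spec (CommRingCat.of K) ⟶ U := IsOpenImmersion.lift j z hzr
  have hs' : s' ≫ j = s := IsOpenImmersion.lift_fac _ _ _
  have hz' : z' ≫ j = z := IsOpenImmersion.lift_fac _ _ _
  have hU : IsAffine U := inferInstance
  let a : Γ(U, ⊤) ⟶ CommRingCat.of V' := Spec.preimage (s' ≫ U.isoSpec.hom)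
  let b : Γ(U, ⊤) ⟶ CommRingCat.of K := Spec.preimage (z' ≫ U.isoSpec.hom)
  have ha : Spec.map a = s' ≫ U.isoSpec.hom := Spec.map_preimage _
  have hb : Spec.map b = z' ≫ U.isoSpec.hom := Spec.map_preimage _
  have hab : b ≫ CommRingCat.ofHom τ = a ≫ CommRingCat.ofHom (algebraMap V' K') := by
    apply Spec.map_injective
    rw [Spec.map_comp, Spec.map_comp, ha, hb, ← Category.assoc, ← Category.assoc]
    congr 1
    rw [← cancel_mono j, Category.assoc, Category.assoc, hs', hz', hz]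
  have hmem : ∀ o, b.hom o ∈ (algebraMap V K).range := fun o =>
    mem_range ψ τ h hV' (b.hom o) (a.hom o) (RingHom.congr_fun (congrArg CommRingCat.Hom.hom hab) o)
  let e : V ≃+* (algebraMap V K).range := RingEquiv.ofBijective (algebraMap V K).rangeRestrict
    ⟨fun x y hxy => IsFractionRing.injective V K (congrArg Subtype.val hxy), (algebraMap V K).rangeRestrict_surjective⟩
  let b' : Γ(U, ⊤) →+* V := e.symm.toRingHom.comp (b.hom.codRestrict (algebraMap V K).range hmem)
  have hb' : (algebraMap V K).comp b' = b.hom := by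
    ext o
    exact congrArg Subtype.val (e.apply_symm_apply (b.hom.codRestrict (algebraMap V K).range hmem o))
  refine ⟨Spec.map (CommRingCat.ofHom b') ≫ U.isoSpec.inv ≫ j, ?_⟩
  have h5 : Spec.map (CommRingCat.ofHom (algebraMap V K)) ≫ Spec.map (CommRingCat.ofHom b') = Spec.map b := by
    rw [← Spec.map_comp, ← CommRingCat.ofHom_comp, hb', CommRingCat.ofHom_hom]
  rw [← Category.assoc, h5, hb, Category.assoc, Iso.hom_inv_id_assoc, hz']

end desc

theorem conn_bc {S S' : Scheme.{u}} (p : S' ⟶ S) (𝒜 : Over S)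
    (hconn : ∀ (L : Type u) [Field L] (t : Spec (CommRingCat.of L) ⟶ S), ConnectedSpace ↑(pullback 𝒜.hom t))
    (L : Type u) [Field L] (t : Spec (CommRingCat.of L) ⟶ S') :
    ConnectedSpace ↑(pullback (Red.bc p 𝒜).hom t) := by
  have h1 := hconn L (t ≫ p)
  let e : pullback (pullback.snd 𝒜.hom p) t ≅ pullback 𝒜.hom (t ≫ p) := pullbackLeftPullbackSndIso 𝒜.hom p t
  exact (e.inv.homeomorph.surjective).connectedSpace e.inv.homeomorph.continuous

theorem proper_bc {S S' T T' : Scheme.{u}} (p : S' ⟶ S) (𝒜 : Over S) (q : T' ⟶ S') (g : T ⟶ S) (r : T' ⟶ T)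
    (h : q ≫ p = r ≫ g) (hprop : IsProper (pullback.snd 𝒜.hom g)) :
    IsProper (pullback.snd (Red.bc p 𝒜).hom q) := by
  have h0 : IsPullback (pullback.fst 𝒜.hom p) (Red.bc p 𝒜).hom 𝒜.hom p := IsPullback.of_hasPullback 𝒜.hom p
  have h1 : IsPullback (pullback.fst (Red.bc p 𝒜).hom q ≫ pullback.fst 𝒜.hom p) (pullback.snd (Red.bc p 𝒜).hom q)
      𝒜.hom (q ≫ p) := (IsPullback.of_hasPullback (Red.bc p 𝒜).hom q).paste_horiz h0
  rw [h] at h1
  have h2 : IsPullback (pullback.lift (pullback.fst (Red.bc p 𝒜).hom q ≫ pullback.fst 𝒜.hom p)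
      (pullback.snd (Red.bc p 𝒜).hom q ≫ r) (by rw [h1.w, Category.assoc]))
      (pullback.snd (Red.bc p 𝒜).hom q) (pullback.snd 𝒜.hom g) r := by
    refine IsPullback.of_right (h₁₂ := pullback.fst 𝒜.hom g) (v₁₃ := 𝒜.hom) (h₂₂ := g) ?_ ?_
      (IsPullback.of_hasPullback 𝒜.hom g)
    · rw [pullback.lift_fst]
      exact h1
    · exact pullback.lift_snd _ _ _
  exact MorphismProperty.of_isPullback h2 hprop

theorem ursz_bc {S S' : Scheme.{u}} (p : S' ⟶ S) (𝒜 : Over S) [GrpObj 𝒜] [LocallyOfFiniteType 𝒜.hom]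
    (hsab : SGA7.FibresUnipotentRankZero 𝒜) : SGA7.FibresUnipotentRankZero (Red.bc p 𝒜) :=
  Groth.Agent.Sga7.H738.RankZeroBc.fibresUnipotentRankZero_bc
    (fun k _ _ G _ _ j _ hj => Groth.Agent.Sga7.H760.L2 k G j hj) p 𝒜 hsab

/-- A power of a point extends over an extension of discrete valuation rings. -/
theorem exists_pow_ext {R : Type u} [CommRing R] (𝒜 : Over (Spec (CommRingCat.of R))) [GrpObj 𝒜] [Smooth 𝒜.hom]
    [IsSeparated 𝒜.hom] [QuasiCompact 𝒜.hom] (hsab : SGA7.FibresUnipotentRankZero 𝒜)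
    (hconn : ∀ (L : Type u) [Field L] (t : Spec (CommRingCat.of L) ⟶ Spec (CommRingCat.of R)),
      ConnectedSpace ↑(pullback 𝒜.hom t))
    {V' K' : Type u} [CommRing V'] [IsDomain V'] [IsDiscreteValuationRing V'] [HenselianLocalRing V']
    [IsSepClosed (IsLocalRing.ResidueField V')] [Field K'] [Algebra V' K'] [IsFractionRing V' K']
    (p : Spec (CommRingCat.of V') ⟶ Spec (CommRingCat.of R)) {T : Scheme.{u}} (g : T ⟶ Spec (CommRingCat.of R))
    (r : Spec (CommRingCat.of K') ⟶ T)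
    (h : Spec.map (CommRingCat.ofHom (algebraMap V' K')) ≫ p = r ≫ g) (hprop : IsProper (pullback.snd 𝒜.hom g)) :
    ∃ m : ℕ, 0 < m ∧ ∀ y : Over.mk g ⟶ 𝒜, ∃ c₀ : Spec (CommRingCat.of V') ⟶ 𝒜.left,
      Spec.map (CommRingCat.ofHom (algebraMap V' K')) ≫ c₀ = r ≫ (y ^ m).left := by
  let q : Spec (CommRingCat.of K') ⟶ Spec (CommRingCat.of V') := Spec.map (CommRingCat.ofHom (algebraMap V' K'))
  let 𝒜' := Red.bc p 𝒜
  have i1 : Smooth 𝒜'.hom := by change Smooth (pullback.snd 𝒜.hom p); infer_instance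
  have i2 : IsSeparated 𝒜'.hom := by change IsSeparated (pullback.snd 𝒜.hom p); infer_instance
  have i3 : QuasiCompact 𝒜'.hom := by change QuasiCompact (pullback.snd 𝒜.hom p); infer_instance
  obtain ⟨m, hm, H⟩ := PowExt.exists_pow_extend (V := V') (K := K') 𝒜' (ursz_bc p 𝒜 hsab)
    (fun L _ t => conn_bc p 𝒜 hconn L t) (proper_bc p 𝒜 q g r h hprop)
  refine ⟨m, hm, fun y => ?_⟩
  let w₀ : (Over.map p).obj (Over.mk q) ⟶ Over.mk g := Over.homMk r h.symm
  obtain ⟨c', hc'⟩ := H (Groth.Agent.Sga3B.BcPts.bcMulEquiv p _ 𝒜 (w₀ ≫ y))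
  let c₀ : (Over.map p).obj (Over.mk (𝟙 _)) ⟶ 𝒜 := (Groth.Agent.Sga3B.BcPts.bcEquiv p _ 𝒜).symm c'
  refine ⟨c₀.left, ?_⟩
  have h7 := Groth.Agent.Sga3B.BcPts.comp_bcEquiv_symm p
    (Over.homMk q : Over.mk q ⟶ Over.mk (𝟙 (Spec (CommRingCat.of V')))) c'
  rw [hc', ← map_pow] at h7
  have h8 : (Groth.Agent.Sga3B.BcPts.bcEquiv p _ 𝒜).symm
      ((Groth.Agent.Sga3B.BcPts.bcMulEquiv p _ 𝒜) ((w₀ ≫ y) ^ m)) = (w₀ ≫ y) ^ m :=
    (Groth.Agent.Sga3B.BcPts.bcEquiv p _ 𝒜).symm_apply_apply _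
  rw [h8, ← MonObj.comp_pow] at h7
  exact (congrArg (fun z => z.left) h7).symm

theorem spec_comp {R B C : Type u} [CommRing R] [CommRing B] [CommRing C] (φ : R →+* B) (g : B →+* C) :
    Spec.map (CommRingCat.ofHom g) ≫ Spec.map (CommRingCat.ofHom φ) = Spec.map (CommRingCat.ofHom (g.comp φ)) := by
  rw [CommRingCat.ofHom_comp, Spec.map_comp]

theorem spec_eq_of_dom {R V K : Type u} [CommRing R] [CommRing V] [CommRing K] (j : V →+* K)
    (hj : Function.Injective j) (a b : Spec (CommRingCat.of V) ⟶ Spec (CommRingCat.of R))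
    (h : Spec.map (CommRingCat.ofHom j) ≫ a = Spec.map (CommRingCat.ofHom j) ≫ b) : a = b := by
  obtain ⟨a, rfl⟩ := Spec.map_surjective a
  obtain ⟨b, rfl⟩ := Spec.map_surjective b
  rw [← Spec.map_comp, ← Spec.map_comp] at h
  have h9 := Spec.map_injective h
  congr 1
  ext x
  apply hj
  exact RingHom.congr_fun (congrArg CommRingCat.Hom.hom h9) x

/-- **Divisible points extend with their roots.** -/
theorem exists_root {R : Type u} [CommRing R] (𝒜 : Over (Spec (CommRingCat.of R))) [GrpObj 𝒜] [Smooth 𝒜.hom]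
    [IsSeparated 𝒜.hom] [QuasiCompact 𝒜.hom] (hsab : SGA7.FibresUnipotentRankZero 𝒜)
    (hconn : ∀ (L : Type u) [Field L] (t : Spec (CommRingCat.of L) ⟶ Spec (CommRingCat.of R)),
      ConnectedSpace ↑(pullback 𝒜.hom t))
    {V K : Type u} [CommRing V] [IsDomain V] [IsDiscreteValuationRing V] [Field K] [Algebra V K] [IsFractionRing V K]
    (φ : R →+* V)
    (hprop : IsProper (pullback.snd 𝒜.hom (Spec.map (CommRingCat.ofHom ((algebraMap V K).comp φ)))))
    (c : pt ((algebraMap V K).comp φ) ⟶ 𝒜)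
    (hc : ∀ n : ℕ, 0 < n → ∃ y : pt ((algebraMap V K).comp φ) ⟶ 𝒜, y ^ n = c) (n : ℕ) (hn : 0 < n) :
    ∃ z : pt φ ⟶ 𝒜, (ptMap φ _ (algebraMap V K) rfl ≫ z) ^ n = c := by
  obtain ⟨V', _, _, _, _, hV', -⟩ := Groth.Agent.Hensel.Exist.exists_isStrictHenselization V
  have h1 : IsDomain V' := Groth.Agent.Sga4h.ChartDVR.isDomain_of_isStrictHenselization V V'
  have h2 : IsDiscreteValuationRing V' :=
    Groth.Agent.Sga4h.ChartDVR.isDiscreteValuationRing_of_isStrictHenselization V V'
  have h3 : EtCoh.IsStrictlyHenselianLocalRing V' :=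
    Groth.Agent.Sga4h.ChartDVR.isStrictlyHenselianLocalRing_of_isStrictHenselization V V'
  have h4 : HenselianLocalRing V' := Hensel.IsStrictHenselization.henselian V
  have h5 : IsSepClosed (IsLocalRing.ResidueField V') := by
    have h6 : IsSepClosure (IsLocalRing.ResidueField V) (IsLocalRing.ResidueField V') :=
      Hensel.IsStrictHenselization.isSepClosure
    exact h6.sep_closed
  have hinj : Function.Injective (algebraMap V V') :=
    Groth.Agent.Sga4h.ChartDVR.injective_algebraMap V V'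
  obtain ⟨K', _, _, _⟩ : ∃ (K' : Type u) (_ : Field K') (_ : Algebra V' K'), IsFractionRing V' K' :=
    ⟨FractionRing V', inferInstance, inferInstance, inferInstance⟩
  have hinj' : Function.Injective ((algebraMap V' K').comp (algebraMap V V')) :=
    (IsFractionRing.injective V' K').comp hinj
  obtain ⟨τ, hτ⟩ : ∃ τ : K →+* K',
      τ.comp (algebraMap V K) = (algebraMap V' K').comp (algebraMap V V') :=
    ⟨IsFractionRing.lift hinj', RingHom.ext fun v => IsFractionRing.lift_algebraMap hinj' v⟩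
  have hqp : Spec.map (CommRingCat.ofHom (algebraMap V' K')) ≫
      Spec.map (CommRingCat.ofHom ((algebraMap V V').comp φ)) = Spec.map (CommRingCat.ofHom τ) ≫
      Spec.map (CommRingCat.ofHom ((algebraMap V K).comp φ)) := by
    rw [spec_comp, spec_comp, ← RingHom.comp_assoc, ← RingHom.comp_assoc, hτ]
  obtain ⟨m, hm, H⟩ := exists_pow_ext 𝒜 hsab hconn (V' := V') (K' := K') _ _ _ hqp hprop
  obtain ⟨y, hy⟩ := hc (m * n) (Nat.mul_pos hm hn)
  obtain ⟨c₀, h6⟩ := H y
  obtain ⟨t, ht⟩ := exists_desc (algebraMap V V') τ hτ (IsFractionRing.injective V' K') (y ^ m).left c₀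
    h6.symm
  have h7 : t ≫ 𝒜.hom = Spec.map (CommRingCat.ofHom φ) := by
    apply spec_eq_of_dom (algebraMap V K) (IsFractionRing.injective V K)
    rw [← Category.assoc, ht, spec_comp]
    exact Over.w (y ^ m)
  refine ⟨Over.homMk t h7, ?_⟩
  have h8 : ptMap φ _ (algebraMap V K) rfl ≫ (Over.homMk t h7 : pt φ ⟶ 𝒜) = y ^ m := by
    ext1
    exact ht
  rw [h8, ← pow_mul, hy]

end K485.DvrPow
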