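import Groth.Agent.Dix.NeronEllAut
import Groth.Agent.S0603
import Groth.Agent.S2653

/-!
# Automorphisms of the generic fibre of a minimal regular model, without excellence

Let `R` be a Dedekind domain and `X` a relatively minimal regular model over `R`, an arithmetic surface, with smooth
geometrically irreducible generic fibre of genus one.  Then the automorphisms of the generic fibre extend to `X` and
to its smooth part.
-/

set_option autoImplicit false

universe u

open CategoryTheory CategoryTheory.Limits AlgebraicGeometry IsLocalRing

namespace K485.EllGen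

open Groth.Agent.Dix.NeronEllA Groth.Agent.Dix.NeronEllB Groth.Agent.Dix.GenFibre Groth.Agent.Dix.NeronEllAut

/-- Isomorphisms between the generic fibres of relatively minimal arithmetic surfaces extend. -/
theorem existsUnique_extend {R : Type u} [CommRing R] [IsDedekindDomain R]
    (X₁ X₂ : Over (Spec (CommRingCat.of R))) (h₁ : ArSurf.IsArithSurface R X₁) (h₂ : ArSurf.IsArithSurface R X₂)
    (m₁ : Neron.IsRelMinimalRegularModel R X₁) (m₂ : Neron.IsRelMinimalRegularModel R X₂)
    [GeometricallyIrreducible ((Neron.genericFibre R).obj X₁).hom]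
    [GeometricallyReduced ((Neron.genericFibre R).obj X₁).hom]
    (hg : Nontrivial (Coh.HH ((Neron.genericFibre R).obj X₁).left (Coh.structureModule _) 1))
    (φ : (Neron.genericFibre R).obj X₁ ≅ (Neron.genericFibre R).obj X₂) :
    ∃! f : X₁ ⟶ X₂, IsIso f ∧ (Neron.genericFibre R).map f = φ.hom := by
  refine Groth.Agent.Dix.MinimalUnique.existsUnique X₁ X₂ h₁ h₂ m₁ (fun hF => ?_) hg φ
  refine Groth.Agent.Dix.MinimalUnique.isEmpty_minusCurve hF m₂ ?_
  intro k _ ι _ heff hdeg
  obtain ⟨Y, f, y, hy, h1, h2, -, h4⟩ := Groth.Agent.Dix.CastMain.wp5 R X₂ h₂ k ι heff hdeg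
  exact ⟨Y, f, y, hy, h1, h2, h4⟩

/-- The smooth part of a scheme with smooth generic fibre: automorphisms of the generic fibre of `X` which extend
to `X` extend to the smooth part. -/
theorem exists_extend_of_iso {R : Type u} [CommRing R] [IsDomain R]
    (X : Over (Spec (CommRingCat.of R))) [LocallyOfFinitePresentation X.hom]
    [Smooth ((Neron.genericFibre R).obj X).hom]
    (haut : ∀ φ : (Neron.genericFibre R).obj X ≅ (Neron.genericFibre R).obj X,
      ∃ g : X ⟶ X, IsIso g ∧ (Neron.genericFibre R).map g = φ.hom)
    (φ : (Neron.genericFibre R).obj (Neron.smoothPart R X) ≅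
      (Neron.genericFibre R).obj (Neron.smoothPart R X)) :
    ∃ f : Neron.smoothPart R X ⟶ Neron.smoothPart R X, (Neron.genericFibre R).map f = φ.hom := by
  have h1 := isIso_genericFibre_ι R X
  let e := asIso ((Neron.genericFibre R).map (smoothPartι R X))
  obtain ⟨g, hg, hg'⟩ := haut (e.symm ≪≫ φ ≪≫ e)
  obtain ⟨f, hf⟩ := exists_restrict g
  refine ⟨f, ?_⟩
  rw [← cancel_mono e.hom]
  change (Neron.genericFibre R).map f ≫ (Neron.genericFibre R).map (smoothPartι R X) = _
  rw [← Functor.map_comp, hf, Functor.map_comp, hg']
  change e.hom ≫ (e.inv ≫ φ.hom ≫ e.hom) = _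
  rw [Iso.hom_inv_id_assoc]

/-- A Dedekind domain is universally catenary. -/
theorem isUniversallyCatenary (R : Type u) [CommRing R] [IsDedekindDomain R] : CAlg.IsUniversallyCatenary R := by
  have := Groth.Agent.S2653.isCohenMacaulayRing_of_isDedekindDomain R
  exact Groth.Agent.S0603.result R

section Dvr

variable (R : Type u) [CommRing R] [IsDomain R] [IsDiscreteValuationRing R]
    (X : Over (Spec (CommRingCat.of R))) (hX : Neron.IsRelMinimalRegularModel R X)
    [LocallyOfFinitePresentation X.hom]
    [Smooth ((Neron.genericFibre R).obj X).hom] [GeometricallyIrreducible ((Neron.genericFibre R).obj X).hom]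
    (hdim : topologicalKrullDim ((Neron.genericFibre R).obj X).left = 1)

omit [LocallyOfFinitePresentation X.hom] [Smooth ((Neron.genericFibre R).obj X).hom] in
include hX hdim in
theorem isArithSurface : ArSurf.IsArithSurface R X := by
  have : IrreducibleSpace ((Neron.genericFibre R).obj X).left :=
    GeometricallyIrreducible.irreducibleSpace_of_subsingleton ((Neron.genericFibre R).obj X).hom
  exact Groth.Agent.Dix.NeronEllB.isArithSurface X (isUniversallyCatenary R) hX hdim

variable (hgenus : Module.finrank (FractionRing R)
      (Coh.HH ((Neron.genericFibre R).obj X).left (Coh.structureModule _) 1) = 1)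

omit [LocallyOfFinitePresentation X.hom] in
include hX hdim hgenus in
/-- Automorphisms of the generic fibre extend uniquely to the minimal regular model. -/
theorem exists_extend (φ : (Neron.genericFibre R).obj X ≅ (Neron.genericFibre R).obj X) :
    ∃ f : X ⟶ X, IsIso f ∧ (Neron.genericFibre R).map f = φ.hom := by
  have h1 := isArithSurface R X hX hdim
  have h2 : GeometricallyReduced ((Neron.genericFibre R).obj X).hom := geometricallyReduced_of_smooth _
  have h3 : Nontrivial (Coh.HH ((Neron.genericFibre R).obj X).left (Coh.structureModule _) 1) :=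
    Module.nontrivial_of_finrank_pos (R := FractionRing R) (by rw [hgenus]; exact one_pos)
  exact (existsUnique_extend X X h1 h1 hX hX h3 φ).exists

include hX hdim hgenus in
/-- Every automorphism of the generic fibre of the smooth part `N` of the minimal regular model extends to `N`. -/
theorem exists_extend_smoothPart
    (φ : (Neron.genericFibre R).obj (Neron.smoothPart R X) ≅
      (Neron.genericFibre R).obj (Neron.smoothPart R X)) :
    ∃ f : Neron.smoothPart R X ⟶ Neron.smoothPart R X, (Neron.genericFibre R).map f = φ.hom :=
  exists_extend_of_iso X (exists_extend R X hX hdim hgenus) φ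

end Dvr

end K485.EllGen
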