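import Groth.Agent.Dix.EtMinDescent
import Groth.Agent.Dix.EtMin25D

/-!
# (-1)-curves over a localization of the base
-/

set_option autoImplicit false
universe u

open CategoryTheory CategoryTheory.Limits AlgebraicGeometry IsLocalRing

namespace K485.MinusLoc

open Groth.Agent Groth.Agent.Dix Groth.Agent.Dix.MinusCurve Groth.Agent.Divis.EffCartier CohB1
open Groth.Agent.Dix.EtMinDescent Groth.Agent.Dix.EtMin25D Groth.Agent.Divis.CartierBasic
open Groth.Agent.Divis.CartierStalk

/-- A (-1)-curve over a localization which is closed in the original scheme is a (-1)-curve there. -/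
theorem exists_minusCurve_of_mono {X Z : Scheme.{u}} (q : Z ⟶ X) [Flat q] [Mono q] (E : MinusCurve Z)
    [IsClosedImmersion (E.ι ≫ q)] [IsLocallyNoetherian X] [IsLocallyNoetherian Z] :
    Nonempty (MinusCurve X) := by
  let i : ProjSpace 1 E.k ⟶ X := E.ι ≫ q
  have hi : IsClosedImmersion i := ‹_›
  let l : ProjSpace 1 E.k ⟶ pullback q i := pullback.lift E.ι (𝟙 _) (by rw [Category.id_comp])
  have hl1 : l ≫ pullback.fst q i = E.ι := pullback.lift_fst _ _ _
  have hl2 : l ≫ pullback.snd q i = 𝟙 _ := pullback.lift_snd _ _ _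
  have hmono : Mono (pullback.snd q i) := inferInstance
  have hl3 : pullback.snd q i ≫ l = 𝟙 _ := by
    rw [← cancel_mono (pullback.snd q i), Category.assoc, hl2, Category.comp_id, Category.id_comp]
  have hliso : IsIso l := ⟨pullback.snd q i, hl2, hl3⟩
  have hcomap : i.ker.comap q = E.ι.ker := by
    rw [← Scheme.IdealSheafData.ker_fst_of_isClosedImmersion, ← hl1, Scheme.Hom.ker_comp_of_isIso]
  have heff : BlowUp.IsEffCartierIdeal i.ker := by
    apply isEffCartierIdeal_of_stalkIdeal
    intro x hx
    have hx' : x ∈ Set.range i := by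
      have : x ∈ (i.ker.support : Set X) := hx
      rwa [Scheme.Hom.support_ker, i.isClosedEmbedding.isClosed_range.closure_eq] at this
    obtain ⟨p, rfl⟩ := hx'
    have hxp : i p = q (E.ι p) := Scheme.Hom.comp_apply _ _ _
    rw [hxp]
    obtain ⟨g, hg, hg'⟩ := exists_stalkIdeal_eq_span E.eff (E.ι p)
    rw [← hcomap, stalkIdeal_comap] at hg'
    algebraize [(q.stalkMap (E.ι p)).hom]
    have hloc : IsLocalHom (algebraMap (X.presheaf.stalk (q (E.ι p))) (Z.presheaf.stalk (E.ι p))) :=
      inferInstanceAs (IsLocalHom (q.stalkMap (E.ι p)).hom)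
    have hflat : Module.Flat (X.presheaf.stalk (q (E.ι p))) (Z.presheaf.stalk (E.ι p)) :=
      Flat.stalkMap q (E.ι p)
    exact exists_generator_descent _ _ _ g hg hg'
  have hcomapeff : BlowUp.IsEffCartierIdeal (i.ker.comap q) := Divis.EffCartier.isEff_comap_flat heff q
  obtain ⟨-, ⟨e1⟩⟩ := EtMinA.transport i q heff hcomapeff E.ι (𝟙 _) (by rw [Category.id_comp])
    (by change IsOpenImmersion l; infer_instance)
  refine ⟨⟨E.k, i, heff, ?_⟩⟩
  rw [← E.deg]
  exact EtMinB.curveDeg_congr E.k _ (e1 ≪≫ (Scheme.Modules.pullbackId _).app _).symm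

section

variable {R A : Type u} [CommRing R] [IsDedekindDomain R] [CommRing A] [IsDomain A] [Algebra R A]
  (p : Ideal R) [p.IsMaximal] [IsLocalization.AtPrime A p]

include p in
/-- A (-1)-curve over the localization of the base at a maximal ideal is closed in the original scheme. -/
theorem isClosedImmersion_comp {X Z : Scheme.{u}} (f : X ⟶ Spec (CommRingCat.of R)) [IsSeparated f]
    {q : Z ⟶ X} {f' : Z ⟶ Spec (CommRingCat.of A)} [IsProper f'] 
    (h : IsPullback q f' f (Spec.map (CommRingCat.ofHom (algebraMap R A)))) (E : MinusCurve Z) :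
    IsClosedImmersion (E.ι ≫ q) := by
  obtain ⟨α, hα, ha⟩ := isIntegral_const f' E
  let m : Ideal A := RingHom.ker α
  have hm1 : m.IsPrime := RingHom.ker_isPrime α
  let α' : A ⧸ m →+* E.k := Ideal.Quotient.lift m α (fun a ha => ha)
  have hα' : α'.comp (Ideal.Quotient.mk m) = α := rfl
  have hα'i : α'.IsIntegral := RingHom.IsIntegral.tower_top (Ideal.Quotient.mk m) α' (hα' ▸ hα)
  have hm : m.IsMaximal := by
    rw [Ideal.Quotient.maximal_ideal_iff_isField_quotient]
    have hinj : Function.Injective α' := RingHom.lift_injective_of_ker_le_ideal m (fun a ha => ha)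
      le_rfl
    let _ := α'.toAlgebra
    have : Algebra.IsIntegral (A ⧸ m) E.k := ⟨hα'i⟩
    exact isField_of_isIntegral_of_isField (R := A ⧸ m) (S := E.k) hinj (Field.toIsField E.k)
  have hloc : IsLocalRing A := IsLocalization.AtPrime.isLocalRing A p
  have hmm : m = maximalIdeal A := eq_maximalIdeal hm
  -- the residue fields agree
  have hsurj : Function.Surjective ((Ideal.Quotient.mk m).comp (algebraMap R A)) := by
    rw [hmm]
    intro y
    obtain ⟨y, rfl⟩ := Ideal.Quotient.mk_surjective y
    obtain ⟨⟨r, s⟩, hrs⟩ := IsLocalization.surj p.primeCompl y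
    have hs : (s : R) ∉ p := s.2
    obtain ⟨t, ht⟩ := Ideal.IsMaximal.exists_inv (I := p) ‹_› hs
    obtain ⟨w, hw, hw'⟩ := ht
    refine ⟨t * r, ?_⟩
    rw [RingHom.comp_apply, Ideal.Quotient.eq]
    have h1 : algebraMap R A (t * r) - y = - (algebraMap R A w * y) := by
      have h2 : algebraMap R A r = y * algebraMap R A s := hrs.symm
      have h3 : algebraMap R A (t * s) = 1 - algebraMap R A w := by
        rw [← map_one (algebraMap R A), ← hw', map_add]
        ring
      rw [map_mul, h2]
      calc algebraMap R A t * (y * algebraMap R A s) - y = algebraMap R A (t * s) * y - y := by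
            rw [map_mul]; ring
        _ = _ := by rw [h3]; ring
    rw [h1]
    refine neg_mem (Ideal.mul_mem_right _ _ ?_)
    exact (IsLocalization.AtPrime.to_map_mem_maximal_iff A p w).2 hw
  let β : R →+* E.k := α.comp (algebraMap R A)
  have hβ : β.IsIntegral := by
    have : β = α'.comp ((Ideal.Quotient.mk m).comp (algebraMap R A)) := rfl
    rw [this]
    exact (RingHom.isIntegral_of_surjective _ hsurj).trans _ _ hα'i
  have hα'lft : LocallyOfFiniteType (ProjSpace.toSpec 1 E.k ≫ Spec.map (CommRingCat.ofHom α')) := by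
    have h1 : LocallyOfFiniteType ((ProjSpace.toSpec 1 E.k ≫ Spec.map (CommRingCat.ofHom α')) ≫
        Spec.map (CommRingCat.ofHom (Ideal.Quotient.mk m))) := by
      have : (ProjSpace.toSpec 1 E.k ≫ Spec.map (CommRingCat.ofHom α')) ≫
          Spec.map (CommRingCat.ofHom (Ideal.Quotient.mk m)) = E.ι ≫ f' := by
        rw [← ha, Category.assoc, ← Spec.map_comp]
        rfl
      rw [this]
      infer_instance
    exact locallyOfFiniteType_of_comp _ (Spec.map (CommRingCat.ofHom (Ideal.Quotient.mk m)))
  have hres : LocallyOfFiniteType (Spec.map (CommRingCat.ofHom ((Ideal.Quotient.mk m).comp (algebraMap R A)))) := by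
    rw [HasRingHomProperty.Spec_iff (P := @LocallyOfFiniteType)]
    exact RingHom.FiniteType.of_surjective _ hsurj
  have hb : ProjSpace.toSpec 1 E.k ≫ Spec.map (CommRingCat.ofHom β) = E.ι ≫ q ≫ f := by
    rw [h.w, ← Category.assoc, ← ha, Category.assoc, ← Spec.map_comp]
    rfl
  have hint : IsIntegralHom (Spec.map (CommRingCat.ofHom β)) := by
    rw [IsIntegralHom.SpecMap_iff]
    exact hβ
  have hprop : IsProper (E.ι ≫ q ≫ f) := by
    have h0 : LocallyOfFiniteType (E.ι ≫ q ≫ f) := by
      have h3 : E.ι ≫ q ≫ f = (ProjSpace.toSpec 1 E.k ≫ Spec.map (CommRingCat.ofHom α')) ≫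
          Spec.map (CommRingCat.ofHom ((Ideal.Quotient.mk m).comp (algebraMap R A))) := by
        rw [← hb, Category.assoc, ← Spec.map_comp]
        rfl
      rw [h3]
      infer_instance
    have h1 : UniversallyClosed (E.ι ≫ q ≫ f) := by rw [← hb]; infer_instance
    have h2 : IsSeparated (E.ι ≫ q ≫ f) := by rw [← hb]; infer_instance
    exact { }
  rw [← Category.assoc] at hprop
  have hp : IsProper (E.ι ≫ q) := IsProper.of_comp _ f
  have hmq : Mono q := by
    have h1 : Mono (Spec.map (CommRingCat.ofHom (algebraMap R A))) := by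
      have : Epi (CommRingCat.ofHom (algebraMap R A)) := IsLocalization.epi p.primeCompl A
      exact inferInstanceAs (Mono (Scheme.Spec.map (CommRingCat.ofHom (algebraMap R A)).op))
    exact MorphismProperty.of_isPullback (P := MorphismProperty.monomorphisms _) h.flip h1
  exact (IsClosedImmersion.iff_isProper_and_mono _).2 ⟨hp, inferInstance⟩

include p in
/-- A scheme without (-1)-curves has no (-1)-curves over the localizations of the base. -/
theorem isEmpty_minusCurve {X Z : Scheme.{u}} (f : X ⟶ Spec (CommRingCat.of R)) [IsSeparated f]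
    [LocallyOfFiniteType f] {q : Z ⟶ X} {f' : Z ⟶ Spec (CommRingCat.of A)} [IsProper f']
    (h : IsPullback q f' f (Spec.map (CommRingCat.ofHom (algebraMap R A)))) (he : IsEmpty (MinusCurve X)) :
    IsEmpty (MinusCurve Z) := by
  have hRn : IsNoetherianRing A := IsLocalization.isNoetherianRing p.primeCompl A inferInstance
  have h1 : IsLocallyNoetherian (Spec (CommRingCat.of R)) := inferInstance
  have h2 : IsLocallyNoetherian (Spec (CommRingCat.of A)) := inferInstance
  have h3 : IsLocallyNoetherian X := LocallyOfFiniteType.isLocallyNoetherian f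
  have h4 : IsLocallyNoetherian Z := LocallyOfFiniteType.isLocallyNoetherian f'
  refine ⟨fun E => ?_⟩
  have hmS : Mono (Spec.map (CommRingCat.ofHom (algebraMap R A))) := by
    have : Epi (CommRingCat.ofHom (algebraMap R A)) := IsLocalization.epi p.primeCompl A
    exact inferInstanceAs (Mono (Scheme.Spec.map (CommRingCat.ofHom (algebraMap R A)).op))
  have hflS : Flat (Spec.map (CommRingCat.ofHom (algebraMap R A))) := by
    rw [HasRingHomProperty.Spec_iff (P := @Flat)]
    exact (RingHom.flat_algebraMap_iff).2 (IsLocalization.flat A p.primeCompl)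
  have hmq : Mono q := MorphismProperty.of_isPullback (P := MorphismProperty.monomorphisms _) h.flip hmS
  have hfq : Flat q := MorphismProperty.of_isPullback h.flip hflS
  have hcl := isClosedImmersion_comp p f h E
  obtain ⟨E'⟩ := exists_minusCurve_of_mono q E
  exact he.false E'

end

end K485.MinusLoc
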