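import Groth.Agent.Neron.K485.EllStrict
import Groth.Agent.Neron.K485.DedSurf
import Groth.Agent.Neron.K485.MinusLoc
import Groth.Agent.S15942
import Groth.Agent.Ega4dA.DvrIso

/-!
# The smooth part of a minimal model over a Dedekind domain
-/

set_option autoImplicit false
universe u

open CategoryTheory CategoryTheory.Limits AlgebraicGeometry IsLocalRing

namespace K485.EllGlob

open Groth.Agent.Dix Groth.Agent.Dix.GenFibre

section loc

variable {R A : Type u} [CommRing R] [IsDomain R] [CommRing A] [IsDomain A] [Algebra R A] (M : Submonoid R)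
  [IsLocalization M A]

include M in
/-- The map of fraction fields of a localization is an isomorphism. -/
theorem isIso_gamma (γ : Spec (CommRingCat.of (FractionRing A)) ⟶ Spec (CommRingCat.of (FractionRing R)))
    (hγ : γ ≫ Neron.genPt R = Neron.genPt A ≫ Spec.map (CommRingCat.ofHom (algebraMap R A))) : IsIso γ := by
  obtain ⟨φ, rfl⟩ := Spec.map_surjective γ
  rw [Neron.genPt, Neron.genPt, ← Spec.map_comp, ← Spec.map_comp] at hγ
  have h1 := Spec.map_injective hγ
  have h2 : ∀ r : R, φ.hom (algebraMap R (FractionRing R) r) =
      algebraMap A (FractionRing A) (algebraMap R A r) := fun r => congr($(h1).hom r)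
  have hsurj : Function.Surjective φ.hom := by
    have h3 : ∀ a : A, algebraMap A (FractionRing A) a ∈ φ.hom.fieldRange := by
      intro a
      obtain ⟨⟨r, s⟩, hrs⟩ := IsLocalization.surj M a
      have hs0 : algebraMap A (FractionRing A) (algebraMap R A s) ≠ 0 := by
        have h4 : IsUnit (algebraMap A (FractionRing A) (algebraMap R A s)) :=
          (IsLocalization.map_units A s).map _
        exact h4.ne_zero
      have h5 : algebraMap A (FractionRing A) a =
          algebraMap A (FractionRing A) (algebraMap R A r) / algebraMap A (FractionRing A) (algebraMap R A s) := by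
        rw [eq_div_iff hs0, ← map_mul, hrs]
      rw [h5, ← h2, ← h2]
      exact div_mem ⟨_, rfl⟩ ⟨_, rfl⟩
    intro x
    obtain ⟨a, b, -, rfl⟩ := IsFractionRing.div_surjective (A := A) x
    exact div_mem (h3 a) (h3 b)
  have hbij : Function.Bijective φ.hom := ⟨φ.hom.injective, hsurj⟩
  have h6 : IsIso φ := by
    rw [ConcreteCategory.isIso_iff_bijective]
    exact hbij
  infer_instance

end loc

/-- The local statement over a Dedekind domain. -/
theorem bijective_loc {R A : Type u} [CommRing R] [IsDedekindDomain R] (hR : ¬ IsField R) [CommRing A] [IsDomain A]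
    [IsDiscreteValuationRing A] [Algebra R A] (p : Ideal R) [p.IsMaximal] [IsLocalization.AtPrime A p]
    (hperf : @PerfectField (R ⧸ p) (Ideal.Quotient.field p))
    (X : Over (Spec (CommRingCat.of R))) (hX : Neron.IsRelMinimalRegularModel R X)
    [LocallyOfFinitePresentation X.hom]
    [Smooth ((Neron.genericFibre R).obj X).hom] [GeometricallyIrreducible ((Neron.genericFibre R).obj X).hom]
    (hdim : topologicalKrullDim ((Neron.genericFibre R).obj X).left = 1)
    (hg : Nontrivial (Coh.HH ((Neron.genericFibre R).obj X).left (Coh.structureModule _) 1))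
    (hG : Nonempty (GrpObj ((Neron.genericFibre R).obj X)))
    (Y : Over (Spec (CommRingCat.of A))) (hY : Smooth Y.hom) :
    Function.Bijective (fun f : Y ⟶ (Over.pullback (Spec.map (CommRingCat.ofHom (algebraMap R A)))).obj
      (Neron.smoothPart R X) => (Neron.genericFibre A).map f) := by
  have : IrreducibleSpace ((Neron.genericFibre R).obj X).left :=
    GeometricallyIrreducible.irreducibleSpace_of_subsingleton ((Neron.genericFibre R).obj X).hom
  have hAS : ArSurf.IsArithSurface R X := DedSurf.isArithSurface hR X hX.1 hX.2.1 hX.2.2.1 hdim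
  have he := EtAut.isEmpty_minusCurve hR hAS hX
  have hXs := MinimalUnique.isRegSurf_of_isArithSurface hAS
  have hXp : IsProper X.hom := hXs.proper
  have hXf : Flat X.hom := hX.2.2.1
  let g : Spec (CommRingCat.of A) ⟶ Spec (CommRingCat.of R) := Spec.map (CommRingCat.ofHom (algebraMap R A))
  have hM : p.primeCompl ≤ nonZeroDivisors R := p.primeCompl_le_nonZeroDivisors
  have hinj : Function.Injective (algebraMap R A) := IsLocalization.injective A hM
  have hmg : Mono g := by
    have : Epi (CommRingCat.ofHom (algebraMap R A)) := IsLocalization.epi p.primeCompl A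
    exact inferInstanceAs (Mono (Scheme.Spec.map (CommRingCat.ofHom (algebraMap R A)).op))
  have hflg : Flat g := by
    rw [HasRingHomProperty.Spec_iff (P := @Flat)]
    exact (RingHom.flat_algebraMap_iff).2 (IsLocalization.flat A p.primeCompl)
  let XA := (Over.pullback g).obj X
  let q : XA.left ⟶ X.left := pullback.fst X.hom g
  have hq : IsPullback q XA.hom X.hom g := IsPullback.of_hasPullback _ _
  have hmq : Mono q := MorphismProperty.of_isPullback (P := MorphismProperty.monomorphisms _) hq.flip hmg
  have hflq : Flat q := MorphismProperty.of_isPullback (P := @Flat) hq.flip hflg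
  have hXAf : Flat XA.hom := MorphismProperty.of_isPullback hq inferInstance
  have hXAp : IsProper XA.hom := MorphismProperty.of_isPullback hq inferInstance
  have hXAlfp : LocallyOfFinitePresentation XA.hom := MorphismProperty.of_isPullback hq inferInstance
  have hregA : ∀ x : XA.left, IsRegularLocalRing (XA.left.presheaf.stalk x) := by
    intro x
    have h1 := FlatMonoStalk.isIso_stalkMap_of_flat_of_mono q x
    have h2 := hX.1 (q x)
    exact IsRegularLocalRing.of_ringEquiv (asIso (q.stalkMap x)).commRingCatIsoToRingEquiv
  obtain ⟨γ, hγ⟩ := EtAut.exists_gamma R A (algebraMap R A) hinj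
  have hγi : IsIso γ := isIso_gamma p.primeCompl γ hγ
  have hproj := GrpBC.isPullback_proj (X := X) (X' := XA) hγ hq
  have hpi : IsIso (GrpBC.proj (X := X) (X' := XA) hγ hq) :=
    MorphismProperty.of_isPullback (P := MorphismProperty.isomorphisms _) hproj.flip hγi
  have hdimA : topologicalKrullDim ((Neron.genericFibre A).obj XA).left = 1 := by
    rw [← hdim]
    exact IsHomeomorph.topologicalKrullDim_eq _
      (Scheme.homeoOfIso (asIso (GrpBC.proj (X := X) (X' := XA) hγ hq))).isHomeomorph
  have h1 : GeometricallyIrreducible ((Neron.genericFibre A).obj XA).hom :=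
    EtAut.geometricallyIrreducible_baseChange X hinj
  have h2 : Smooth ((Neron.genericFibre A).obj XA).hom := EtAut.smooth_baseChange X hinj
  have : IrreducibleSpace ((Neron.genericFibre A).obj XA).left :=
    GeometricallyIrreducible.irreducibleSpace_of_subsingleton ((Neron.genericFibre A).obj XA).hom
  have hASA : ArSurf.IsArithSurface A XA := DedSurf.isArithSurface (IsDiscreteValuationRing.not_isField A) XA hregA
    (EtMin25A.isProjectiveOver_baseChange X hX.2.1) hXAf hdimA
  have heA : IsEmpty (MinusCurve.MinusCurve XA.left) :=
    MinusLoc.isEmpty_minusCurve p X.hom hq he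
  have hgA := EtMinDisj625.nontrivial_genericFibre (S := A) X.hom hg g
  obtain ⟨hG⟩ := hG
  obtain ⟨GA, -⟩ := GrpBC.exists_isCompat (X := X) (X' := XA) hγ hq
  have hperfA : PerfectField (ResidueField A) := by
    let _ := Ideal.Quotient.field p
    have := hperf
    exact PerfectField.of_ringEquiv (IsLocalization.AtPrime.equivQuotMaximalIdeal p A)
  obtain ⟨e⟩ := SmDesc.exists_iso_smoothPart g X
  exact SmDesc.bijective_of_iso_target (Neron.genericFibre A) e
    (EllStrict.bijective XA hASA heA hgA ⟨GA⟩ Y hY)

/-- Base change along an isomorphism is fully faithful. -/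
theorem bijective_of_isIso {S T : Scheme.{u}} (j : T ⟶ S) [IsIso j] (Y N : Over S) :
    Function.Bijective (fun f : Y ⟶ N => (Over.pullback j).map f) := by
  rw [← SmDesc.bijective_congr_gen (𝟙 S) j (asIso j) (Category.comp_id _)]
  have e : Over.pullback (𝟙 S) ≅ 𝟭 _ := Over.pullbackId
  have : (Over.pullback (𝟙 S)).IsEquivalence := Functor.isEquivalence_of_iso e.symm
  exact ⟨(Over.pullback (𝟙 S)).map_injective, (Over.pullback (𝟙 S)).map_surjective⟩

/-- Any fraction field can be used for the generic fibre. -/
theorem bijective_congr_frac {R K : Type u} [CommRing R] [IsDomain R] [CommRing K] [Algebra R K] [IsFractionRing R K]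
    (Y N : Over (Spec (CommRingCat.of R))) :
    Function.Bijective (fun f : Y ⟶ N => (Over.pullback (Spec.map (CommRingCat.ofHom (algebraMap R K)))).map f) ↔
      Function.Bijective (fun f : Y ⟶ N => (Neron.genericFibre R).map f) := by
  let e := FractionRing.algEquiv R K
  let e' : Spec (CommRingCat.of K) ≅ Spec (CommRingCat.of (FractionRing R)) :=
    Scheme.Spec.mapIso e.toRingEquiv.toCommRingCatIso.op
  rw [SmDesc.bijective_congr_gen (Neron.genPt R) (Spec.map (CommRingCat.ofHom (algebraMap R K))) e' ?_]
  change Spec.map (CommRingCat.ofHom e.toRingEquiv.toRingHom) ≫ Spec.map _ = _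
  rw [← Spec.map_comp]
  congr 1
  ext r
  exact e.commutes r

/-- Any fraction field can be used for the generic fibre. -/
theorem bijective_congr_frac' {R : Type u} [CommRing R] [IsDomain R] (K : CommRingCat.{u})
    (ψ : CommRingCat.of R ⟶ K) (h : @IsFractionRing R _ K _ ψ.hom.toAlgebra)
    (Y N : Over (Spec (CommRingCat.of R))) :
    Function.Bijective (fun f : Y ⟶ N => (Over.pullback (Spec.map ψ)).map f) ↔
      Function.Bijective (fun f : Y ⟶ N => (Neron.genericFibre R).map f) := by
  let _ : Algebra R K := ψ.hom.toAlgebra
  exact bijective_congr_frac (R := R) (K := K) Y N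

/-- The local statement over a Dedekind domain, with bundled rings. -/
theorem bijective_loc' {R : Type u} [CommRing R] [IsDedekindDomain R] (hR : ¬ IsField R)
    (p : Ideal R) [p.IsMaximal]
    (hperf : @PerfectField (R ⧸ p) (Ideal.Quotient.field p))
    (A : CommRingCat.{u}) (φ : CommRingCat.of R ⟶ A) (hφ : @IsLocalization.AtPrime R _ A _ φ.hom.toAlgebra p _)
    (K : CommRingCat.{u}) (ψ : A ⟶ K) (hψ : @IsFractionRing A _ K _ ψ.hom.toAlgebra)
    (X : Over (Spec (CommRingCat.of R))) (hX : Neron.IsRelMinimalRegularModel R X)
    [LocallyOfFinitePresentation X.hom]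
    [Smooth ((Neron.genericFibre R).obj X).hom] [GeometricallyIrreducible ((Neron.genericFibre R).obj X).hom]
    (hdim : topologicalKrullDim ((Neron.genericFibre R).obj X).left = 1)
    (hg : Nontrivial (Coh.HH ((Neron.genericFibre R).obj X).left (Coh.structureModule _) 1))
    (hG : Nonempty (GrpObj ((Neron.genericFibre R).obj X)))
    (Y : Over (Spec A)) (hY : Smooth Y.hom) :
    Function.Bijective (fun f : Y ⟶ (Over.pullback (Spec.map φ)).obj
      (Neron.smoothPart R X) => (Over.pullback (Spec.map ψ)).map f) := by
  let _ : Algebra R A := φ.hom.toAlgebra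
  have hdom : IsDomain A := IsLocalization.isDomain_of_le_nonZeroDivisors A p.primeCompl_le_nonZeroDivisors
  have hdvr : IsDiscreteValuationRing A :=
    IsLocalization.AtPrime.isDiscreteValuationRing_of_dedekind_domain R
      (Ring.ne_bot_of_isMaximal_of_not_isField inferInstance hR) (P := p) _
  have h1 := bijective_loc (R := R) (A := A) hR p hperf X hX hdim hg hG Y hY
  exact (bijective_congr_frac' (R := A) K ψ hψ Y _).2 h1

/-- The Krull dimension of a Dedekind domain which is not a field. -/
theorem ringKrullDim_eq_one (R : Type u) [CommRing R] [IsDedekindDomain R] (hR : ¬ IsField R) :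
    ringKrullDim R = 1 := by
  apply le_antisymm
  · have h : ringKrullDim R ≤ ((1 : ℕ∞) : WithBot ℕ∞) := by
      rw [ringKrullDim_le_iff_isMaximal_height_le]
      intro m hm
      exact WithBot.coe_le_coe.mpr (DedSurf.height_le_one m)
    exact h
  · obtain ⟨m, hm⟩ := Ideal.exists_maximal R
    have h := DedSurf.height_eq_one m (Ring.ne_bot_of_isMaximal_of_not_isField hm hR)
    have h8 : (m.height : WithBot ℕ∞) ≤ ringKrullDim R := Ideal.height_le_ringKrullDim_of_isPrime
    rw [h] at h8
    exact h8

/-- **The Néron model of an elliptic curve** over a Dedekind domain with perfect residue fields: the mapping property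
of the smooth part of the minimal regular model. -/
theorem bijective {R : Type u} [CommRing R] [IsDedekindDomain R]
    (hperf : ∀ (m : Ideal R) (hm : m.IsMaximal), @PerfectField (R ⧸ m) (Ideal.Quotient.field m))
    (X : Over (Spec (CommRingCat.of R))) (hX : Neron.IsRelMinimalRegularModel R X)
    [LocallyOfFinitePresentation X.hom]
    [Smooth ((Neron.genericFibre R).obj X).hom] [GeometricallyIrreducible ((Neron.genericFibre R).obj X).hom]
    (hdim : topologicalKrullDim ((Neron.genericFibre R).obj X).left = 1)
    (hg : Nontrivial (Coh.HH ((Neron.genericFibre R).obj X).left (Coh.structureModule _) 1))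
    (hG : Nonempty (GrpObj ((Neron.genericFibre R).obj X)))
    (Y : Over (Spec (CommRingCat.of R))) (hY : Smooth Y.hom) :
    Function.Bijective (fun f : Y ⟶ Neron.smoothPart R X => (Neron.genericFibre R).map f) := by
  by_cases hR : IsField R
  · have := MinUniqField.isIso_genPt hR
    exact bijective_of_isIso _ _ _
  · have hsm : Smooth (Neron.smoothPart R X).hom := inferInstance
    have hXp : IsProper X.hom := isProper_of_isProjectiveOver hX.2.1
    have hsep : IsSeparated (Neron.smoothPart R X).hom :=
      inferInstanceAs (IsSeparated (X.hom.smoothLocus.ι ≫ X.hom))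
    have hreg : ∀ s : Spec (CommRingCat.of R), IsRegularLocalRing ((Spec (CommRingCat.of R)).presheaf.stalk s) :=
      fun s => Groth.Agent.Ega4dA.DvrIso.isRegularLocalRing_stalk (V := R) (𝟙 _) s
    have hdimS : topologicalKrullDim (Spec (CommRingCat.of R)) = 1 := by
      rw [← ringKrullDim_eq_one R hR]
      exact PrimeSpectrum.topologicalKrullDim_eq_ringKrullDim R
    have hmain := Groth.Agent.S15942.result (S := Spec (CommRingCat.of R)) hreg hdimS (Neron.smoothPart R X)
      (fun p hp Y' hY' => ?_) Y hY
    · rw [Spec.fromSpecStalk_eq'] at hmain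
      exact (bijective_congr_frac' (R := R) (Spec (CommRingCat.of R)).functionField
        (StructureSheaf.toStalk R _) (functionField_isFractionRing_of_affine (CommRingCat.of R)) Y _).1 hmain
    · have hmax : p.asIdeal.IsMaximal := (PrimeSpectrum.isClosed_singleton_iff_isMaximal _).1 hp
      rw [Spec.fromSpecStalk_eq']
      exact bijective_loc' hR p.asIdeal (hperf _ hmax) ((Spec (CommRingCat.of R)).presheaf.stalk p)
        (StructureSheaf.toStalk R p) (StructureSheaf.IsLocalization.to_stalk R p)
        (Spec (CommRingCat.of R)).functionField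
        ((Spec (CommRingCat.of R)).presheaf.stalkSpecializes (genericPoint_specializes p))
        (inferInstanceAs (IsFractionRing ((Spec (CommRingCat.of R)).presheaf.stalk p)
          (Spec (CommRingCat.of R)).functionField)) X hX hdim hg hG Y' hY'

end K485.EllGlob
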