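import Groth.Agent.Neron.K485.GrpExt
import Groth.Agent.Neron.K485.EllGen

/-!
# The smooth part of a proper model, when translations extend to the model
-/

set_option autoImplicit false
universe u

open CategoryTheory CategoryTheory.Limits AlgebraicGeometry MonoidalCategory CartesianMonoidalCategory
open scoped MonObj

namespace K485.EllLocal

open Groth.Agent.Dix Groth.Agent.Dix.NeronEllGrp Groth.Agent.Dix.NeronEllMain

variable {R : Type u} [CommRing R] [IsDomain R] [IsDiscreteValuationRing R]

/-- The smooth locus of a proper model is a group scheme and a Néron model, if sections land in it and translations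
and the inverse of the generic fibre extend to automorphisms of the model. -/
theorem main [HenselianLocalRing R] (X : Over (Spec (CommRingCat.of R))) [LocallyOfFinitePresentation X.hom]
    [IsAlgClosed (IsLocalRing.ResidueField R)] [IsProper X.hom]
    [Smooth ((Neron.genericFibre R).obj X).hom] [GeometricallyIrreducible ((Neron.genericFibre R).obj X).hom]
    [GrpObj ((Neron.genericFibre R).obj X)]
    (hsec : ∀ a : Spec (CommRingCat.of R) ⟶ X.left, a ≫ X.hom = 𝟙 _ →
      ∀ s : Spec (CommRingCat.of R), a s ∈ X.hom.smoothLocus)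
    (haut : ∀ a b : (Neron.genericFibre R).obj (𝟙_ (Over (Spec (CommRingCat.of R)))) ⟶
        (Neron.genericFibre R).obj X, ∃ f : X ⟶ X, IsIso f ∧ (Neron.genericFibre R).map f = B X a b)
    (hinv : ∃ f : X ⟶ X, IsIso f ∧ (Neron.genericFibre R).map f = (𝟙 ((Neron.genericFibre R).obj X))⁻¹) :
    Nonempty (GrpObj (Neron.smoothPart R X)) ∧
      Neron.IsNeronModelOf R (Neron.smoothPart R X) ((Neron.genericFibre R).obj (Neron.smoothPart R X))
      (Iso.refl _) := by
  set N := Neron.smoothPart R X with hNdef
  have h1 : Smooth N.hom := NeronEllMain.smooth_smoothPart R X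
  have h2 : IsSeparated N.hom := inferInstanceAs (IsSeparated (X.hom.smoothLocus.ι ≫ X.hom))
  have hnoeth : IsLocallyNoetherian X.left := LocallyOfFiniteType.isLocallyNoetherian X.hom
  have h3 : QuasiCompact N.hom := inferInstanceAs (QuasiCompact (X.hom.smoothLocus.ι ≫ X.hom))
  have hiso := NeronEllMain.isIso_map_incl R X
  let e : (Neron.genericFibre R).obj N ≅ (Neron.genericFibre R).obj X :=
    @asIso _ _ _ _ ((Neron.genericFibre R).map (NeronEllMain.incl R X)) hiso
  have heq : ((Neron.genericFibre R).obj N).hom = e.hom.left ≫ ((Neron.genericFibre R).obj X).hom :=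
    (Over.w e.hom).symm
  have hei : IsIso e.hom.left := inferInstance
  have hXp : IsProper ((Neron.genericFibre R).obj X).hom :=
    inferInstanceAs (IsProper (pullback.snd X.hom (Neron.genPt R)))
  have h4 : IsProper ((Neron.genericFibre R).obj N).hom := by
    rw [heq]
    infer_instance
  have h5 : GeometricallyIrreducible ((Neron.genericFibre R).obj N).hom := by
    rw [heq, MorphismProperty.cancel_left_of_respectsIso @GeometricallyIrreducible]
    infer_instance
  let G : GrpObj ((Neron.genericFibre R).obj N) := GrpObj.ofIso e.symm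
  have hmon : IsMonHom e.hom := by
    have h6 : IsMonHom e.symm.inv := inferInstance
    exact h6
  have hB : ∀ a b : (Neron.genericFibre R).obj (𝟙_ (Over (Spec (CommRingCat.of R)))) ⟶
      (Neron.genericFibre R).obj N, B N a b ≫ e.hom = e.hom ≫ B X (a ≫ e.hom) (b ≫ e.hom) := by
    intro a b
    rw [B, MonObj.mul_comp, MonObj.mul_comp, comp_B, Category.id_comp]
    rfl
  refine GrpExt.isNeronModelOf N (GrpExt.exists_section_smoothPart X hsec) (fun a b => ?_) ?_
  · obtain ⟨g, hg, hg'⟩ := haut (a ≫ e.hom) (b ≫ e.hom)
    obtain ⟨f, hf⟩ := NeronEllAut.exists_restrict g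
    refine ⟨f, ?_⟩
    rw [← cancel_mono e.hom, hB, ← hg']
    change (Neron.genericFibre R).map f ≫ (Neron.genericFibre R).map (NeronEllMain.incl R X) =
      (Neron.genericFibre R).map (NeronEllMain.incl R X) ≫ _
    rw [← Functor.map_comp, ← Functor.map_comp]
    exact congrArg _ hf
  · obtain ⟨g, hg, hg'⟩ := hinv
    obtain ⟨f, hf⟩ := NeronEllAut.exists_restrict g
    refine ⟨f, ?_⟩
    have h7 : (𝟙 ((Neron.genericFibre R).obj N))⁻¹ ≫ e.hom = e.hom ≫ (𝟙 ((Neron.genericFibre R).obj X))⁻¹ := by
      rw [GrpObj.inv_comp, GrpObj.comp_inv, Category.id_comp, Category.comp_id]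
    rw [← cancel_mono e.hom, h7, ← hg']
    change (Neron.genericFibre R).map f ≫ (Neron.genericFibre R).map (NeronEllMain.incl R X) =
      (Neron.genericFibre R).map (NeronEllMain.incl R X) ≫ _
    rw [← Functor.map_comp, ← Functor.map_comp]
    exact congrArg _ hf

end K485.EllLocal
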