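import Groth.Agent.Neron.K485.GrpExt
import Groth.Agent.Dix.GenFibre
import Groth.Agent.Sga3B.BcPts

/-!
# Translations of the generic fibre and base change

`X` is a scheme over a domain `R` whose generic fibre is a group scheme; `X'` is its base change to a domain `R'`.
The generic fibre of `X'` is given the base changed group structure, and extensions of translations are transported
along base changes.
-/

set_option autoImplicit false
set_option linter.unusedSectionVars false
universe u

open CategoryTheory CategoryTheory.Limits AlgebraicGeometry MonoidalCategory CartesianMonoidalCategory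
open scoped MonObj

namespace K485.GrpBC

open Groth.Agent.Dix Groth.Agent.Dix.GenFibre Groth.Agent.Dix.NeronEllGrp Groth.Agent.Sga3B.BcPts

section toE

variable {T T' : Scheme.{u}} (γ : T' ⟶ T) {E : Over T} {E' : Over T'} (ε : E' ≅ Red.bc γ E)

/-- A point of the base change as a point of the original object. -/
noncomputable def toE {Y : Over T'} (u : Y ⟶ E') : (Over.map γ).obj Y ⟶ E :=
  (bcEquiv γ Y E).symm (u ≫ ε.hom)

theorem toE_injective {Y : Over T'} {u v : Y ⟶ E'} (h : toE γ ε u = toE γ ε v) : u = v := by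
  have h1 := (bcEquiv γ Y E).symm.injective h
  rwa [cancel_mono] at h1

theorem toE_comp {Y Y' : Over T'} (t : Y' ⟶ Y) (u : Y ⟶ E') :
    toE γ ε (t ≫ u) = (Over.map γ).map t ≫ toE γ ε u := by
  rw [toE, toE, Category.assoc, comp_bcEquiv_symm]

theorem toE_left {Y : Over T'} (u : Y ⟶ E') :
    (toE γ ε u).left = u.left ≫ ε.hom.left ≫ pullback.fst E.hom γ := by
  rw [toE, bcEquiv, Adjunction.homEquiv_counit]
  simp

theorem toE_mul [GrpObj E] [GrpObj E'] [IsMonHom ε.hom] {Y : Over T'} (u v : Y ⟶ E') :
    toE γ ε (u * v) = toE γ ε u * toE γ ε v := by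
  rw [toE, MonObj.mul_comp]
  exact (bcMulEquiv γ Y E).symm.map_mul _ _

theorem toE_one [GrpObj E] [GrpObj E'] [IsMonHom ε.hom] {Y : Over T'} :
    toE γ ε (1 : Y ⟶ E') = 1 := by
  have h : toE γ ε (1 : Y ⟶ E') * toE γ ε (1 : Y ⟶ E') = toE γ ε (1 : Y ⟶ E') := by
    rw [← toE_mul, one_mul]
  exact mul_eq_left.1 h

theorem toE_inv [GrpObj E] [GrpObj E'] [IsMonHom ε.hom] {Y : Over T'} (u : Y ⟶ E') :
    toE γ ε (u⁻¹) = (toE γ ε u)⁻¹ := by
  rw [eq_inv_iff_mul_eq_one, ← toE_mul, inv_mul_cancel, toE_one]

end toE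

section square

variable {R R' : Type u} [CommRing R] [IsDomain R] [CommRing R'] [IsDomain R']
  {g : Spec (CommRingCat.of R') ⟶ Spec (CommRingCat.of R)}
  {γ : Spec (CommRingCat.of (FractionRing R')) ⟶ Spec (CommRingCat.of (FractionRing R))}
  (hγ : γ ≫ Neron.genPt R = Neron.genPt R' ≫ g)
  {X : Over (Spec (CommRingCat.of R))} {X' : Over (Spec (CommRingCat.of R'))}
  {q : X'.left ⟶ X.left} (hq : IsPullback q X'.hom X.hom g)

/-- The projection of generic fibres. -/
noncomputable def proj : ((Neron.genericFibre R').obj X').left ⟶ ((Neron.genericFibre R).obj X).left :=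
  (isPullback_genι X).lift (genι X' ≫ q) (((Neron.genericFibre R').obj X').hom ≫ γ) (by
    rw [Category.assoc, hq.w, Category.assoc, hγ, ← Category.assoc, ← Category.assoc,
      (isPullback_genι X').w])

theorem proj_genι : proj hγ hq ≫ genι X = genι X' ≫ q := (isPullback_genι X).lift_fst _ _ _

theorem proj_hom : proj hγ hq ≫ ((Neron.genericFibre R).obj X).hom =
    ((Neron.genericFibre R').obj X').hom ≫ γ := (isPullback_genι X).lift_snd _ _ _

theorem isPullback_proj : IsPullback (proj hγ hq) ((Neron.genericFibre R').obj X').hom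
    ((Neron.genericFibre R).obj X).hom γ := by
  refine IsPullback.of_right (h₁₂ := genι X) (v₁₃ := X.hom) (h₂₂ := Neron.genPt R) ?_ (proj_hom hγ hq)
    (isPullback_genι X)
  rw [proj_genι, hγ]
  exact (isPullback_genι X').paste_horiz hq

/-- The generic fibre of the base change is the base change of the generic fibre. -/
noncomputable def epsIso : (Neron.genericFibre R').obj X' ≅ Red.bc γ ((Neron.genericFibre R).obj X) :=
  Over.isoMk ((isPullback_proj hγ hq).isoPullback) (IsPullback.isoPullback_hom_snd _)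

theorem epsIso_fst : (epsIso hγ hq).hom.left ≫ pullback.fst ((Neron.genericFibre R).obj X).hom γ =
    proj hγ hq := IsPullback.isoPullback_hom_fst _

/-- A point of the generic fibre of the base change as a point of the generic fibre. -/
noncomputable abbrev toX {Y : Over (Spec (CommRingCat.of (FractionRing R')))}
    (u : Y ⟶ (Neron.genericFibre R').obj X') : (Over.map γ).obj Y ⟶ (Neron.genericFibre R).obj X :=
  toE γ (epsIso hγ hq) u

theorem toX_left {Y : Over (Spec (CommRingCat.of (FractionRing R')))}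
    (u : Y ⟶ (Neron.genericFibre R').obj X') : (toX hγ hq u).left = u.left ≫ proj hγ hq := by
  rw [toX, toE_left, epsIso_fst]

theorem toX_left_genι {Y : Over (Spec (CommRingCat.of (FractionRing R')))}
    (u : Y ⟶ (Neron.genericFibre R').obj X') :
    (toX hγ hq u).left ≫ genι X = u.left ≫ genι X' ≫ q := by
  rw [toX_left, Category.assoc, proj_genι]

/-- The compatibility of the group structures. -/
def IsCompat [GrpObj ((Neron.genericFibre R).obj X)] [GrpObj ((Neron.genericFibre R').obj X')] : Prop :=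
  IsMonHom (epsIso hγ hq).hom

/-- The base change has a compatible group structure. -/
theorem exists_isCompat [GrpObj ((Neron.genericFibre R).obj X)] :
    ∃ _ : GrpObj ((Neron.genericFibre R').obj X'), IsCompat hγ hq := by
  let G : GrpObj ((Neron.genericFibre R').obj X') := GrpObj.ofIso (epsIso hγ hq).symm
  refine ⟨G, ?_⟩
  change IsMonHom (epsIso hγ hq).hom
  have h1 : IsMonHom (epsIso hγ hq).symm.hom := inferInstance
  have h2 : IsMonHom (epsIso hγ hq).symm.inv := inferInstance
  exact h2


end square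

section transfer

variable {A : Type u} [CommRing A] [IsDomain A] {D V : Type u} [CommRing D] [IsDomain D] [CommRing V] [IsDomain V]
  {gD : Spec (CommRingCat.of D) ⟶ Spec (CommRingCat.of A)}
  {gV : Spec (CommRingCat.of V) ⟶ Spec (CommRingCat.of A)}
  {h : Spec (CommRingCat.of V) ⟶ Spec (CommRingCat.of D)} (hh : h ≫ gD = gV)
  {γD : Spec (CommRingCat.of (FractionRing D)) ⟶ Spec (CommRingCat.of (FractionRing A))}
  {γV : Spec (CommRingCat.of (FractionRing V)) ⟶ Spec (CommRingCat.of (FractionRing A))}
  {γ : Spec (CommRingCat.of (FractionRing V)) ⟶ Spec (CommRingCat.of (FractionRing D))}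
  (hγD : γD ≫ Neron.genPt A = Neron.genPt D ≫ gD)
  (hγV : γV ≫ Neron.genPt A = Neron.genPt V ≫ gV)
  (hγ : γ ≫ Neron.genPt D = Neron.genPt V ≫ h)
  {X : Over (Spec (CommRingCat.of A))} {XD : Over (Spec (CommRingCat.of D))} {XV : Over (Spec (CommRingCat.of V))}
  {qD : XD.left ⟶ X.left} (hqD : IsPullback qD XD.hom X.hom gD)
  {qV : XV.left ⟶ X.left} (hqV : IsPullback qV XV.hom X.hom gV)
  {q : XV.left ⟶ XD.left} (hq : IsPullback q XV.hom XD.hom h) (hqq : q ≫ qD = qV)

include hγD hγV hγ hh in
theorem gamma_comp : γ ≫ γD = γV := by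
  rw [← cancel_mono (Neron.genPt A), Category.assoc, hγD, hγV, ← Category.assoc, hγ, Category.assoc, hh]

/-- The projection of generic fibres as a morphism over the base field. -/
noncomputable def pVD : (Over.map γV).obj ((Neron.genericFibre V).obj XV) ⟶
    (Over.map γD).obj ((Neron.genericFibre D).obj XD) :=
  Over.homMk (proj hγ hq) (by
    change proj hγ hq ≫ ((Neron.genericFibre D).obj XD).hom ≫ γD = ((Neron.genericFibre V).obj XV).hom ≫ γV
    rw [← Category.assoc, proj_hom, Category.assoc, gamma_comp hh hγD hγV hγ])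

/-- The base change of an endomorphism. -/
noncomputable def bcHom (f : XD ⟶ XD) : XV ⟶ XV :=
  Over.homMk (hq.lift (q ≫ f.left) XV.hom (by rw [Category.assoc, Over.w, hq.w])) (hq.lift_snd _ _ _)

theorem bcHom_left_q (f : XD ⟶ XD) : (bcHom hq f).left ≫ q = q ≫ f.left := hq.lift_fst _ _ _

theorem bcHom_comp (f f' : XD ⟶ XD) : bcHom hq f ≫ bcHom hq f' = bcHom hq (f ≫ f') := by
  ext1
  apply hq.hom_ext
  · rw [Over.comp_left, Category.assoc, bcHom_left_q, ← Category.assoc, bcHom_left_q, bcHom_left_q,
      Over.comp_left, Category.assoc]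
  · rw [Over.w, Over.w]

theorem bcHom_id : bcHom hq (𝟙 XD) = 𝟙 XV := by
  ext1
  apply hq.hom_ext
  · rw [bcHom_left_q, Over.id_left, Over.id_left, Category.comp_id, Category.id_comp]
  · rw [Over.w, Over.w]

instance isIso_bcHom (f : XD ⟶ XD) [IsIso f] : IsIso (bcHom hq f) :=
  ⟨bcHom hq (inv f), by rw [bcHom_comp, IsIso.hom_inv_id, bcHom_id],
    by rw [bcHom_comp, IsIso.inv_hom_id, bcHom_id]⟩

include hqq in
/-- Base change of endomorphisms of generic fibres. -/
theorem toX_map_bcHom (f : XD ⟶ XD) :
    toX hγV hqV ((Neron.genericFibre V).map (bcHom hq f)) =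
      pVD hh hγD hγV hγ hq ≫ toX hγD hqD ((Neron.genericFibre D).map f) := by
  ext1
  rw [← cancel_mono (genι X), toX_left_genι, Over.comp_left, Category.assoc, toX_left_genι]
  change _ = proj hγ hq ≫ _
  rw [← Category.assoc, genι_naturality, ← Category.assoc ((Neron.genericFibre D).map f).left,
    genι_naturality, ← hqq, Category.assoc, ← Category.assoc (bcHom hq f).left, bcHom_left_q,
    ← Category.assoc (proj hγ hq), ← Category.assoc (proj hγ hq), proj_genι]
  simp only [Category.assoc]

theorem B_eq [GrpObj ((Neron.genericFibre A).obj X)] [GrpObj ((Neron.genericFibre D).obj XD)]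
    (hc : IsCompat hγD hqD)
    (a b : (Neron.genericFibre D).obj (𝟙_ (Over (Spec (CommRingCat.of D)))) ⟶ (Neron.genericFibre D).obj XD) :
    toX hγD hqD (B XD a b) = toX hγD hqD (c XD XD a) * toX hγD hqD (𝟙 _) * toX hγD hqD (c XD XD b) := by
  have : IsMonHom (epsIso hγD hqD).hom := hc
  rw [B, toX, toE_mul, toE_mul]

include hqq in
/-- The translation parameter of the big base change comes from the small one. -/
theorem toX_c (s : 𝟙_ (Over (Spec (CommRingCat.of D))) ⟶ XD)
    (a : (Neron.genericFibre V).obj (𝟙_ (Over (Spec (CommRingCat.of V)))) ⟶ (Neron.genericFibre V).obj XV)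
    (ha : a.left ≫ genι XV ≫ qV = genι (𝟙_ (Over (Spec (CommRingCat.of V)))) ≫ h ≫ s.left ≫ qD) :
    toX hγV hqV (c XV XV a) =
      pVD hh hγD hγV hγ hq ≫ toX hγD hqD (c XD XD ((Neron.genericFibre D).map s)) := by
  ext1
  rw [← cancel_mono (genι X), toX_left_genι, Over.comp_left, Category.assoc, toX_left_genι]
  change ((Neron.genericFibre V).map (toUnit XV) ≫ a).left ≫ _ =
    proj hγ hq ≫ ((Neron.genericFibre D).map (toUnit XD) ≫ (Neron.genericFibre D).map s).left ≫ _
  rw [Over.comp_left, Category.assoc, ha, ← Category.assoc, genι_naturality, Category.assoc, Over.comp_left,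
    Category.assoc, ← Category.assoc ((Neron.genericFibre D).map s).left, genι_naturality]
  rw [Category.assoc, ← Category.assoc ((Neron.genericFibre D).map (toUnit XD)).left, genι_naturality,
    Category.assoc, ← Category.assoc (proj hγ hq), proj_genι, Category.assoc]
  have e1 : (toUnit XV).left = XV.hom := by
    have := Over.w (toUnit XV)
    exact (Category.comp_id _).symm.trans this
  have e2 : (toUnit XD).left = XD.hom := by
    have := Over.w (toUnit XD)
    exact (Category.comp_id _).symm.trans this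
  rw [e1, e2, ← Category.assoc q, hq.w, Category.assoc]

include hh hγD hγV hγ hqD hqV hqq hq in
/-- **Transfer of translations**: if a translation of the generic fibre of `XD` by sections extends to `XD`, then
so does the corresponding translation for the base change `XV`. -/
theorem exists_B [GrpObj ((Neron.genericFibre A).obj X)] [GrpObj ((Neron.genericFibre D).obj XD)]
    [GrpObj ((Neron.genericFibre V).obj XV)] (hcD : IsCompat hγD hqD) (hcV : IsCompat hγV hqV)
    (s t : 𝟙_ (Over (Spec (CommRingCat.of D))) ⟶ XD)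
    (a b : (Neron.genericFibre V).obj (𝟙_ (Over (Spec (CommRingCat.of V)))) ⟶ (Neron.genericFibre V).obj XV)
    (ha : a.left ≫ genι XV ≫ qV = genι (𝟙_ (Over (Spec (CommRingCat.of V)))) ≫ h ≫ s.left ≫ qD)
    (hb : b.left ≫ genι XV ≫ qV = genι (𝟙_ (Over (Spec (CommRingCat.of V)))) ≫ h ≫ t.left ≫ qD)
    (f : XD ⟶ XD) [IsIso f]
    (hf : (Neron.genericFibre D).map f =
      B XD ((Neron.genericFibre D).map s) ((Neron.genericFibre D).map t)) :
    ∃ f' : XV ⟶ XV, IsIso f' ∧ (Neron.genericFibre V).map f' = B XV a b := by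
  refine ⟨bcHom hq f, inferInstance, ?_⟩
  apply toE_injective γV (epsIso hγV hqV)
  change toX hγV hqV _ = toX hγV hqV _
  rw [toX_map_bcHom hh hγD hγV hγ hqD hqV hq hqq, hf, B_eq hγD hqD hcD, B_eq hγV hqV hcV, MonObj.comp_mul,
    MonObj.comp_mul, toX_c hh hγD hγV hγ hqD hqV hq hqq s a ha, toX_c hh hγD hγV hγ hqD hqV hq hqq t b hb]
  congr 2
  have h1 := toX_map_bcHom hh hγD hγV hγ hqD hqV hq hqq (𝟙 XD)
  rw [bcHom_id, CategoryTheory.Functor.map_id, CategoryTheory.Functor.map_id] at h1
  exact h1.symm

include hh hγD hγV hγ hqD hqV hqq hq in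
/-- Transfer of the inverse. -/
theorem exists_inv [GrpObj ((Neron.genericFibre A).obj X)] [GrpObj ((Neron.genericFibre D).obj XD)]
    [GrpObj ((Neron.genericFibre V).obj XV)] (hcD : IsCompat hγD hqD) (hcV : IsCompat hγV hqV)
    (f : XD ⟶ XD) [IsIso f]
    (hf : (Neron.genericFibre D).map f = (𝟙 ((Neron.genericFibre D).obj XD))⁻¹) :
    ∃ f' : XV ⟶ XV, IsIso f' ∧ (Neron.genericFibre V).map f' = (𝟙 ((Neron.genericFibre V).obj XV))⁻¹ := by
  have i1 : IsMonHom (epsIso hγD hqD).hom := hcD
  have i2 : IsMonHom (epsIso hγV hqV).hom := hcV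
  refine ⟨bcHom hq f, inferInstance, ?_⟩
  apply toE_injective γV (epsIso hγV hqV)
  change toX hγV hqV _ = toX hγV hqV _
  rw [toX_map_bcHom hh hγD hγV hγ hqD hqV hq hqq, hf, toX, toX, toE_inv, toE_inv, GrpObj.comp_inv]
  congr 1
  have h1 := toX_map_bcHom hh hγD hγV hγ hqD hqV hq hqq (𝟙 XD)
  rw [bcHom_id, CategoryTheory.Functor.map_id, CategoryTheory.Functor.map_id] at h1
  exact h1.symm

end transfer

end K485.GrpBC
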