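import Groth.Agent.Neron.K485.EllGen
import Groth.Agent.Neron.K485.GrpBC
import Groth.Agent.Dix.EtMin25F

/-!
# Automorphisms of the generic fibre after an étale base change of a minimal arithmetic surface
-/

set_option autoImplicit false
universe u

open CategoryTheory CategoryTheory.Limits AlgebraicGeometry IsLocalRing

namespace K485.EtAut

open Groth.Agent.Dix Groth.Agent.Dix.GenFibre Groth.Agent.Dix.MinusCurve

/-- A relatively minimal arithmetic surface over a Dedekind domain which is not a field has no (-1)-curves. -/
theorem isEmpty_minusCurve {R : Type u} [CommRing R] [IsDedekindDomain R] (hR : ¬ IsField R)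
    {X : Over (Spec (CommRingCat.of R))} (hX : ArSurf.IsArithSurface R X)
    (hmin : Neron.IsRelMinimalRegularModel R X) : IsEmpty (MinusCurve X.left) := by
  refine MinimalUnique.isEmpty_minusCurve hR hmin ?_
  intro k _ ι _ heff hdeg
  obtain ⟨Y, f, y, hy, h1, h2, -, h4⟩ := CastMain.wp5 R X hX k ι heff hdeg
  exact ⟨Y, f, y, hy, h1, h2, h4⟩

/-- Arithmetic surfaces without (-1)-curves: isomorphisms of generic fibres extend. -/
theorem existsUnique_extend {R : Type u} [CommRing R] [IsDedekindDomain R]
    (X₁ X₂ : Over (Spec (CommRingCat.of R))) (h₁ : ArSurf.IsArithSurface R X₁) (h₂ : ArSurf.IsArithSurface R X₂)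
    (e₁ : IsEmpty (MinusCurve X₁.left)) (e₂ : IsEmpty (MinusCurve X₂.left))
    [GeometricallyIrreducible ((Neron.genericFibre R).obj X₁).hom]
    [GeometricallyReduced ((Neron.genericFibre R).obj X₁).hom]
    (hg : Nontrivial (Coh.HH ((Neron.genericFibre R).obj X₁).left (Coh.structureModule _) 1))
    (φ : (Neron.genericFibre R).obj X₁ ≅ (Neron.genericFibre R).obj X₂) :
    ∃! f : X₁ ⟶ X₂, IsIso f ∧ (Neron.genericFibre R).map f = φ.hom :=
  MinimalUnique.existsUnique X₁ X₂ h₁ h₂ (EtMin25F.isRelMinimal_of_isEmpty h₁ e₁) (fun _ => e₂) hg φ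

section

variable {A D : Type u} [CommRing A] [IsDedekindDomain A] [CommRing D] [IsDedekindDomain D]
  [Algebra A D] [Algebra.Etale A D]
  (hsurj : Function.Surjective (PrimeSpectrum.comap (algebraMap A D)))
  (hA : ¬ IsField A) (hD : ¬ IsField D)
  (X : Over (Spec (CommRingCat.of A))) (hX : ArSurf.IsArithSurface A X) (he : IsEmpty (MinusCurve X.left))
  [GeometricallyIrreducible ((Neron.genericFibre A).obj X).hom]
  (hg : Nontrivial (Coh.HH ((Neron.genericFibre A).obj X).left (Coh.structureModule _) 1))

/-- The fraction fields of a base change. -/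
theorem exists_gamma (A S : Type u) [CommRing A] [IsDomain A] [CommRing S] [IsDomain S]
    (φ : A →+* S) (hφ : Function.Injective φ) :
    ∃ γ : Spec (CommRingCat.of (FractionRing S)) ⟶ Spec (CommRingCat.of (FractionRing A)),
      γ ≫ Neron.genPt A = Neron.genPt S ≫ Spec.map (CommRingCat.ofHom φ) := by
  have hinj' : Function.Injective ((algebraMap S (FractionRing S)).comp φ) :=
    (IsFractionRing.injective S (FractionRing S)).comp hφ
  let j : FractionRing A →+* FractionRing S :=
    IsFractionRing.lift (A := A) (g := (algebraMap S (FractionRing S)).comp φ) hinj'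
  refine ⟨Spec.map (CommRingCat.ofHom j), ?_⟩
  rw [Neron.genPt, Neron.genPt, ← Spec.map_comp, ← Spec.map_comp]
  congr 1
  apply CommRingCat.hom_ext
  apply RingHom.ext
  intro a
  change j (algebraMap A (FractionRing A) a) = algebraMap S (FractionRing S) (φ a)
  exact IsFractionRing.lift_algebraMap hinj' a

omit [IsDedekindDomain A] [IsDedekindDomain D] [Algebra.Etale A D] in
theorem geometricallyIrreducible_baseChange [IsDomain A] [IsDomain D]
    (hinj : Function.Injective (algebraMap A D)) :
    GeometricallyIrreducible ((Neron.genericFibre D).obj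
      ((Over.pullback (Spec.map (CommRingCat.ofHom (algebraMap A D)))).obj X)).hom := by
  obtain ⟨γ, hγ⟩ := exists_gamma A D (algebraMap A D) hinj
  have h1 := GrpBC.isPullback_proj hγ (X := X)
    (X' := (Over.pullback (Spec.map (CommRingCat.ofHom (algebraMap A D)))).obj X)
    (IsPullback.of_hasPullback X.hom (Spec.map (CommRingCat.ofHom (algebraMap A D))))
  exact MorphismProperty.of_isPullback h1 inferInstance

omit [GeometricallyIrreducible ((Neron.genericFibre A).obj X).hom]
  [IsDedekindDomain A] [IsDedekindDomain D] [Algebra.Etale A D] in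
theorem smooth_baseChange [IsDomain A] [IsDomain D]
    (hinj : Function.Injective (algebraMap A D)) [Smooth ((Neron.genericFibre A).obj X).hom] :
    Smooth ((Neron.genericFibre D).obj
      ((Over.pullback (Spec.map (CommRingCat.ofHom (algebraMap A D)))).obj X)).hom := by
  obtain ⟨γ, hγ⟩ := exists_gamma A D (algebraMap A D) hinj
  have h1 := GrpBC.isPullback_proj hγ (X := X)
    (X' := (Over.pullback (Spec.map (CommRingCat.ofHom (algebraMap A D)))).obj X)
    (IsPullback.of_hasPullback X.hom (Spec.map (CommRingCat.ofHom (algebraMap A D))))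
  exact MorphismProperty.of_isPullback h1 inferInstance

include hsurj hX in
theorem isArithSurface : ArSurf.IsArithSurface D
    ((Over.pullback (Spec.map (CommRingCat.ofHom (algebraMap A D)))).obj X) := by
  have hinj : Function.Injective (algebraMap A D) := FaithfulSMul.algebraMap_injective A D
  have h1 := geometricallyIrreducible_baseChange X hinj
  have h2 : Flat ((Over.pullback (Spec.map (CommRingCat.ofHom (algebraMap A D)))).obj X).hom := by
    have := hX.2.2.2.1
    exact inferInstanceAs (Flat (pullback.snd X.hom _))
  have h3 : IrreducibleSpace ((Neron.genericFibre D).obj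
      ((Over.pullback (Spec.map (CommRingCat.ofHom (algebraMap A D)))).obj X)).left :=
    GeometricallyIrreducible.irreducibleSpace_of_subsingleton ((Neron.genericFibre D).obj
      ((Over.pullback (Spec.map (CommRingCat.ofHom (algebraMap A D)))).obj X)).hom
  have h4 := NeronEllB.isIntegral_left ((Over.pullback (Spec.map (CommRingCat.ofHom (algebraMap A D)))).obj X)
    (EtMin25A.isRegularLocalRing_stalk_of_etale
      (pullback.fst X.hom (Spec.map (CommRingCat.ofHom (algebraMap A D)))) hX.1)
  exact EtMin25A.isArithSurface_baseChange hsurj X hX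

include hsurj hA hD hX he hg in
/-- Automorphisms of the generic fibre of an étale base change extend. -/
theorem exists_extend [Smooth ((Neron.genericFibre A).obj X).hom]
    (φ : (Neron.genericFibre D).obj ((Over.pullback (Spec.map (CommRingCat.ofHom (algebraMap A D)))).obj X) ≅
      (Neron.genericFibre D).obj ((Over.pullback (Spec.map (CommRingCat.ofHom (algebraMap A D)))).obj X)) :
    ∃ f : (Over.pullback (Spec.map (CommRingCat.ofHom (algebraMap A D)))).obj X ⟶
        (Over.pullback (Spec.map (CommRingCat.ofHom (algebraMap A D)))).obj X,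
      IsIso f ∧ (Neron.genericFibre D).map f = φ.hom := by
  have hinj : Function.Injective (algebraMap A D) := FaithfulSMul.algebraMap_injective A D
  have hXs := MinimalUnique.isRegSurf_of_isArithSurface hX
  have := hXs.isIntegral
  have := hXs.proper
  have := hXs.flat
  have h1 := geometricallyIrreducible_baseChange X hinj
  have h2 := smooth_baseChange X hinj
  have h3 := NeronEllAut.geometricallyReduced_of_smooth ((Neron.genericFibre D).obj
      ((Over.pullback (Spec.map (CommRingCat.ofHom (algebraMap A D)))).obj X)).hom
  have hX' := isArithSurface hsurj X hX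
  have he' : IsEmpty (MinusCurve ((Over.pullback (Spec.map (CommRingCat.ofHom (algebraMap A D)))).obj X).left) :=
    ⟨fun E => by
      obtain ⟨F, -⟩ := EtMin25E.exists_minusCurve_descends (R' := D) hA hD X hXs hg E
      exact he.false F⟩
  have hg' := EtMinDisj625.nontrivial_genericFibre (S := D) X.hom hg
    (Spec.map (CommRingCat.ofHom (algebraMap A D)))
  exact (existsUnique_extend _ _ hX' hX' he' he' hg' φ).exists

end

end K485.EtAut
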