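import Groth.Agent.S1973
import Groth.Agent.Pi1C.StrictHensWE
import Groth.Agent.Flat2D.DimMap
import Groth.Agent.Desc.LQF
import Mathlib.RingTheory.Etale.Basic
import Mathlib.AlgebraicGeometry.Morphisms.Etale

/-!
# Morphisms to a strict henselization of a discrete valuation ring factor through étale Dedekind algebras
-/

set_option autoImplicit false
universe u

open CategoryTheory CategoryTheory.Limits AlgebraicGeometry IsLocalRing

namespace K485.EtFactor

/-- An étale algebra over a Dedekind domain with a map to a domain: the map factors through a quotient which is an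
étale Dedekind domain. -/
theorem exists_factor_dedekind (A B V : Type u) [CommRing A] [IsDedekindDomain A] [CommRing B] [Algebra A B]
    [Algebra.Etale A B] [CommRing V] [IsDomain V] [Algebra A V] (χ : B →ₐ[A] V) :
    ∃ (D : Type u) (_ : CommRing D) (_ : IsDedekindDomain D) (_ : Algebra A D) (_ : Algebra.Etale A D)
      (π : B →ₐ[A] D) (χ' : D →ₐ[A] V), χ'.comp π = χ := by
  have hnoeth : IsNoetherianRing B := Algebra.FiniteType.isNoetherianRing A B
  obtain ⟨n, p, hp, hco, hinf⟩ := Groth.Agent.S1973.exists_decomposition B fun m _ =>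
      (Groth.Agent.S1973.isDVR_of_etale_dedekind A B m).1
  let e0 : B ≃ₐ[A] ∀ i, B ⧸ p i := AlgEquiv.ofBijective
    (AlgHom.pi fun i => Ideal.Quotient.mkₐ A (p i)) (by
      constructor
      · rw [injective_iff_map_eq_zero]
        intro x hx
        have h1 : x ∈ ⨅ i, p i := by
          rw [Ideal.mem_iInf]
          intro i
          exact Ideal.Quotient.eq_zero_iff_mem.mp (congrFun hx i)
        rw [hinf] at h1
        exact h1
      · intro y
        obtain ⟨x, hx⟩ := Ideal.pi_quotient_surjective hco y
        exact ⟨x, funext fun i => hx i⟩)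
  have hfe : Algebra.FormallyEtale A (∀ i, B ⧸ p i) := Algebra.FormallyEtale.of_equiv e0
  have hfe' : ∀ i, Algebra.FormallyEtale A (B ⧸ p i) := (Algebra.FormallyEtale.pi_iff _).mp hfe
  have hker : (RingHom.ker (χ : B →+* V)).IsPrime := RingHom.ker_isPrime _
  have hle : ⨅ i, p i ≤ RingHom.ker (χ : B →+* V) := by
    rw [hinf]
    exact bot_le
  obtain ⟨i, hi⟩ : ∃ i, p i ≤ RingHom.ker (χ : B →+* V) := by
    by_contra hcon
    push Not at hcon
    have h1 : ∀ i, ∃ x ∈ p i, x ∉ RingHom.ker (χ : B →+* V) := fun i => Set.not_subset.1 (hcon i)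
    choose x hx hx' using h1
    have h2 : ∏ i, x i ∈ ⨅ i, p i := by
      rw [Ideal.mem_iInf]
      intro i
      exact Ideal.mem_of_dvd _ (Finset.dvd_prod_of_mem x (Finset.mem_univ i)) (hx i)
    have h3 := hle h2
    rw [hker.prod_mem_iff] at h3
    obtain ⟨i, -, h4⟩ := h3
    exact hx' i h4
  have := hp i
  have hft : Algebra.FiniteType A (B ⧸ p i) := inferInstance
  have hfp : Algebra.FinitePresentation A (B ⧸ p i) :=
    Algebra.FinitePresentation.of_finiteType.mp hft
  have het : Algebra.Etale A (B ⧸ p i) := ⟨hfe' i, hfp⟩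
  have hno : IsNoetherianRing (B ⧸ p i) := inferInstance
  have : IsDedekindDomainDvr (B ⧸ p i) :=
    { toIsNoetherian := hno
      is_dvr_at_nonzero_prime := fun P hP hPp =>
        (Groth.Agent.S1973.isDVR_of_etale_dedekind A (B ⧸ p i) P).2
          (IsLocalization.AtPrime.not_isField (B ⧸ p i) hP _) }
  refine ⟨B ⧸ p i, inferInstance, inferInstance, inferInstance, het, Ideal.Quotient.mkₐ A (p i),
    Ideal.Quotient.liftₐ (p i) χ (fun a ha => hi ha), ?_⟩
  ext x
  rfl

/-- An injective-on-the-base map out of an étale domain is injective. -/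
theorem injective_of_etale (A D V : Type u) [CommRing A] [IsDomain A] [CommRing D] [IsDomain D] [Algebra A D]
    [Algebra.Etale A D] [CommRing V] [IsDomain V] [Algebra A V] (hV : Function.Injective (algebraMap A V))
    (χ : D →ₐ[A] V) : Function.Injective χ := by
  have : Etale (Spec.map (CommRingCat.ofHom (algebraMap A D))) := by
    rw [HasRingHomProperty.Spec_iff (P := @Etale)]
    exact RingHom.etale_algebraMap.2 inferInstance
  have hq : LocallyQuasiFinite (Spec.map (CommRingCat.ofHom (algebraMap A D))) :=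
    Groth.Agent.Desc.LQF.of_etale _
  have hker : (RingHom.ker (χ : D →+* V)).IsPrime := RingHom.ker_isPrime _
  have hD : Function.Injective (algebraMap A D) := by
    intro a b hab
    apply hV
    rw [← χ.commutes, ← χ.commutes, hab]
  have h3 := Groth.Agent.Flat2D.DimMap.eq_of_specializes_of_locallyQuasiFinite
    (Spec.map (CommRingCat.ofHom (algebraMap A D)))
    (⟨⊥, Ideal.isPrime_bot⟩ : Spec (CommRingCat.of D)) ⟨RingHom.ker (χ : D →+* V), hker⟩
    ((PrimeSpectrum.le_iff_specializes _ _).mp bot_le) (by
      apply PrimeSpectrum.ext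
      change Ideal.comap (algebraMap A D) ⊥ = Ideal.comap (algebraMap A D) (RingHom.ker (χ : D →+* V))
      have h1 : Ideal.comap (algebraMap A D) ⊥ = ⊥ := (RingHom.injective_iff_ker_eq_bot _).mp hD
      rw [h1, RingHom.comap_ker]
      have h2 : (χ : D →+* V).comp (algebraMap A D) = algebraMap A V := χ.comp_algebraMap
      rw [h2]
      exact ((RingHom.injective_iff_ker_eq_bot _).mp hV).symm)
  have h4 : RingHom.ker (χ : D →+* V) = ⊥ := (congrArg PrimeSpectrum.asIdeal h3).symm
  exact (RingHom.injective_iff_ker_eq_bot (χ : D →+* V)).mpr h4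

/-- A map from a finitely presented algebra to a strict henselization of a discrete valuation ring factors through
an étale Dedekind domain with surjective spectrum. -/
theorem exists_etale_factor (A V : Type u) [CommRing A] [IsDomain A] [IsDiscreteValuationRing A] [CommRing V]
    [IsDomain V] [IsLocalRing V] [Algebra A V] [IsLocalHom (algebraMap A V)] [Hensel.IsStrictHenselization A V]
    (hV : Function.Injective (algebraMap A V))
    (P : Type u) [CommRing P] [Algebra A P] [Algebra.FinitePresentation A P] (φ : P →ₐ[A] V) :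
    ∃ (D : Type u) (_ : CommRing D) (_ : IsDedekindDomain D) (_ : Algebra A D) (_ : Algebra.Etale A D)
      (ψ : P →ₐ[A] D) (χ : D →ₐ[A] V), χ.comp ψ = φ ∧ Function.Injective χ ∧
        Function.Surjective (PrimeSpectrum.comap (algebraMap A D)) := by
  obtain ⟨E, _, _, _, ψ, χ, h⟩ := Groth.Agent.Pi1C.StrictHensWE.lazard_of_isStrictHenselization A V P φ
  obtain ⟨D, _, _, _, _, π, χ', h'⟩ := exists_factor_dedekind A E V χ
  refine ⟨D, inferInstance, inferInstance, inferInstance, inferInstance, π.comp ψ, χ', ?_,
    injective_of_etale A D V hV χ', ?_⟩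
  · rw [← h, ← h', AlgHom.comp_assoc]
  · intro p
    have hD : Function.Injective (algebraMap A D) := by
      intro a b hab
      apply hV
      rw [← χ'.commutes, ← χ'.commutes, hab]
    by_cases hp : p.asIdeal = ⊥
    · refine ⟨⟨⊥, Ideal.isPrime_bot⟩, PrimeSpectrum.ext ?_⟩
      rw [hp]
      exact (RingHom.injective_iff_ker_eq_bot _).mp hD
    · have hpm : p.asIdeal = maximalIdeal A := eq_maximalIdeal (p.2.isMaximal hp)
      refine ⟨⟨(maximalIdeal V).comap (χ' : D →+* V), inferInstance⟩, PrimeSpectrum.ext ?_⟩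
      change Ideal.comap (algebraMap A D) ((maximalIdeal V).comap (χ' : D →+* V)) = p.asIdeal
      rw [hpm, Ideal.comap_comap]
      have h2 : (χ' : D →+* V).comp (algebraMap A D) = algebraMap A V := χ'.comp_algebraMap
      rw [h2]
      have h5 : IsLocalHom (algebraMap A V) := inferInstance
      exact (((IsLocalRing.local_hom_TFAE (algebraMap A V)).out 0 4).mp h5)

/-- Points of a scheme with values in a strict henselization of a discrete valuation ring factor through étale
Dedekind domains. -/
theorem exists_etale_factor_scheme (A V : Type u) [CommRing A] [IsDomain A] [IsDiscreteValuationRing A]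
    [CommRing V] [IsDomain V] [IsLocalRing V] [Algebra A V] [IsLocalHom (algebraMap A V)]
    [Hensel.IsStrictHenselization A V] (hV : Function.Injective (algebraMap A V))
    {Z : Scheme.{u}} (z : Z ⟶ Spec (CommRingCat.of A)) [LocallyOfFinitePresentation z]
    (s : Spec (CommRingCat.of V) ⟶ Z) (hs : s ≫ z = Spec.map (CommRingCat.ofHom (algebraMap A V))) :
    ∃ (D : Type u) (_ : CommRing D) (_ : IsDedekindDomain D) (_ : Algebra A D) (_ : Algebra.Etale A D)
      (χ : D →ₐ[A] V) (t : Spec (CommRingCat.of D) ⟶ Z), Function.Injective χ ∧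
        Function.Surjective (PrimeSpectrum.comap (algebraMap A D)) ∧
        t ≫ z = Spec.map (CommRingCat.ofHom (algebraMap A D)) ∧
        Spec.map (CommRingCat.ofHom χ.toRingHom) ≫ t = s := by
  obtain ⟨W, hW, hxW, -⟩ := exists_isAffineOpen_mem_and_subset (X := Z) (U := ⊤) (x := s (closedPoint V)) trivial
  have hr : ∀ y, s y ∈ W := by
    have h1 : s ⁻¹ᵁ W = ⊤ := (IsLocalRing.closed_point_mem_iff (U := s ⁻¹ᵁ W)).mp hxW
    intro y
    have h2 : y ∈ s ⁻¹ᵁ W := by rw [h1]; trivial
    exact h2
  -- the affine chart as the spectrum of a finitely presented algebra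
  let i := hW.fromSpec
  let θ : CommRingCat.of A ⟶ Γ(Z, W) := Spec.preimage (i ≫ z)
  have hθ : Spec.map θ = i ≫ z := Spec.map_preimage _
  let _ : Algebra A Γ(Z, W) := θ.hom.toAlgebra
  have hfp : Algebra.FinitePresentation A Γ(Z, W) := by
    have h1 : LocallyOfFinitePresentation (Spec.map θ) := by rw [hθ]; infer_instance
    rw [HasRingHomProperty.Spec_iff (P := @LocallyOfFinitePresentation)] at h1
    exact h1
  let s' : Spec (CommRingCat.of V) ⟶ Spec Γ(Z, W) := IsOpenImmersion.lift i s (by
    rw [hW.range_fromSpec]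
    rintro _ ⟨y, rfl⟩
    exact hr y)
  have hs' : s' ≫ i = s := IsOpenImmersion.lift_fac _ _ _
  let φ₀ : Γ(Z, W) ⟶ CommRingCat.of V := Spec.preimage s'
  have hφ₀ : Spec.map φ₀ = s' := Spec.map_preimage _
  have hcomp : θ ≫ φ₀ = CommRingCat.ofHom (algebraMap A V) := by
    apply Spec.map_injective
    rw [Spec.map_comp, hφ₀, hθ, ← Category.assoc, hs', hs]
  let φ : Γ(Z, W) →ₐ[A] V :=
    { φ₀.hom with
      commutes' := fun r => by
        have := congr($(hcomp).hom r)
        exact this }
  obtain ⟨D, _, _, _, _, ψ, χ, h1, h2, h3⟩ := exists_etale_factor A V hV Γ(Z, W) φ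
  refine ⟨D, inferInstance, inferInstance, inferInstance, inferInstance, χ,
    Spec.map (CommRingCat.ofHom ψ.toRingHom) ≫ i, h2, h3, ?_, ?_⟩
  · rw [Category.assoc, ← hθ, ← Spec.map_comp]
    congr 1
    ext r
    exact ψ.commutes r
  · have h4 : Spec.map (CommRingCat.ofHom χ.toRingHom) ≫ Spec.map (CommRingCat.ofHom ψ.toRingHom) = s' := by
      rw [← Spec.map_comp, ← hφ₀]
      congr 1
      ext r
      exact congr($h1 r)
    rw [← Category.assoc, h4, hs']

end K485.EtFactor
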