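import Groth.Agent.Neron.K485.MapProp
import Groth.Agent.S13749
import Groth.Agent.Dix.GenOpen
import Groth.Agent.Dix.NeronEllA

/-!
# The mapping property of the smooth part descends along faithfully flat extensions of discrete valuation rings
-/

set_option autoImplicit false
universe u

open CategoryTheory CategoryTheory.Limits AlgebraicGeometry IsLocalRing

namespace K485.SmDesc

open K485.MapProp Groth.Agent.Dix.GenOpen Groth.Agent.Dix.NeronEllA

/-- The mapping property only depends on the target up to isomorphism. -/
theorem bijective_of_iso_target {C D : Type*} [Category* C] [Category* D] (F : C ⥤ D) {Y N N' : C} (e : N ≅ N')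
    (h : Function.Bijective (fun f : Y ⟶ N => F.map f)) :
    Function.Bijective (fun f : Y ⟶ N' => F.map f) := by
  constructor
  · intro f f' hff
    have h1 : F.map (f ≫ e.inv) = F.map (f' ≫ e.inv) := by
      rw [F.map_comp, F.map_comp]
      exact congrArg (· ≫ F.map e.inv) hff
    have h2 := h.1 h1
    rwa [cancel_mono] at h2
  · intro g
    obtain ⟨f, hf⟩ := h.2 (g ≫ F.map e.inv)
    refine ⟨f ≫ e.hom, ?_⟩
    change F.map (f ≫ e.hom) = g
    rw [F.map_comp]
    rw [show F.map f = g ≫ F.map e.inv from hf, Category.assoc, ← F.map_comp, e.inv_hom_id, F.map_id,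
      Category.comp_id]

/-- The mapping property only depends on the generic point up to isomorphism. -/
theorem bijective_congr_gen {S T T' : Scheme.{u}} (j : T ⟶ S) (j' : T' ⟶ S) (e : T' ≅ T) (he : e.hom ≫ j = j')
    (Y N : Over S) :
    Function.Bijective (fun f : Y ⟶ N => (Over.pullback j).map f) ↔
      Function.Bijective (fun f : Y ⟶ N => (Over.pullback j').map f) := by
  rw [bijective_pullback_map_iff, bijective_pullback_map_iff]
  let e' : pullback Y.hom j' ≅ pullback Y.hom j :=
    asIso (pullback.map Y.hom j' Y.hom j (𝟙 _) e.hom (𝟙 _) (by rw [Category.comp_id, Category.id_comp])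
      (by rw [Category.comp_id, he]))
  have h1 : e'.hom ≫ pullback.fst Y.hom j = pullback.fst Y.hom j' :=
    (pullback.lift_fst _ _ _).trans (Category.comp_id _)
  rw [resInj_congr e' h1, resSurj_congr e' h1]

/-- Open immersions with the same range give the same mapping property. -/
theorem bijective_congr_range {S T T' : Scheme.{u}} (j : T ⟶ S) (j' : T' ⟶ S) [IsOpenImmersion j]
    [IsOpenImmersion j'] (h : Set.range j' = Set.range j) (Y N : Over S) :
    Function.Bijective (fun f : Y ⟶ N => (Over.pullback j).map f) ↔
      Function.Bijective (fun f : Y ⟶ N => (Over.pullback j').map f) :=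
  bijective_congr_gen j j' (IsOpenImmersion.isoOfRangeEq j' j h) (IsOpenImmersion.isoOfRangeEq_hom_fac j' j h) Y N

/-- The smooth part of a flat base change is the base change of the smooth part. -/
theorem exists_iso_smoothPart {A V : Type u} [CommRing A] [IsDomain A] [CommRing V] [IsDomain V]
    (g : Spec (CommRingCat.of V) ⟶ Spec (CommRingCat.of A)) [Flat g]
    (X : Over (Spec (CommRingCat.of A))) [LocallyOfFinitePresentation X.hom]
    [LocallyOfFinitePresentation ((Over.pullback g).obj X).hom] :
    Nonempty (Neron.smoothPart V ((Over.pullback g).obj X) ≅ (Over.pullback g).obj (Neron.smoothPart A X)) := by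
  let X' := (Over.pullback g).obj X
  have hX' : IsPullback (pullback.fst X.hom g) X'.hom X.hom g := IsPullback.of_hasPullback _ _
  let i : (Over.pullback g).obj (Neron.smoothPart A X) ⟶ X' := (Over.pullback g).map (smoothPartι A X)
  let i' : Neron.smoothPart V X' ⟶ X' := smoothPartι V X'
  have hi1 : i.left ≫ pullback.fst X.hom g = pullback.fst (Neron.smoothPart A X).hom g ≫ (smoothPartι A X).left :=
    pullback.lift_fst _ _ _
  have hi2 : i.left ≫ X'.hom = ((Over.pullback g).obj (Neron.smoothPart A X)).hom := Over.w i
  have hpb : IsPullback i.left (pullback.fst (Neron.smoothPart A X).hom g) (pullback.fst X.hom g)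
      (smoothPartι A X).left := by
    refine (IsPullback.of_bot (v₂₁ := X'.hom) (v₂₂ := X.hom) (h₃₁ := g) ?_ hi1.symm hX').flip
    rw [hi2, Over.w]
    exact IsPullback.of_hasPullback _ _
  have ho : IsOpenImmersion i.left := MorphismProperty.of_isPullback hpb.flip inferInstance
  have hr : Set.range i'.left = Set.range i.left := by
    rw [range_smoothPartι]
    ext x
    have h1 : x ∈ X'.hom.smoothLocus ↔ pullback.fst X.hom g x ∈ X.hom.smoothLocus :=
      Groth.Agent.Smoothlim.SmoothLocusBC.mem_smoothLocus_iff_of_isPullback hX' x (Or.inr ‹_›)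
    have h2 : pullback.fst X.hom g x ∈ X.hom.smoothLocus ↔
        pullback.fst X.hom g x ∈ Set.range (smoothPartι A X).left := by
      rw [range_smoothPartι]
      rfl
    refine (h1.trans h2).trans ?_
    constructor
    · rintro ⟨y, hy⟩
      obtain ⟨z, hz, -⟩ := Scheme.exists_preimage_of_isPullback hpb x y hy.symm
      exact ⟨z, hz⟩
    · rintro ⟨z, rfl⟩
      refine ⟨pullback.fst (Neron.smoothPart A X).hom g z, ?_⟩
      rw [← Scheme.Hom.comp_apply, ← Scheme.Hom.comp_apply, hi1]
  let e := IsOpenImmersion.isoOfRangeEq i'.left i.left hr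
  exact ⟨Over.isoMk e (by
    rw [← hi2, ← Category.assoc, IsOpenImmersion.isoOfRangeEq_hom_fac, Over.w])⟩

/-- A nonempty open subscheme of an integral scheme is schematically dense. -/
theorem isSchematicallyDense {X : Scheme.{u}} [IsIntegral X] (U : X.Opens) (hU : (U : Set X).Nonempty) :
    CInt.IsSchematicallyDense U := by
  intro V
  by_cases hV : (V : Set X).Nonempty
  · have h1 : Nonempty ((V ⊓ U : X.Opens) : Scheme.{u}) := by
      obtain ⟨x, hx⟩ := nonempty_preirreducible_inter V.2 U.2 hV hU
      exact ⟨⟨x, hx⟩⟩
    exact map_injective_of_isIntegral X (homOfLE (inf_le_left : V ⊓ U ≤ V))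
  · rw [Set.not_nonempty_iff_eq_empty] at hV
    have h1 : V = ⊥ := by
      ext1
      exact hV
    subst h1
    intro a b _
    have : Subsingleton Γ(X, ⊥) := inferInstance
    exact Subsingleton.elim _ _

/-- **Descent of the mapping property** of the smooth part along a flat local extension of discrete valuation
rings. -/
theorem bijective_of_baseChange {A V : Type u} [CommRing A] [IsDomain A] [IsDiscreteValuationRing A] [CommRing V]
    [IsDomain V] [IsDiscreteValuationRing V] (φ : A →+* V) [IsLocalHom φ] (hφ : Function.Injective φ)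
    (X : Over (Spec (CommRingCat.of A))) [LocallyOfFinitePresentation X.hom] [IsSeparated X.hom]
    [QuasiCompact X.hom]
    [LocallyOfFinitePresentation ((Over.pullback (Spec.map (CommRingCat.ofHom φ))).obj X).hom]
    (h : ∀ Y : Over (Spec (CommRingCat.of V)), Smooth Y.hom → Function.Bijective
      (fun f : Y ⟶ Neron.smoothPart V ((Over.pullback (Spec.map (CommRingCat.ofHom φ))).obj X) =>
        (Neron.genericFibre V).map f))
    (Y : Over (Spec (CommRingCat.of A))) (hY : Smooth Y.hom) :
    Function.Bijective (fun f : Y ⟶ Neron.smoothPart A X => (Neron.genericFibre A).map f) := by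
  let g : Spec (CommRingCat.of V) ⟶ Spec (CommRingCat.of A) := Spec.map (CommRingCat.ofHom φ)
  have hφf : φ.Flat := by
    algebraize [φ]
    have : FaithfulSMul A V := (faithfulSMul_iff_algebraMap_injective A V).2 hφ
    exact (inferInstance : Module.Flat A V)
  have hgf : Flat g := by
    rw [HasRingHomProperty.Spec_iff (P := @Flat)]
    exact hφf
  have hcl : g (closedPoint V) = closedPoint A := by
    apply PrimeSpectrum.ext
    exact ((IsLocalRing.local_hom_TFAE φ).out 0 4).mp ‹IsLocalHom φ›
  have hgen : ∀ x : Spec (CommRingCat.of V), x ≠ closedPoint V → g x ≠ closedPoint A := by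
    intro x hx hgx
    have h1 : x.asIdeal = ⊥ := eq_bot_of_ne_closedPoint V x hx
    have h2 : (g x).asIdeal = ⊥ := by
      change Ideal.comap φ x.asIdeal = ⊥
      rw [h1]
      exact (RingHom.injective_iff_ker_eq_bot _).mp hφ
    rw [hgx] at h2
    exact IsDiscreteValuationRing.not_a_field A h2
  have hgs : Surjective g := by
    refine ⟨fun y => ?_⟩
    by_cases hy : y = closedPoint A
    · exact ⟨closedPoint V, by rw [hcl, hy]⟩
    · have h1 : y.asIdeal = ⊥ := eq_bot_of_ne_closedPoint A y hy
      refine ⟨(⟨⊥, Ideal.isPrime_bot⟩ : PrimeSpectrum V), PrimeSpectrum.ext ?_⟩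
      rw [h1]
      exact (RingHom.injective_iff_ker_eq_bot _).mp hφ
  have hpre : g ⁻¹ᵁ (genOpen A) = genOpen V := by
    ext x
    change g x ≠ closedPoint A ↔ x ≠ closedPoint V
    constructor
    · intro h1 h2
      exact h1 (by rw [h2, hcl])
    · exact hgen x
  have hsm : Smooth (Neron.smoothPart A X).hom := inferInstance
  have hsep : IsSeparated (Neron.smoothPart A X).hom :=
    inferInstanceAs (IsSeparated (X.hom.smoothLocus.ι ≫ X.hom))
  have hnoeth : IsLocallyNoetherian X.left := LocallyOfFiniteType.isLocallyNoetherian X.hom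
  have hqc : QuasiCompact (Neron.smoothPart A X).hom :=
    inferInstanceAs (QuasiCompact (X.hom.smoothLocus.ι ≫ X.hom))
  obtain ⟨e⟩ := exists_iso_smoothPart g X
  have hU : CInt.IsSchematicallyDense (genOpen A) := isSchematicallyDense _
    ⟨(⟨⊥, Ideal.isPrime_bot⟩ : PrimeSpectrum A), fun h1 =>
      IsDiscreteValuationRing.not_a_field A (congrArg PrimeSpectrum.asIdeal h1).symm⟩
  have hrA : Set.range (Neron.genPt A) = Set.range (genOpen A).ι := by
    rw [Scheme.Opens.range_ι, ← opensRange_genPt]
    rfl
  have hrV : Set.range (Neron.genPt V) = Set.range (g ⁻¹ᵁ genOpen A).ι := by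
    rw [hpre, Scheme.Opens.range_ι, ← opensRange_genPt]
    rfl
  have hmain := Groth.Agent.S13749.result g (genOpen A) hU (Neron.smoothPart A X) (fun Y' hY' => by
    rw [bijective_congr_range (g ⁻¹ᵁ genOpen A).ι (Neron.genPt V) hrV]
    exact bijective_of_iso_target (Neron.genericFibre V) e (h Y' hY')) Y
  exact (bijective_congr_range (genOpen A).ι (Neron.genPt A) hrA Y _).1 hmain

end K485.SmDesc
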