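import Groth.Agent.Neron.K485.EllLocal
import Groth.Agent.Neron.K485.EtFactor
import Groth.Agent.Neron.K485.EtAut
import Groth.Agent.Neron.K485.SmDesc
import Groth.Agent.Sga4h.ChartDVR
import Groth.Agent.Hensel.Exist

/-!
# The smooth part of a minimal arithmetic surface of positive genus over a discrete valuation ring

Let `A` be a discrete valuation ring with perfect residue field and `X` an arithmetic surface over `A` without
(-1)-curves, whose generic fibre is a smooth geometrically irreducible group scheme with nonzero `H¹`. Then the smooth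
part of `X` has the Néron mapping property. The proof passes to the strict henselization, over which translations
extend since they are defined over an étale extension of `A`.
-/

set_option autoImplicit false
universe u

open CategoryTheory CategoryTheory.Limits AlgebraicGeometry MonoidalCategory CartesianMonoidalCategory IsLocalRing
open scoped MonObj

namespace K485.EllStrict

open Groth.Agent.Dix Groth.Agent.Dix.GenFibre Groth.Agent.Dix.NeronEllGrp Groth.Agent.Sga4h.ChartDVR

/-- Points of the generic fibre of a universally closed scheme over a discrete valuation ring are sections. -/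
theorem exists_section {V : Type u} [CommRing V] [IsDomain V] [IsDiscreteValuationRing V]
    (X : Over (Spec (CommRingCat.of V))) [UniversallyClosed X.hom]
    (a : (Neron.genericFibre V).obj (𝟙_ (Over (Spec (CommRingCat.of V)))) ⟶ (Neron.genericFibre V).obj X) :
    ∃ s : Spec (CommRingCat.of V) ⟶ X.left, s ≫ X.hom = 𝟙 _ ∧
      a.left ≫ genι X = genι (𝟙_ (Over (Spec (CommRingCat.of V)))) ≫ s := by
  let i : Spec (CommRingCat.of (FractionRing V)) ⟶
      pullback (𝟙 (Spec (CommRingCat.of V))) (Neron.genPt V) :=
    pullback.lift (Neron.genPt V) (𝟙 _) (by rw [Category.comp_id, Category.id_comp])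
  have hi : i ≫ pullback.snd (𝟙 (Spec (CommRingCat.of V))) (Neron.genPt V) = 𝟙 _ := pullback.lift_snd _ _ _
  have hi' : pullback.snd (𝟙 (Spec (CommRingCat.of V))) (Neron.genPt V) ≫ i = 𝟙 _ := by
    apply pullback.hom_ext
    · rw [Category.assoc, pullback.lift_fst, Category.id_comp, ← pullback.condition, Category.comp_id]
    · rw [Category.assoc, pullback.lift_snd, Category.comp_id, Category.id_comp]
  have hw : (i ≫ a.left ≫ genι X) ≫ X.hom = Neron.genPt V := by
    have h1 : a.left ≫ ((Neron.genericFibre V).obj X).hom =
        pullback.snd (𝟙 (Spec (CommRingCat.of V))) (Neron.genPt V) := Over.w a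
    rw [Category.assoc, Category.assoc, (isPullback_genι X).w, ← Category.assoc a.left, h1, ← Category.assoc,
      hi]
    exact Category.id_comp _
  obtain ⟨s, hs, hs'⟩ := NeronEllMain.exists_section_of_isProper V X.hom (i ≫ a.left ≫ genι X) hw
  refine ⟨s, hs, ?_⟩
  have h2 : genι (𝟙_ (Over (Spec (CommRingCat.of V)))) =
      pullback.snd (𝟙 (Spec (CommRingCat.of V))) (Neron.genPt V) ≫ Neron.genPt V := by
    rw [← pullback.condition, Category.comp_id]
    rfl
  rw [h2, Category.assoc, hs', ← Category.assoc]
  have h3 : (pullback.snd (𝟙 (Spec (CommRingCat.of V))) (Neron.genPt V) ≫ i) ≫ a.left ≫ genι X =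
      𝟙 _ ≫ a.left ≫ genι X := congrArg (· ≫ a.left ≫ genι X) hi'
  exact (Category.id_comp _).symm.trans h3.symm

section

variable (A V : Type u) [CommRing A] [IsDomain A] [IsDiscreteValuationRing A]
  [CommRing V] [IsDomain V] [IsDiscreteValuationRing V] [Algebra A V] [IsLocalHom (algebraMap A V)]
  [Hensel.IsStrictHenselization A V]

omit [IsDomain A] [IsDiscreteValuationRing A] [IsDomain V] [IsDiscreteValuationRing V] in
/-- The residue field of a strict henselization is algebraically closed if the residue field of the ring is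
perfect. -/
theorem isAlgClosed_residueField [IsLocalRing A] [IsLocalRing V] [Hensel.IsStrictHenselization A V]
    [PerfectField (ResidueField A)] : IsAlgClosed (ResidueField V) := by
  have h2 : IsSepClosure (ResidueField A) (ResidueField V) := Hensel.IsStrictHenselization.isSepClosure
  have h3 : IsSepClosed (ResidueField V) := h2.sep_closed
  have h4 : Algebra.IsSeparable (ResidueField A) (ResidueField V) := h2.separable
  have h5 : PerfectField (ResidueField V) := Algebra.IsAlgebraic.perfectField (K := ResidueField A)
  infer_instance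

variable (X : Over (Spec (CommRingCat.of A))) (hX : ArSurf.IsArithSurface A X)

/-- The structure map of the strict henselization. -/
noncomputable abbrev gV : Spec (CommRingCat.of V) ⟶ Spec (CommRingCat.of A) :=
  Spec.map (CommRingCat.ofHom (algebraMap A V))

include hX in
/-- Sections of the base change of a regular scheme to the strict henselization are in the smooth locus. -/
theorem section_mem_smoothLocus [PerfectField (ResidueField A)] [LocallyOfFinitePresentation X.hom]
    [LocallyOfFinitePresentation ((Over.pullback (gV A V)).obj X).hom]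
    (a : Spec (CommRingCat.of V) ⟶ ((Over.pullback (gV A V)).obj X).left)
    (ha : a ≫ ((Over.pullback (gV A V)).obj X).hom = 𝟙 _) (s : Spec (CommRingCat.of V)) :
    a s ∈ ((Over.pullback (gV A V)).obj X).hom.smoothLocus := by
  apply NeronEllA.range_subset_of_closedPoint
  have hflat : Flat (gV A V) := by
    rw [HasRingHomProperty.Spec_iff (P := @Flat)]
    change (algebraMap A V).Flat
    have : FaithfulSMul A V := (faithfulSMul_iff_algebraMap_injective A V).2 (injective_algebraMap A V)
    rw [RingHom.flat_algebraMap_iff]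
    infer_instance
  have hXf : Flat X.hom := hX.2.2.2.1
  have hpb : IsPullback (pullback.fst X.hom (gV A V)) ((Over.pullback (gV A V)).obj X).hom X.hom (gV A V) :=
    IsPullback.of_hasPullback _ _
  rw [Groth.Agent.Smoothlim.SmoothLocusBC.mem_smoothLocus_iff_of_isPullback hpb _ (Or.inr hflat)]
  obtain ⟨ϖ, hϖ⟩ := IsDiscreteValuationRing.exists_irreducible A
  have hirr := irreducible_of_isStrictHenselization A V hϖ
  have h1 : (a ≫ pullback.fst X.hom (gV A V)) (closedPoint V) ∈ X.hom.smoothLocus := by
    refine NeronEllA.closedPoint_mem_smoothLocus X.hom (algebraMap A V) (a ≫ pullback.fst X.hom (gV A V)) ?_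
      (hX.1 _) hϖ ?_ ?_
    · rw [Category.assoc, hpb.w, ← Category.assoc, ha, Category.id_comp]
    · rw [mem_maximalIdeal]
      exact hirr.not_isUnit
    · intro h2
      rw [maximalIdeal_eq_span A V hϖ, Ideal.span_singleton_pow, Ideal.mem_span_singleton] at h2
      have h3 : algebraMap A V ϖ ∣ 1 := by
        obtain ⟨c, hc⟩ := h2
        refine ⟨c, mul_left_cancel₀ hirr.ne_zero ?_⟩
        rw [mul_one, ← mul_assoc, ← sq]
        exact hc
      exact hirr.not_isUnit (isUnit_of_dvd_one h3)
  exact h1

omit [IsDomain A] [IsDiscreteValuationRing A] [IsDomain V] [IsDiscreteValuationRing V]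
  [IsLocalHom (algebraMap A V)] [Hensel.IsStrictHenselization A V] in
/-- The cartesian square of the base change. -/
theorem isPullback_gV : IsPullback (pullback.fst X.hom (gV A V)) ((Over.pullback (gV A V)).obj X).hom X.hom
    (gV A V) := IsPullback.of_hasPullback _ _

section trans

variable {A V X}
variable (hX : ArSurf.IsArithSurface A X) (he : IsEmpty (MinusCurve.MinusCurve X.left))
  [GeometricallyIrreducible ((Neron.genericFibre A).obj X).hom] [Smooth ((Neron.genericFibre A).obj X).hom]
  (hg : Nontrivial (Coh.HH ((Neron.genericFibre A).obj X).left (Coh.structureModule _) 1))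
  {γV : Spec (CommRingCat.of (FractionRing V)) ⟶ Spec (CommRingCat.of (FractionRing A))}
  (hγV : γV ≫ Neron.genPt A = Neron.genPt V ≫ gV A V)
  [GrpObj ((Neron.genericFibre A).obj X)]
  [GrpObj ((Neron.genericFibre V).obj ((Over.pullback (gV A V)).obj X))]
  (hc : GrpBC.IsCompat (X := X) (X' := (Over.pullback (gV A V)).obj X) hγV (isPullback_gV A V X))

/-- A domain whose spectrum surjects onto the spectrum of a discrete valuation ring is not a field. -/
theorem not_isField_of_surjective (A : Type u) [CommRing A] [IsDomain A] [IsDiscreteValuationRing A] {D : Type u} [CommRing D] [Algebra A D]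
    (h : Function.Surjective (PrimeSpectrum.comap (algebraMap A D))) : ¬ IsField D := by
  intro hD
  obtain ⟨x, hx⟩ := h ⟨⊥, Ideal.isPrime_bot⟩
  obtain ⟨y, hy⟩ := h (closedPoint A)
  let _ := hD.toField
  have h1 : x = y := Subsingleton.elim _ _
  rw [h1, hy] at hx
  exact IsDiscreteValuationRing.not_a_field A (congrArg PrimeSpectrum.asIdeal hx)

include hX he hg hc in
/-- Translations of the generic fibre over the strict henselization extend. -/
theorem exists_translation
    (a b : (Neron.genericFibre V).obj (𝟙_ (Over (Spec (CommRingCat.of V)))) ⟶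
      (Neron.genericFibre V).obj ((Over.pullback (gV A V)).obj X)) :
    ∃ f : (Over.pullback (gV A V)).obj X ⟶ (Over.pullback (gV A V)).obj X,
      IsIso f ∧ (Neron.genericFibre V).map f = B ((Over.pullback (gV A V)).obj X) a b := by
  have hXs := MinimalUnique.isRegSurf_of_isArithSurface hX
  have hXp : IsProper X.hom := hXs.proper
  have hXpV : IsProper ((Over.pullback (gV A V)).obj X).hom :=
    inferInstanceAs (IsProper (pullback.snd X.hom (gV A V)))
  have hlfp : LocallyOfFinitePresentation X.hom := by
    rw [LocallyOfFinitePresentation.iff_locallyOfFiniteType]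
    infer_instance
  let qV : ((Over.pullback (gV A V)).obj X).left ⟶ X.left := pullback.fst X.hom (gV A V)
  have hqV : IsPullback qV ((Over.pullback (gV A V)).obj X).hom X.hom (gV A V) :=
    IsPullback.of_hasPullback X.hom (gV A V)
  obtain ⟨sa, hsa, hsa'⟩ := exists_section _ a
  obtain ⟨sb, hsb, hsb'⟩ := exists_section _ b
  -- the pair of points
  have e1 : (sa ≫ qV) ≫ X.hom = gV A V := by
    rw [Category.assoc, hqV.w, ← Category.assoc, hsa, Category.id_comp]
  have e2 : (sb ≫ qV) ≫ X.hom = gV A V := by
    rw [Category.assoc, hqV.w, ← Category.assoc, hsb, Category.id_comp]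
  let S : Spec (CommRingCat.of V) ⟶ pullback X.hom X.hom := pullback.lift (sa ≫ qV) (sb ≫ qV) (by rw [e1, e2])
  have hS1 : S ≫ pullback.fst X.hom X.hom = sa ≫ qV := pullback.lift_fst _ _ _
  have hS2 : S ≫ pullback.snd X.hom X.hom = sb ≫ qV := pullback.lift_snd _ _ _
  obtain ⟨D, _, _, _, _, χ, t, hχ, hsurj, ht, hχt⟩ := EtFactor.exists_etale_factor_scheme A V
    (injective_algebraMap A V) (pullback.fst X.hom X.hom ≫ X.hom) S (by
      rw [← Category.assoc, hS1, e1])
  have hA : ¬ IsField A := IsDiscreteValuationRing.not_isField A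
  have hD : ¬ IsField D := not_isField_of_surjective A hsurj
  let gD : Spec (CommRingCat.of D) ⟶ Spec (CommRingCat.of A) := Spec.map (CommRingCat.ofHom (algebraMap A D))
  let h : Spec (CommRingCat.of V) ⟶ Spec (CommRingCat.of D) := Spec.map (CommRingCat.ofHom χ.toRingHom)
  have hh : h ≫ gD = gV A V := by
    rw [← Spec.map_comp]
    congr 1
    ext r
    exact χ.commutes r
  obtain ⟨γD, hγD⟩ := EtAut.exists_gamma A D (algebraMap A D) (FaithfulSMul.algebraMap_injective A D)
  obtain ⟨γ, hγ⟩ := EtAut.exists_gamma D V χ.toRingHom hχ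
  let XD := (Over.pullback gD).obj X
  let qD : XD.left ⟶ X.left := pullback.fst X.hom gD
  have hqD : IsPullback qD XD.hom X.hom gD := IsPullback.of_hasPullback X.hom gD
  let q : ((Over.pullback (gV A V)).obj X).left ⟶ XD.left :=
    hqD.lift qV (((Over.pullback (gV A V)).obj X).hom ≫ h) (by rw [hqV.w, Category.assoc, hh])
  have hqq : q ≫ qD = qV := hqD.lift_fst _ _ _
  have hq2 : q ≫ XD.hom = ((Over.pullback (gV A V)).obj X).hom ≫ h := hqD.lift_snd _ _ _
  have hq : IsPullback q ((Over.pullback (gV A V)).obj X).hom XD.hom h := by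
    refine IsPullback.of_right (h₁₂ := qD) (v₁₃ := X.hom) (h₂₂ := gD) ?_ hq2 hqD
    rw [hqq, hh]
    exact hqV
  obtain ⟨GD, hcD⟩ := GrpBC.exists_isCompat hγD hqD
  -- the sections over D
  have et1 : (t ≫ pullback.fst X.hom X.hom) ≫ X.hom = gD := by rw [Category.assoc, ht]
  have et2 : (t ≫ pullback.snd X.hom X.hom) ≫ X.hom = gD := by
    rw [Category.assoc, ← pullback.condition, ht]
  let s₁ : Spec (CommRingCat.of D) ⟶ XD.left :=
    hqD.lift (t ≫ pullback.fst X.hom X.hom) (𝟙 _) (by rw [et1, Category.id_comp])
  let s₂ : Spec (CommRingCat.of D) ⟶ XD.left :=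
    hqD.lift (t ≫ pullback.snd X.hom X.hom) (𝟙 _) (by rw [et2, Category.id_comp])
  let σ₁ : 𝟙_ (Over (Spec (CommRingCat.of D))) ⟶ XD := Over.homMk s₁ (hqD.lift_snd _ _ _)
  let σ₂ : 𝟙_ (Over (Spec (CommRingCat.of D))) ⟶ XD := Over.homMk s₂ (hqD.lift_snd _ _ _)
  have hσ₁ : σ₁.left ≫ qD = t ≫ pullback.fst X.hom X.hom := hqD.lift_fst _ _ _
  have hσ₂ : σ₂.left ≫ qD = t ≫ pullback.snd X.hom X.hom := hqD.lift_fst _ _ _
  obtain ⟨f, hf, hf'⟩ := EtAut.exists_extend hsurj hA hD X hX he hg
    (BIso XD ((Neron.genericFibre D).map σ₁) ((Neron.genericFibre D).map σ₂))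
  refine GrpBC.exists_B hh hγD hγV hγ hqD hqV hq hqq hcD hc σ₁ σ₂ a b ?_ ?_ f hf'
  · rw [hσ₁, ← Category.assoc h, hχt, hS1, ← Category.assoc, hsa', Category.assoc]
  · rw [hσ₂, ← Category.assoc h, hχt, hS2, ← Category.assoc, hsb', Category.assoc]

omit [IsDiscreteValuationRing V] [IsLocalHom (algebraMap A V)] [Hensel.IsStrictHenselization A V] in
include hX he hg hc in
/-- The inverse of the generic fibre over the strict henselization extends. -/
theorem exists_inverse :
    ∃ f : (Over.pullback (gV A V)).obj X ⟶ (Over.pullback (gV A V)).obj X,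
      IsIso f ∧ (Neron.genericFibre V).map f =
        (𝟙 ((Neron.genericFibre V).obj ((Over.pullback (gV A V)).obj X)))⁻¹ := by
  let qV : ((Over.pullback (gV A V)).obj X).left ⟶ X.left := pullback.fst X.hom (gV A V)
  have hqV : IsPullback qV ((Over.pullback (gV A V)).obj X).hom X.hom (gV A V) :=
    IsPullback.of_hasPullback X.hom (gV A V)
  have hA : ¬ IsField A := IsDiscreteValuationRing.not_isField A
  have hsurj : Function.Surjective (PrimeSpectrum.comap (algebraMap A A)) := fun x => ⟨x, by
    rw [Algebra.algebraMap_self, PrimeSpectrum.comap_id]⟩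
  let gD : Spec (CommRingCat.of A) ⟶ Spec (CommRingCat.of A) := Spec.map (CommRingCat.ofHom (algebraMap A A))
  let h : Spec (CommRingCat.of V) ⟶ Spec (CommRingCat.of A) := gV A V
  have hh : h ≫ gD = gV A V := by
    rw [← Spec.map_comp]
    rfl
  obtain ⟨γD, hγD⟩ := EtAut.exists_gamma A A (algebraMap A A) (FaithfulSMul.algebraMap_injective A A)
  let XD := (Over.pullback gD).obj X
  let qD : XD.left ⟶ X.left := pullback.fst X.hom gD
  have hqD : IsPullback qD XD.hom X.hom gD := IsPullback.of_hasPullback X.hom gD
  let q : ((Over.pullback (gV A V)).obj X).left ⟶ XD.left :=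
    hqD.lift qV (((Over.pullback (gV A V)).obj X).hom ≫ h) (by rw [hqV.w, Category.assoc, hh])
  have hqq : q ≫ qD = qV := hqD.lift_fst _ _ _
  have hq2 : q ≫ XD.hom = ((Over.pullback (gV A V)).obj X).hom ≫ h := hqD.lift_snd _ _ _
  have hq : IsPullback q ((Over.pullback (gV A V)).obj X).hom XD.hom h := by
    refine IsPullback.of_right (h₁₂ := qD) (v₁₃ := X.hom) (h₂₂ := gD) ?_ hq2 hqD
    rw [hqq, hh]
    exact hqV
  obtain ⟨GD, hcD⟩ := GrpBC.exists_isCompat hγD hqD
  obtain ⟨f, hf, hf'⟩ := EtAut.exists_extend hsurj hA hA X hX he hg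
    { hom := (𝟙 ((Neron.genericFibre A).obj XD))⁻¹
      inv := (𝟙 ((Neron.genericFibre A).obj XD))⁻¹
      hom_inv_id := by rw [GrpObj.comp_inv, Category.comp_id, _root_.inv_inv]
      inv_hom_id := by rw [GrpObj.comp_inv, Category.comp_id, _root_.inv_inv] }
  exact GrpBC.exists_inv hh hγD hγV hγV hqD hqV hq hqq hcD hc f hf'

end trans

end

/-- **The mapping property of the smooth part** of a minimal arithmetic surface over a discrete valuation ring with
perfect residue field, whose generic fibre is a smooth curve of positive genus with a group structure. -/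
theorem bijective {A : Type u} [CommRing A] [IsDomain A] [IsDiscreteValuationRing A]
    [PerfectField (ResidueField A)] (X : Over (Spec (CommRingCat.of A)))
    (hX : ArSurf.IsArithSurface A X) (he : IsEmpty (MinusCurve.MinusCurve X.left))
    [GeometricallyIrreducible ((Neron.genericFibre A).obj X).hom] [Smooth ((Neron.genericFibre A).obj X).hom]
    (hg : Nontrivial (Coh.HH ((Neron.genericFibre A).obj X).left (Coh.structureModule _) 1))
    (hG : Nonempty (GrpObj ((Neron.genericFibre A).obj X)))
    [LocallyOfFinitePresentation X.hom] (Y : Over (Spec (CommRingCat.of A))) (hY : Smooth Y.hom) :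
    Function.Bijective (fun f : Y ⟶ Neron.smoothPart A X => (Neron.genericFibre A).map f) := by
  obtain ⟨V, _, _, _, _, hV, -⟩ := Groth.Agent.Hensel.Exist.exists_isStrictHenselization A
  have : IsDomain V := isDomain_of_isStrictHenselization A V
  have : IsDiscreteValuationRing V := isDiscreteValuationRing_of_isStrictHenselization A V
  have : HenselianLocalRing V := Hensel.IsStrictHenselization.henselian A
  have : IsAlgClosed (ResidueField V) := isAlgClosed_residueField A V
  have hXs := MinimalUnique.isRegSurf_of_isArithSurface hX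
  have hXp : IsProper X.hom := hXs.proper
  let XV := (Over.pullback (gV A V)).obj X
  have hXpV : IsProper XV.hom := inferInstanceAs (IsProper (pullback.snd X.hom (gV A V)))
  have hlfpV : LocallyOfFinitePresentation XV.hom :=
    inferInstanceAs (LocallyOfFinitePresentation (pullback.snd X.hom (gV A V)))
  have hinj := injective_algebraMap A V
  have h1 : GeometricallyIrreducible ((Neron.genericFibre V).obj XV).hom :=
    EtAut.geometricallyIrreducible_baseChange X hinj
  have h2 : Smooth ((Neron.genericFibre V).obj XV).hom := EtAut.smooth_baseChange X hinj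
  obtain ⟨γV, hγV⟩ := EtAut.exists_gamma A V (algebraMap A V) hinj
  obtain ⟨hG⟩ := hG
  obtain ⟨GV, hc⟩ := GrpBC.exists_isCompat (X := X) (X' := XV) hγV (isPullback_gV A V X)
  have hmain := (EllLocal.main XV (fun a ha s => section_mem_smoothLocus A V X hX a ha s)
    (fun a b => exists_translation hX he hg hγV hc a b) (exists_inverse hX he hg hγV hc)).2
  refine SmDesc.bijective_of_baseChange (algebraMap A V) hinj X (fun Y' hY' => ?_) Y hY
  have h3 := hmain.2.2.2.2 Y' hY'
  have h4 : (fun g : Y' ⟶ Neron.smoothPart V XV => (Neron.genericFibre V).map g ≫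
      (Iso.refl ((Neron.genericFibre V).obj (Neron.smoothPart V XV))).hom) =
      (fun g : Y' ⟶ Neron.smoothPart V XV => (Neron.genericFibre V).map g) := by
    funext g
    exact Category.comp_id _
  rw [h4] at h3
  exact h3

end K485.EllStrict
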