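import Groth.Agent.Dix.WeilSpread
import Groth.Agent.Dix.NormalLoc
import Mathlib.AlgebraicGeometry.ValuativeCriterion

/-!
# Extension of morphisms to a proper scheme at points of codimension at most one of a normal scheme
-/

set_option autoImplicit false
universe u
open CategoryTheory CategoryTheory.Limits AlgebraicGeometry

namespace K485.ExtCodim

open Groth.Agent.Dix Groth.Agent.Dix.WeilSch

variable {S X G : Scheme.{u}} (pX : X ⟶ S) (pG : G ⟶ S) (U : X.Opens) (f : (U : Scheme.{u}) ⟶ G)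

/-- `f` extends to a neighbourhood of `x`. -/
def LocExt (x : X) : Prop :=
  ∃ (W : Scheme.{u}) (j : W ⟶ X) (_ : IsOpenImmersion j) (g : W ⟶ G),
      x ∈ Set.range j ∧ g ≫ pG = j ≫ pX ∧ ∀ hV, (j ⁻¹ᵁ U).ι ≫ g = ev U f ((j ⁻¹ᵁ U).ι ≫ j) hV

theorem locExt_of_mem (hf : f ≫ pG = U.ι ≫ pX) (x : X) (hx : x ∈ U) : LocExt pX pG U f x := by
  refine ⟨U, U.ι, inferInstance, f, by rwa [Scheme.Opens.range_ι], hf, fun hV => ?_⟩
  have h0 : ∀ w : (U : Scheme.{u}), U.ι w ∈ U := fun w => w.2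
  conv_lhs => rw [← ev_ι U f h0]
  exact comp_ev U f _ _ h0 hV

theorem locExt_of_codim_le_one [IsLocallyNoetherian X] [IsReduced X] [IsProper pG] (hU : Dense (U : Set X))
    (hf : f ≫ pG = U.ι ≫ pX) (x : X) [IsDomain (X.presheaf.stalk x)]
    [IsIntegrallyClosed (X.presheaf.stalk x)] (hdim : ¬ (2 : WithBot ℕ∞) ≤ ringKrullDim (X.presheaf.stalk x)) :
    LocExt pX pG U f x := by
  by_cases hx : x ∈ U
  · exact locExt_of_mem pX pG U f hf x hx
  let K := FractionRing (X.presheaf.stalk x)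
  obtain ⟨hval, hmax⟩ := NormalLoc.valuationRing_of_not_two_le_ringKrullDim (X.presheaf.stalk x) hdim
  let c : Spec (X.presheaf.stalk x) ⟶ X := X.fromSpecStalk x
  -- the generic point of `Spec A` is sent into `U`
  let k : Spec (CommRingCat.of K) ⟶ Spec (X.presheaf.stalk x) :=
    Spec.map (CommRingCat.ofHom (algebraMap (X.presheaf.stalk x) K))
  have hdomk : IsDominant k := WeilSpread.isDominant_SpecMap _ (IsFractionRing.injective (X.presheaf.stalk x) K)
  have hgen : ∀ p : Spec (CommRingCat.of K), c (k p) ∈ U := by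
    intro p
    obtain ⟨W', hx', hW', -, hinj⟩ := X.exists_le_and_germ_injective x ⊤ trivial
    have hdom := WeilSpread.isDominant_fromSpecStalkOfMem W' hW' x hx' hinj
    have hc1 : W'.fromSpecStalkOfMem x hx' ≫ W'.ι = X.fromSpecStalk x :=
      Scheme.Opens.fromSpecStalkOfMem_ι _ _ _
    have hne : ((W'.ι ⁻¹ᵁ U : (W' : Scheme.{u}).Opens) : Set (W' : Scheme.{u})).Nonempty := by
      obtain ⟨z, hz1, hz2⟩ := hU.inter_open_nonempty W' W'.2 ⟨x, hx'⟩
      exact ⟨⟨z, hz1⟩, hz2⟩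
    have hdom2 : IsDominant (k ≫ W'.fromSpecStalkOfMem x hx') := inferInstance
    obtain ⟨z, hz⟩ := hdom2.denseRange.exists_mem_open (W'.ι ⁻¹ᵁ U).2 hne
    have : z = p := Subsingleton.elim (α := PrimeSpectrum K) _ _
    subst this
    have h2 : (W'.ι ((k ≫ W'.fromSpecStalkOfMem x hx') z)) = c (k z) := by
      rw [← Scheme.Hom.comp_apply, Category.assoc, hc1, Scheme.Hom.comp_apply]
    rw [← h2]
    exact hz
  have hgen' : ∀ p : Spec (CommRingCat.of K), (k ≫ c) p ∈ U := fun p => by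
    rw [Scheme.Hom.comp_apply]; exact hgen p
  -- the valuative criterion
  have hvc : ValuativeCriterion.Existence pG := by
    have : UniversallyClosed pG := inferInstance
    rw [UniversallyClosed.eq_valuativeCriterion] at this
    exact this.1
  obtain ⟨⟨l⟩⟩ := hvc
    { R := X.presheaf.stalk x
      commRing := (X.presheaf.stalk x).commRing
      domain := ‹IsDomain (X.presheaf.stalk x)›
      valuationRing := hval
      K := K
      field := inferInstance
      algebra := inferInstance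
      isFractionRing := inferInstance
      i₁ := ev U f (k ≫ c) hgen'
      i₂ := c ≫ pX
      commSq := ⟨by rw [ev_over U f hf, Category.assoc]; rfl⟩ }
  let φ : Spec (X.presheaf.stalk x) ⟶ G := l.l
  have hφ : φ ≫ pG = X.fromSpecStalk x ≫ pX := l.fac_right
  have hφk : k ≫ φ = ev U f (k ≫ c) hgen' := l.fac_left
  refine WeilSpread.spread pX pG U f hf x φ hφ (fun hV => ?_)
  -- `k` factors through the preimage of `U`, dominantly
  have hkr : ∀ p, k p ∈ (X.fromSpecStalk x) ⁻¹ᵁ U := hgen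
  let k' : Spec (CommRingCat.of K) ⟶ ((X.fromSpecStalk x) ⁻¹ᵁ U : (Spec (X.presheaf.stalk x)).Opens) :=
    IsOpenImmersion.lift ((X.fromSpecStalk x) ⁻¹ᵁ U).ι k (by
      rintro _ ⟨p, rfl⟩
      rw [Scheme.Opens.range_ι]
      exact hkr p)
  have hk' : k' ≫ ((X.fromSpecStalk x) ⁻¹ᵁ U).ι = k := IsOpenImmersion.lift_fac _ _ _
  have hdomk' : IsDominant k' := by
    refine ⟨fun z => ?_⟩
    rw [mem_closure_iff]
    intro O hO hz
    have h1 : IsOpen (((X.fromSpecStalk x) ⁻¹ᵁ U).ι '' O) :=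
      ((X.fromSpecStalk x) ⁻¹ᵁ U).ι.isOpenEmbedding.isOpenMap O hO
    obtain ⟨p, hp⟩ := hdomk.denseRange.exists_mem_open h1 ⟨_, z, hz, rfl⟩
    obtain ⟨w, hw, hw'⟩ := hp
    refine ⟨w, hw, p, ?_⟩
    apply ((X.fromSpecStalk x) ⁻¹ᵁ U).ι.isOpenEmbedding.injective
    rw [← Scheme.Hom.comp_apply, hk', hw']
  have hred : IsReduced (((X.fromSpecStalk x) ⁻¹ᵁ U : (Spec (X.presheaf.stalk x)).Opens) : Scheme.{u}) := by
    have : IsReduced (Spec (X.presheaf.stalk x)) := inferInstance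
    exact isReduced_of_isOpenImmersion ((X.fromSpecStalk x) ⁻¹ᵁ U).ι
  apply ext_of_isDominant_of_isSeparated pG (ι := k')
  · rw [ev_over U f hf, Category.assoc, hφ, Category.assoc]
  · have h3 : ∀ w, (k' ≫ ((X.fromSpecStalk x) ⁻¹ᵁ U).ι ≫ X.fromSpecStalk x) w ∈ U := fun w => hV (k' w)
    rw [comp_ev U f k' _ hV h3, ← Category.assoc, hk', hφk]
    apply ev_congr
    rw [← Category.assoc, hk']

/-- The locus where `f` extends is open and `f` extends to it. -/
theorem exists_extension [IsReduced X] [IsSeparated pG] (hU : Dense (U : Set X)) (hf : f ≫ pG = U.ι ≫ pX) :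
    ∃ (V : X.Opens) (hUV : U ≤ V) (g : (V : Scheme.{u}) ⟶ G),
      g ≫ pG = V.ι ≫ pX ∧ X.homOfLE hUV ≫ g = f ∧ ∀ x : X, LocExt pX pG U f x → x ∈ V := by
  let V : X.Opens := ⟨{x | LocExt pX pG U f x}, by
    rw [isOpen_iff_forall_mem_open]
    rintro x ⟨W, j, hj, g, hxj, h1, h2⟩
    exact ⟨Set.range j, fun z hz => ⟨W, j, hj, g, hz, h1, h2⟩, j.isOpenEmbedding.isOpen_range, hxj⟩⟩
  have hUV : U ≤ V := fun x hx => locExt_of_mem pX pG U f hf x hx
  let U' : (V : Scheme.{u}).Opens := V.ι ⁻¹ᵁ U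
  let f' : (U' : Scheme.{u}) ⟶ G := (V.ι ∣_ U) ≫ f
  have hf' : f' ≫ pG = U'.ι ≫ V.ι ≫ pX := by
    rw [Category.assoc, hf, ← Category.assoc, morphismRestrict_ι, Category.assoc]
  have hU' : Dense (U' : Set (V : Scheme.{u})) := hU.preimage V.ι.isOpenEmbedding.isOpenMap
  have hredV : IsReduced (V : Scheme.{u}) := isReduced_of_isOpenImmersion V.ι
  -- evaluation of `f'`
  have hev : ∀ {W : Scheme.{u}} (h : W ⟶ (V : Scheme.{u})) (h1 : ∀ w, h w ∈ U') (h2 : ∀ w, (h ≫ V.ι) w ∈ U),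
      ev U' f' h h1 = ev U f (h ≫ V.ι) h2 := by
    intro W h h1 h2
    rw [ev, ev, ← Category.assoc]
    congr 1
    rw [← cancel_mono U.ι, Category.assoc, morphismRestrict_ι, ← Category.assoc, IsOpenImmersion.lift_fac,
      IsOpenImmersion.lift_fac]
  obtain ⟨g, hg, hgU⟩ := WeilGlue.glue (V.ι ≫ pX) pG U' f' hU' hf' (by
    rintro ⟨x, hx⟩
    obtain ⟨W, j, hj, g, hxj, h1, h2⟩ := hx
    have hjV : Set.range j ⊆ Set.range V.ι := by
      rintro _ ⟨w, rfl⟩
      rw [Scheme.Opens.range_ι]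
      exact ⟨W, j, hj, g, ⟨w, rfl⟩, h1, h2⟩
    let j' : W ⟶ (V : Scheme.{u}) := IsOpenImmersion.lift V.ι j hjV
    have hj' : j' ≫ V.ι = j := IsOpenImmersion.lift_fac _ _ _
    have hoi : IsOpenImmersion (j' ≫ V.ι) := by rw [hj']; exact hj
    have hoi' : IsOpenImmersion j' := IsOpenImmersion.of_comp j' V.ι
    refine ⟨W, j', hoi', g, ?_, ?_, ?_⟩
    · obtain ⟨w, hw⟩ := hxj
      refine ⟨w, ?_⟩
      apply V.ι.isOpenEmbedding.injective
      rw [← Scheme.Hom.comp_apply, hj', hw]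
      rfl
    · rw [h1, ← Category.assoc, hj']
    · intro hV
      have hV2 : ∀ w, (((j' ⁻¹ᵁ U').ι ≫ j') ≫ V.ι) w ∈ U := fun w => hV w
      rw [hev _ hV hV2]
      refine WeilGlue.comp_eq_ev U f j g h2 _ _ ?_ hV2
      rw [Category.assoc, hj'])
  refine ⟨V, hUV, g, hg, ?_, fun x hx => hx⟩
  have h1 : ∀ w, (X.homOfLE hUV) w ∈ U' := by
    intro w
    change V.ι ((X.homOfLE hUV) w) ∈ U
    rw [← Scheme.Hom.comp_apply, Scheme.homOfLE_ι]
    exact w.2
  let s : (U : Scheme.{u}) ⟶ (U' : Scheme.{u}) := IsOpenImmersion.lift U'.ι (X.homOfLE hUV) (by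
    rintro _ ⟨w, rfl⟩
    rw [Scheme.Opens.range_ι]
    exact h1 w)
  have hs : s ≫ U'.ι = X.homOfLE hUV := IsOpenImmersion.lift_fac _ _ _
  rw [← hs, Category.assoc, hgU]
  have : s ≫ (V.ι ∣_ U) = 𝟙 _ := by
    rw [← cancel_mono U.ι, Category.assoc, morphismRestrict_ι, ← Category.assoc, hs, Scheme.homOfLE_ι,
      Category.id_comp]
  change s ≫ (V.ι ∣_ U) ≫ f = f
  rw [← Category.assoc, this, Category.id_comp]

end K485.ExtCodim
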