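import Groth.Agent.Neron.K486.GmModel
import Groth.Agent.Neron.K486.GaModel
import Groth.Agent.Flat2B.SmoothGeom

/-!
# Smooth affine models of the multiplicative group: the coordinate function

`R` is a complete discrete valuation ring with algebraically closed residue field, `G` a smooth affine group scheme
over `R` with generic fibre `𝔾_m`. The coordinate of every `R`-point is a unit of `R` and the powers of the coordinate
function extend to `G`.
-/

set_option autoImplicit false
universe u

open CategoryTheory AlgebraicGeometry Limits MonoidalCategory CartesianMonoidalCategory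
open scoped Polynomial LaurentPolynomial

namespace K485.GmGa

open Groth.Agent.Sga3B Groth.Agent.Sga3B.Cell Groth.Agent.Sga3B.PinMod K486 K486.ModelPts K486.CoPts K486.CoFlat

section alg

variable {R : Type u} [CommRing R] [IsLocalRing R] {π : R} (hπ : IsLocalRing.maximalIdeal R = Ideal.span {π})
  {A : Type u} [CommRing A] [Algebra R A]

/-- the residue field -/
local notation "κ" => IsLocalRing.ResidueField R

include hπ in
/-- A function which is not divisible by `π` is nonzero at some point of the special fibre. -/
theorem exists_point [IsAlgClosed κ] [Algebra.FiniteType R A]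
    (hred : IsReduced (A ⧸ Ideal.span {algebraMap R A π})) (a : A) (ha : ¬ algebraMap R A π ∣ a) :
    ∃ x : A →ₐ[R] κ, x a ≠ 0 := by
  let B := A ⧸ Ideal.span {algebraMap R A π}
  let b : B := Ideal.Quotient.mk _ a
  have hb : b ≠ 0 := by
    intro h
    exact ha (Ideal.mem_span_singleton.1 (Ideal.Quotient.eq_zero_iff_mem.1 h))
  let C := Localization.Away b
  have hC : Nontrivial C := by
    rw [← not_subsingleton_iff_nontrivial]
    intro hs
    have h1 : algebraMap B C 1 = 0 := Subsingleton.elim _ _
    rw [IsLocalization.map_eq_zero_iff (Submonoid.powers b)] at h1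
    obtain ⟨⟨_, n, rfl⟩, h2⟩ := h1
    rw [_root_.mul_one] at h2
    exact hb (IsNilpotent.eq_zero ⟨n, h2⟩)
  obtain ⟨M, hM⟩ := Ideal.exists_maximal C
  let L := C ⧸ M
  let _ : Field L := Ideal.Quotient.field M
  have hπL : algebraMap R L π = 0 := by
    rw [IsScalarTower.algebraMap_apply R C L, IsScalarTower.algebraMap_apply R B C,
      IsScalarTower.algebraMap_apply R A B]
    have : algebraMap A B (algebraMap R A π) = 0 :=
      Ideal.Quotient.eq_zero_iff_mem.2 (Ideal.mem_span_singleton_self _)
    rw [this, _root_.map_zero, _root_.map_zero]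
  obtain ⟨i⟩ := Comp.exists_resid hπ L hπL
  let _ : Algebra κ L := i.toRingHom.toAlgebra
  have : IsScalarTower R κ L := IsScalarTower.of_algebraMap_eq fun r => (i.commutes r).symm
  have hft : Algebra.FiniteType R L := by
    have h1 : Algebra.FiniteType R B := inferInstance
    have h2' : Algebra.FinitePresentation B C := IsLocalization.Away.finitePresentation b
    have h2 : Algebra.FiniteType B C := inferInstance
    have h3 : Algebra.FiniteType R C := Algebra.FiniteType.trans h1 h2
    infer_instance
  have hft' : Algebra.FiniteType κ L := Algebra.FiniteType.of_restrictScalars_finiteType R κ L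
  have hfin : Module.Finite κ L := finite_of_finite_type_of_isJacobsonRing κ L
  have hint : Algebra.IsIntegral κ L := inferInstance
  have hbij : Function.Bijective (algebraMap κ L) := IsAlgClosed.algebraMap_bijective_of_isIntegral
  let e : κ ≃ₐ[κ] L := AlgEquiv.ofBijective (Algebra.ofId κ L) hbij
  let x : A →ₐ[R] κ := (e.symm.toAlgHom.restrictScalars R).comp
    ((IsScalarTower.toAlgHom R A L))
  refine ⟨x, ?_⟩
  have h1 : x a = e.symm (algebraMap A L a) := rfl
  rw [h1, Ne, EmbeddingLike.map_eq_zero_iff, IsScalarTower.algebraMap_apply A C L,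
    IsScalarTower.algebraMap_apply A B C]
  have h2 : IsUnit (algebraMap B C b) := IsLocalization.Away.algebraMap_isUnit b
  exact (h2.map (algebraMap C L)).ne_zero

end alg

variable {R : Type u} [CommRing R] [IsDomain R] [IsDiscreteValuationRing R]
  {K : Type u} [Field K] [Algebra R K] [IsFractionRing R K]
  {G : Over (Spec (CommRingCat.of R))} [GrpObj G] (c : Chart G (𝟙 (Spec (CommRingCat.of R))))
  (e : Red.bc (sK R K) G ≅ Red.Gm (Spec (CommRingCat.of K))) [IsMonHom e.hom]

/-- the residue field -/
local notation "κ" => IsLocalRing.ResidueField R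

section co

/-- the coordinate of an `R`-point -/
noncomputable def co (g : Pt R c.A R) : Kˣ := coM c e (Pt.map (Algebra.ofId R K) g)

omit [IsDomain R] [IsDiscreteValuationRing R] [IsFractionRing R K] in
theorem co_mul (g h : Pt R c.A R) : co c e (g * h) = co c e g * co c e h := by
  rw [co, Pt.map_mul, coM_mul]
  rfl

omit [IsDomain R] [IsDiscreteValuationRing R] [IsFractionRing R K] in
theorem co_one : co c e 1 = 1 := by rw [co, Pt.map_one, coM_one]

/-- the coordinate as a homomorphism -/
noncomputable def coHom : Pt R c.A R →* Kˣ := ⟨⟨co c e, co_one c e⟩, co_mul c e⟩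

omit [IsDomain R] [IsDiscreteValuationRing R] [IsFractionRing R K] in
theorem co_pow (g : Pt R c.A R) (n : ℕ) : co c e (g ^ n) = co c e g ^ n := _root_.map_pow (coHom c e) g n

omit [IsDomain R] [IsDiscreteValuationRing R] [IsFractionRing R K] in
theorem co_inv (g : Pt R c.A R) : co c e g⁻¹ = (co c e g)⁻¹ := _root_.map_inv (coHom c e) g

omit [IsDomain R] [IsDiscreteValuationRing R] in
theorem co_injective : Function.Injective (co c e) := by
  intro g h hgh
  exact Pt.map_injective (IsFractionRing.injective R K : Function.Injective (Algebra.ofId R K))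
    (coM_injective c e hgh)

omit [IsDomain R] [IsDiscreteValuationRing R] [IsFractionRing R K] in
theorem algebraMap_apply (g : Pt R c.A R) (π : R) (m : ℕ) (n : ℤ) (a : c.A)
    (ha : LaurentPolynomial.C (algebraMap R K π) ^ m * LaurentPolynomial.T n = (univM c e).hom a) :
    algebraMap R K (g.hom a) = algebraMap R K π ^ m * ((co c e g ^ n : Kˣ) : K) := by
  have h2 : algebraMap R K (g.hom a) = GmAlg.aev (coM c e (Pt.map (Algebra.ofId R K) g)) ((univM c e).hom a) :=
    hom_apply_M c e (Pt.map (Algebra.ofId R K) g) a
  have h3 : (GmAlg.aev (coM c e (Pt.map (Algebra.ofId R K) g)) : K[T;T⁻¹] →ₐ[K] K)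
      (LaurentPolynomial.C (algebraMap R K π)) = algebraMap R K π := GmAlg.aev_C _ _
  rw [h2, ← ha, _root_.map_mul, _root_.map_pow, GmAlg.aev_T, h3]
  rfl

/-- The coordinates of `R`-points are integral. -/
theorem exists_eq_co (g : Pt R c.A R) : ∃ r : R, algebraMap R K r = co c e g := by
  obtain ⟨π, hπ⟩ := IsDiscreteValuationRing.exists_irreducible R
  have hp0 : algebraMap R K π ≠ 0 := by
    rw [Ne, FaithfulSMul.algebraMap_eq_zero_iff]; exact hπ.ne_zero
  obtain ⟨m, a, ha⟩ := exists_den_univM c e hπ (LaurentPolynomial.T 1)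
  rcases ValuationRing.isInteger_or_isInteger R ((co c e g : Kˣ) : K) with ⟨r, hr⟩ | ⟨s, hs⟩
  · exact ⟨r, hr⟩
  · by_cases hsu : IsUnit s
    · obtain ⟨v, hv⟩ := hsu
      refine ⟨((v⁻¹ : Rˣ) : R), ?_⟩
      have h1 : algebraMap R K ((v⁻¹ : Rˣ) : R) * algebraMap R K s = 1 := by
        rw [← _root_.map_mul, ← hv, Units.inv_mul, _root_.map_one]
      rw [hs] at h1
      have h2 : ((co c e g : Kˣ) : K) ≠ 0 := Units.ne_zero _
      field_simp at h1
      exact h1
    · exfalso
      have hsm : s ∈ IsLocalRing.maximalIdeal R := (IsLocalRing.mem_maximalIdeal _).2 hsu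
      rw [(IsDiscreteValuationRing.irreducible_iff_uniformizer π).1 hπ, Ideal.mem_span_singleton] at hsm
      obtain ⟨s', rfl⟩ := hsm
      have h1 := algebraMap_apply c e (g ^ (m + 1)) π m 1 a ha
      rw [zpow_one, co_pow, Units.val_pow_eq_pow_val] at h1
      have h2 : algebraMap R K π ^ m = algebraMap R K ((g ^ (m + 1)).hom a) *
          algebraMap R K (π * s') ^ (m + 1) := by
        rw [h1, hs, mul_assoc, ← mul_pow, mul_inv_cancel₀ (Units.ne_zero _), one_pow, _root_.mul_one]
      rw [← _root_.map_pow, ← _root_.map_pow, ← _root_.map_mul] at h2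
      have h3 := IsFractionRing.injective R K h2
      have h4 : π ^ m * 1 = π ^ m * (π * ((g ^ (m + 1)).hom a * s' ^ (m + 1))) := by
        rw [_root_.mul_one, mul_pow] at *
        linear_combination h3
      have h5 := mul_left_cancel₀ (pow_ne_zero m hπ.ne_zero) h4
      exact hπ.not_isUnit (isUnit_of_dvd_one ⟨_, h5⟩)

/-- The coordinates of `R`-points are units. -/
theorem exists_unit_eq_co (g : Pt R c.A R) : ∃ r : Rˣ, algebraMap R K r = co c e g := by
  obtain ⟨r, hr⟩ := exists_eq_co c e g
  obtain ⟨s, hs⟩ := exists_eq_co c e g⁻¹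
  have hrs : r * s = 1 := by
    apply IsFractionRing.injective R K
    rw [_root_.map_mul, hr, hs, co_inv, Units.mul_inv, _root_.map_one]
  exact ⟨⟨r, s, hrs, by rw [_root_.mul_comm, hrs]⟩, hr⟩

end co

/-- The powers of the coordinate function extend to the model. -/
theorem exists_T [IsAlgClosed κ] [IsAdicComplete (IsLocalRing.maximalIdeal R) R] [Smooth G.hom] (n : ℤ) :
    ∃ a : c.A, (univM c e).hom a = LaurentPolynomial.T n := by
  obtain ⟨π, hπ⟩ := IsDiscreteValuationRing.exists_irreducible R
  have hsm : Algebra.Smooth R c.A := CompSch.algebra_smooth c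
  have hmax : IsLocalRing.maximalIdeal R = Ideal.span {π} :=
    (IsDiscreteValuationRing.irreducible_iff_uniformizer π).1 hπ
  have hred : IsReduced (c.A ⧸ Ideal.span {algebraMap R c.A π}) := by
    have h1 : Smooth (Spec.map (CommRingCat.ofHom (CompTop.kap (A := c.A) hmax))) :=
      MorphismProperty.of_isPullback (P := @Smooth) (CompTop.isPullback hmax) (CompSch.smooth_chart c)
    have h2 : AlgebraicGeometry.IsReduced (Spec (CommRingCat.of (c.A ⧸ Ideal.span {algebraMap R c.A π}))) :=
      Groth.Agent.Flat2B.SmoothGeom.isReduced_of_smooth (K := κ)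
        (Spec.map (CommRingCat.ofHom (CompTop.kap (A := c.A) hmax)))
    exact (affine_isReduced_iff _).1 h2
  obtain ⟨m, a, ha⟩ := exists_den_univM c e hπ (LaurentPolynomial.T n)
  induction m generalizing a with
  | zero => exact ⟨a, by rw [← ha, pow_zero, _root_.one_mul]⟩
  | succ m ih =>
    by_cases hdvd : algebraMap R c.A π ∣ a
    · obtain ⟨a', rfl⟩ := hdvd
      refine ih a' ?_
      have h1 : (univM c e).hom (algebraMap R c.A π) = LaurentPolynomial.C (algebraMap R K π) := by
        rw [AlgHom.commutes, IsScalarTower.algebraMap_apply R K K[T;T⁻¹], LaurentPolynomial.C_eq_algebraMap]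
      rw [_root_.map_mul, h1, pow_succ', mul_assoc] at ha
      have h2 : LaurentPolynomial.C (algebraMap R K π) ≠ 0 := by
        rw [Ne, LaurentPolynomial.C_eq_algebraMap, FaithfulSMul.algebraMap_eq_zero_iff,
          FaithfulSMul.algebraMap_eq_zero_iff]
        exact hπ.ne_zero
      exact mul_left_cancel₀ h2 ha
    · exfalso
      obtain ⟨x, hx⟩ := exists_point hmax hred a hdvd
      obtain ⟨g, hg⟩ := Comp.exists_lift x
      have h1 := algebraMap_apply c e (Pt.mk g) π (m + 1) n a ha
      obtain ⟨r, hr⟩ := exists_unit_eq_co c e (Pt.mk g)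
      have h2 : ((co c e (Pt.mk g) ^ n : Kˣ) : K) = algebraMap R K ((r ^ n : Rˣ) : R) := by
        have h3 : co c e (Pt.mk g) = Units.map (algebraMap R K : R →* K) r := by
          ext; exact hr.symm
        rw [h3, ← _root_.map_zpow]
        rfl
      rw [h2, ← _root_.map_pow, ← _root_.map_mul] at h1
      have h3 := IsFractionRing.injective R K h1
      have h4 : x a = IsLocalRing.residue R (g a) := by
        rw [← hg]; rfl
      apply hx
      rw [h4]
      change IsLocalRing.residue R ((Pt.mk g : Pt R c.A R).hom a) = 0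
      rw [h3, IsLocalRing.residue_eq_zero_iff, hmax, Ideal.mem_span_singleton, pow_succ']
      exact ⟨π ^ m * ((r ^ n : Rˣ) : R), by ring⟩

end K485.GmGa
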