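import Groth.Agent.Neron.K485.GmGa
import Groth.Agent.Neron.K485.CompCyc
import Groth.Agent.Sga7.H742.PowUnram
import Groth.Agent.Sga7.H274.TorsLift
import Groth.Agent.Sga3.H826.SmSection

/-!
# Component groups of smooth affine models of the multiplicative group with additive identity component
-/

set_option autoImplicit false
universe u

open CategoryTheory AlgebraicGeometry Limits MonoidalCategory CartesianMonoidalCategory
open scoped Polynomial LaurentPolynomial MonObj

namespace K485.GmGaMain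

open Groth.Agent.Sga3B Groth.Agent.Sga3B.Cell Groth.Agent.Sga3B.PinMod Groth.Agent.Sga3B.GaPts K486 K486.ModelPts
  K486.CoPts K486.CoFlat K486.CompSch K485.GmGa Groth.Agent.Sga7.H620.Neutral Groth.Agent.Sga7.H274.TorsLift

section comm

variable {R : Type u} [CommRing R] [IsDomain R] [IsDiscreteValuationRing R]
  {K : Type u} [Field K] [Algebra R K] [IsFractionRing R K]
  {G : Over (Spec (CommRingCat.of R))} [GrpObj G] (c : Chart G (𝟙 (Spec (CommRingCat.of R))))
  (e : Red.bc (sK R K) G ≅ Red.Gm (Spec (CommRingCat.of K))) [IsMonHom e.hom]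

include c e in
/-- Points with values in flat algebras commute. -/
theorem pts_comm (B : Type u) [CommRing B] [Algebra R B] [Module.Flat R B] (x y : Pt R c.A B) :
    x * y = y * x := by
  apply Pt.map_injective (incl_injective (R := R) (K := K) B)
  apply coM_injective c e
  rw [Pt.map_mul, Pt.map_mul, coM_mul, coM_mul, mul_comm]

include c e in
/-- A flat affine group scheme with generic fibre `𝔾_m` is commutative. -/
theorem isCommMonObj [IsAffineHom G.hom] [Flat G.hom] : IsCommMonObj G := by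
  have h1 : IsAffineHom (G ⊗ G).hom := by
    change IsAffineHom (pullback.fst G.hom G.hom ≫ G.hom)
    have : IsAffineHom (pullback.fst G.hom G.hom) :=
      MorphismProperty.pullback_fst (P := @IsAffineHom) G.hom G.hom inferInstance
    infer_instance
  have h2 : Flat (G ⊗ G).hom := by
    change Flat (pullback.fst G.hom G.hom ≫ G.hom)
    infer_instance
  obtain ⟨B, _, _, _, ⟨i⟩⟩ := HomCrit.exists_iso (G ⊗ G)
  have h3 : ∀ x y : tB (𝟙 (Spec (CommRingCat.of R))) B ⟶ G, x * y = y * x := by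
    intro x y
    obtain ⟨x, rfl⟩ := (c.pts B).surjective x
    obtain ⟨y, rfl⟩ := (c.pts B).surjective y
    rw [← map_mul, ← map_mul, pts_comm c e]
  have h4 : fst G G * snd G G = snd G G * fst G G := by
    rw [← cancel_epi i.hom, MonObj.comp_mul, MonObj.comp_mul]
    exact h3 _ _
  refine ⟨?_⟩
  have h5 : (fst G G * snd G G : G ⊗ G ⟶ G) = μ[G] := by
    rw [Hom.mul_def, lift_fst_snd, Category.id_comp]
  have h6 : (snd G G * fst G G : G ⊗ G ⟶ G) = (β_ G G).hom ≫ μ[G] := by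
    rw [Hom.mul_def]
    rfl
  rw [← h6, ← h4, h5]

end comm

section pts

variable {R : Type u} [CommRing R] {G : Over (Spec (CommRingCat.of R))} [GrpObj G]
  (c : Chart G (𝟙 (Spec (CommRingCat.of R))))

lemma specMap_self' (R : Type u) [CommRing R] :
    Spec.map (CommRingCat.ofHom (algebraMap R R)) ≫ 𝟙 (Spec (CommRingCat.of R)) = 𝟙 (Spec (CommRingCat.of R)) := by
  rw [Algebra.algebraMap_self, CommRingCat.ofHom_id, Spec.map_id, Category.comp_id]

/-- sections of `G` -/
noncomputable def wR : Pt R c.A R ≃* (𝟙_ (Over (Spec (CommRingCat.of R))) ⟶ G) :=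
  (c.pts R).trans (tr _ (specMap_self' R) _)

lemma wR_left (g : Pt R c.A R) : (wR c g).left = Spec.map (CommRingCat.ofHom (g.hom : c.A →+* R)) ≫ c.p := by
  have h1 : (wR c g).left = 𝟙 _ ≫ (c.pts R g).left := tr_left _ (specMap_self' R) _ _
  rw [h1, c.pts_left]
  exact Category.id_comp _

lemma bcPt_wR {k : Type u} [Field k] [Algebra R k] (g : Pt R c.A R) :
    bcPt (sK R k) G (wR c g) = w c k (Pt.map (Algebra.ofId R k) g) := by
  rw [bcPt_eq_iff, BcPts.bcEquiv, Adjunction.homEquiv_counit]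
  have h1 : ((Over.map (sK R k)).map (w c k (Pt.map (Algebra.ofId R k) g)) ≫
      (Over.mapPullbackAdj (sK R k)).counit.app G).left =
      (w c k (Pt.map (Algebra.ofId R k) g)).left ≫ pullback.fst G.hom (sK R k) := by
    simp
  rw [h1, w_fst, wR_left, ← Category.assoc, ← Spec.map_comp, ← CommRingCat.ofHom_comp]
  rfl

end pts

section ga

variable {k : Type u} [Field k]

theorem connectedSpace_ga : ConnectedSpace (Red.Ga (Spec (CommRingCat.of k))).left := by
  have h1 : IsIso (GaModel.t₀ k).left := inferInstance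
  have h2 : ConnectedSpace (tB (𝟙 (Spec (CommRingCat.of k))) k[X]).left := by
    change ConnectedSpace (PrimeSpectrum k[X])
    infer_instance
  exact (Scheme.homeoOfIso (asIso (GaModel.t₀ k).left)).surjective.connectedSpace
    (Scheme.homeoOfIso (asIso (GaModel.t₀ k).left)).continuous

theorem gaPt_zero {S : Scheme.{u}} (T : Over S) : gaPt T 0 = 1 := by
  have h1 : gaPt T (0 + 0) = gaPt T 0 * gaPt T 0 := gaPt_add T 0 0
  rw [add_zero] at h1
  let _ : Group (T ⟶ Red.Ga S) := Hom.group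
  exact left_eq_mul.1 h1

theorem gaPt_pow {S : Scheme.{u}} (T : Over S) (x : Γ(T.left, ⊤)) (n : ℕ) :
    gaPt T x ^ n = gaPt T (n • x) := by
  induction n with
  | zero =>
    rw [pow_zero, zero_smul, gaPt_zero]
  | succ n ih => rw [pow_succ, ih, ← gaPt_add, succ_nsmul]

/-- Divisibility of the additive group. -/
theorem exists_root (n : ℕ) (hn : (n : k) ≠ 0) (q : 𝟙_ (Over (Spec (CommRingCat.of k))) ⟶ Red.Ga (Spec (CommRingCat.of k))) :
    ∃ q', q' ^ n = q := by
  let ψ : k →+* Γ((𝟙_ (Over (Spec (CommRingCat.of k)))).left, ⊤) :=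
    (Scheme.ΓSpecIso (CommRingCat.of k)).inv.hom
  refine ⟨gaPt _ (ψ (n : k)⁻¹ * Red.gaFn q), ?_⟩
  rw [gaPt_pow, nsmul_eq_mul, ← mul_assoc]
  have h1 : ((n : ℕ) : Γ((𝟙_ (Over (Spec (CommRingCat.of k)))).left, ⊤)) = ψ (n : k) := (map_natCast ψ n).symm
  rw [h1, ← map_mul, mul_inv_cancel₀ hn, map_one, one_mul, gaPt_gaFn]

end ga

variable {R : Type u} [CommRing R] [IsDomain R] [IsDiscreteValuationRing R]
  {K : Type u} [Field K] [Algebra R K] [IsFractionRing R K]
  {G : Over (Spec (CommRingCat.of R))} [GrpObj G] (c : Chart G (𝟙 (Spec (CommRingCat.of R))))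
  (e : Red.bc (sK R K) G ≅ Red.Gm (Spec (CommRingCat.of K))) [IsMonHom e.hom]

/-- the residue field -/
local notation "κ" => IsLocalRing.ResidueField R

section theta

variable (a₁ a₂ : c.A) (h₁ : (univM c e).hom a₁ = LaurentPolynomial.T 1)
  (h₂ : (univM c e).hom a₂ = LaurentPolynomial.T (-1))

include h₁ h₂ in
theorem mul_eq_one [Module.Flat R c.A] : a₁ * a₂ = 1 := by
  apply injective_univM c e
  rw [map_mul, h₁, h₂, ← LaurentPolynomial.T_add, map_one]
  exact LaurentPolynomial.T_zero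

include h₁ in
theorem hom_eq_co (g : Pt R c.A R) : algebraMap R K (g.hom a₁) = co c e g := by
  have h := algebraMap_apply c e g 1 0 1 a₁ (by rw [pow_zero, one_mul, h₁])
  rw [h, pow_zero, one_mul, zpow_one]

include h₁ in
theorem one_hom {B : Type u} [CommRing B] [Algebra R B] : (1 : Pt R c.A B).hom a₁ = 1 := by
  rw [algebraMap_counit]
  have h : counit c a₁ = 1 := by
    apply IsFractionRing.injective R K
    have h2 := hom_eq_co c e a₁ h₁ 1
    rw [co_one] at h2
    rw [map_one]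
    exact h2
  rw [h, map_one]

include h₁ in
theorem hom_mul [IsAdicComplete (IsLocalRing.maximalIdeal R) R] [Algebra.FormallySmooth R c.A]
    (x y : Pt R c.A κ) : (x * y).hom a₁ = x.hom a₁ * y.hom a₁ := by
  obtain ⟨g, hg⟩ := Comp.exists_lift x.hom
  obtain ⟨h, hh⟩ := Comp.exists_lift y.hom
  have hg' : Pt.map (Algebra.ofId R κ) (Pt.mk g : Pt R c.A R) = x := hg
  have hh' : Pt.map (Algebra.ofId R κ) (Pt.mk h : Pt R c.A R) = y := hh
  have e1 : ((Pt.mk g : Pt R c.A R) * Pt.mk h).hom a₁ =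
      (Pt.mk g : Pt R c.A R).hom a₁ * (Pt.mk h : Pt R c.A R).hom a₁ := by
    apply IsFractionRing.injective R K
    rw [map_mul, hom_eq_co c e a₁ h₁, hom_eq_co c e a₁ h₁, hom_eq_co c e a₁ h₁, co_mul]
    rfl
  rw [← hg', ← hh', ← Pt.map_mul, Pt.map_hom_apply, Pt.map_hom_apply, Pt.map_hom_apply, e1, map_mul]

/-- The reduction of the coordinate. -/
noncomputable def theta [IsAdicComplete (IsLocalRing.maximalIdeal R) R] [Algebra.FormallySmooth R c.A]
    [Module.Flat R c.A] : Pt R c.A κ →* κˣ where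
  toFun x := ⟨x.hom a₁, x.hom a₂, by rw [← map_mul, mul_eq_one c e a₁ a₂ h₁ h₂, map_one],
    by rw [← map_mul, mul_comm, mul_eq_one c e a₁ a₂ h₁ h₂, map_one]⟩
  map_one' := by ext; exact one_hom c e a₁ h₁
  map_mul' x y := by ext; exact hom_mul c e a₁ h₁ x y

end theta

section rho

variable (a₁ a₂ : c.A) (h₁ : (univM c e).hom a₁ = LaurentPolynomial.T 1)
  (h₂ : (univM c e).hom a₂ = LaurentPolynomial.T (-1))

include h₁ h₂ in
/-- The reduced coordinate is trivial on the additive group. -/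
theorem rho_hom (j₀ : Red.Ga (Spec (CommRingCat.of κ)) ⟶ Red.bc (sK R κ) G) [IsMonHom j₀]
    [Module.Flat R c.A] (ρ : Pt R c.A κ[X])
    (hρ : u κ[X] c (Iso.refl (Red.bc (sK R κ) G)) ρ = GaModel.t₀ κ ≫ j₀) : ρ.hom a₁ = 1 := by
  have h3 : ρ.hom a₁ * ρ.hom a₂ = 1 := by rw [← map_mul, mul_eq_one c e a₁ a₂ h₁ h₂, map_one]
  obtain ⟨r, -, hr⟩ := Polynomial.isUnit_iff.1 (IsUnit.of_mul_eq_one _ h3)
  have h4 : Pt.map ((Polynomial.aeval (0 : κ) : κ[X] →ₐ[κ] κ).restrictScalars R) ρ = 1 := by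
    apply (u κ c (Iso.refl (Red.bc (sK R κ) G))).injective
    rw [u_map, hρ, ← Category.assoc, GaModel.t₀, tMap_gaPt, Polynomial.aeval_X, map_one]
    have h5 : gaPt (tB (𝟙 (Spec (CommRingCat.of κ))) κ) (fnOf (𝟙 (Spec (CommRingCat.of κ))) (0 : κ)) = 1 := by
      have h6 : fnOf (𝟙 (Spec (CommRingCat.of κ))) (0 : κ) = 0 := map_zero _
      rw [h6]
      exact gaPt_zero _
    rw [h5, MonObj.one_comp]
  have h7 := congrArg (fun z : Pt R c.A κ => z.hom a₁) h4
  have h8 : (Polynomial.aeval (0 : κ) : κ[X] →ₐ[κ] κ) (ρ.hom a₁) = 1 := h7.trans (one_hom c e a₁ h₁)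
  rw [← hr, Polynomial.aeval_C, Algebra.algebraMap_self_apply] at h8
  rw [← hr, h8, map_one]

include h₁ h₂ in
theorem hom_ga (j₀ : Red.Ga (Spec (CommRingCat.of κ)) ⟶ Red.bc (sK R κ) G) [IsMonHom j₀]
    [Module.Flat R c.A] (z : tB (𝟙 (Spec (CommRingCat.of κ))) κ ⟶ Red.Ga (Spec (CommRingCat.of κ))) :
    ((u κ c (Iso.refl (Red.bc (sK R κ) G))).symm (z ≫ j₀)).hom a₁ = 1 := by
  let ρ : Pt R c.A κ[X] := (u κ[X] c (Iso.refl (Red.bc (sK R κ) G))).symm (GaModel.t₀ κ ≫ j₀)
  have hρ : u κ[X] c (Iso.refl (Red.bc (sK R κ) G)) ρ = GaModel.t₀ κ ≫ j₀ := MulEquiv.apply_symm_apply _ _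
  set b : κ := unFn _ (Red.gaFn z) with hb
  have h1 : z = tMap _ (Polynomial.aeval b : κ[X] →ₐ[κ] κ) ≫ GaModel.t₀ κ := by
    apply gaFn_injective
    rw [GaModel.t₀, tMap_gaPt, gaFn_gaPt, Polynomial.aeval_X, hb, fnOf_unFn]
  have h2 : z ≫ j₀ = u κ c (Iso.refl (Red.bc (sK R κ) G))
      (Pt.map ((Polynomial.aeval b : κ[X] →ₐ[κ] κ).restrictScalars R) ρ) := by
    rw [u_map, hρ, ← Category.assoc, ← h1]
  rw [h2, MulEquiv.symm_apply_apply, Pt.map_hom_apply, rho_hom c e a₁ a₂ h₁ h₂ j₀ ρ hρ, map_one]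

include h₁ h₂ in
theorem w_symm_ga (j₀ : Red.Ga (Spec (CommRingCat.of κ)) ⟶ Red.bc (sK R κ) G) [IsMonHom j₀]
    [Module.Flat R c.A]
    (q : 𝟙_ (Over (Spec (CommRingCat.of κ))) ⟶ Red.Ga (Spec (CommRingCat.of κ))) :
    ((w c κ).symm (q ≫ j₀)).hom a₁ = 1 := by
  have h1 := hom_ga c e a₁ a₂ h₁ h₂ j₀ ((tr _ (specMap_self κ) _).symm q)
  have h2 : (w c κ).symm (q ≫ j₀) =
      (u κ c (Iso.refl (Red.bc (sK R κ) G))).symm (((tr _ (specMap_self κ) _).symm q) ≫ j₀) := by
    rw [MulEquiv.symm_apply_eq]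
    change _ = (tr _ (specMap_self κ) _) ((u κ c (Iso.refl (Red.bc (sK R κ) G)))
      ((u κ c (Iso.refl (Red.bc (sK R κ) G))).symm (((tr _ (specMap_self κ) _).symm q) ≫ j₀)))
    rw [MulEquiv.apply_symm_apply, ← MulEquiv.symm_apply_eq]
    exact (Category.assoc (obj := Over (Spec (CommRingCat.of κ))) _ q j₀).symm
  rw [h2]
  exact h1

end rho

/-- A root of unity of order prime to the residue characteristic which is `1` modulo the maximal ideal is `1`. -/
theorem eq_one_of_pow {R : Type u} [CommRing R] [IsDomain R] [IsLocalRing R] (r : R) (n : ℕ)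
    (hn : (n : IsLocalRing.ResidueField R) ≠ 0) (hr : r ^ n = 1) (h1 : IsLocalRing.residue R r = 1) : r = 1 := by
  have h2 : (r - 1) * (∑ i ∈ Finset.range n, r ^ i) = 0 := by
    rw [mul_geom_sum, hr, sub_self]
  rcases mul_eq_zero.1 h2 with h3 | h3
  · exact sub_eq_zero.1 h3
  · exfalso
    apply hn
    have h4 := congrArg (IsLocalRing.residue R) h3
    rw [map_sum, map_zero] at h4
    simp only [map_pow, h1, one_pow, Finset.sum_const, Finset.card_range, nsmul_eq_mul, mul_one] at h4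
    exact h4

include e in
/-- **Component groups** of smooth affine models of `𝔾_m` with additive identity component. -/
theorem main [IsAlgClosed κ] [IsAdicComplete (IsLocalRing.maximalIdeal R) R] [Smooth G.hom] [IsAffineHom G.hom]
    (j₀ : Red.Ga (Spec (CommRingCat.of κ)) ⟶ Red.bc (sK R κ) G) [IsMonHom j₀] [IsOpenImmersion j₀.left]
    (P : ℕ) (hPN : ∀ N : ℕ, 0 < N → ∃ s n : ℕ, N = P ^ s * n ∧ (n : κ) ≠ 0) :
    ∃ x₀ : 𝟙_ (Over (Spec (CommRingCat.of κ))) ⟶ Red.bc (sK R κ) G,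
      ∀ x : 𝟙_ (Over (Spec (CommRingCat.of κ))) ⟶ Red.bc (sK R κ) G, ∃ s m : ℕ,
        CompCyc.pt (x ^ (P ^ s)) ∈ connectedComponent (CompCyc.pt ((x₀ ^ m) ^ (P ^ s))) := by
  obtain ⟨c⟩ := exists_chart G (𝟙 (Spec (CommRingCat.of R)))
  have hsm : Algebra.Smooth R c.A := CompSch.algebra_smooth c
  have hcomm := isCommMonObj c e
  obtain ⟨a₁, h₁⟩ := exists_T c e 1
  obtain ⟨a₂, h₂⟩ := exists_T c e (-1)
  have hH : IsCommMonObj (Red.bc (sK R κ) G) := inferInstance
  have hlft : LocallyOfFiniteType (Red.bc (sK R κ) G).hom := inferInstanceAs (LocallyOfFiniteType (pullback.snd G.hom _))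
  have hqc : QuasiCompact (Red.bc (sK R κ) G).hom := inferInstanceAs (QuasiCompact (pullback.snd G.hom _))
  have hconn := connectedSpace_ga (k := κ)
  have hRh : EtCoh.IsStrictlyHenselianLocalRing R :=
    ⟨Groth.Agent.Sga3.H826.SmSection.henselianLocalRing_of_isAdicComplete R, inferInstance⟩
  let Θ : (𝟙_ (Over (Spec (CommRingCat.of κ))) ⟶ Red.bc (sK R κ) G) →* κˣ :=
    (theta c e a₁ a₂ h₁ h₂).comp ((w c κ).symm : _ →* _)
  have hΘ : ∀ q : 𝟙_ (Over (Spec (CommRingCat.of κ))) ⟶ Red.Ga (Spec (CommRingCat.of κ)), Θ (q ≫ j₀) = 1 := by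
    intro q
    ext
    exact w_symm_ga c e a₁ a₂ h₁ h₂ j₀ q
  refine CompCyc.exists_generator j₀ (fun x y => mul_comm x y) Θ hΘ P (fun z hz N hN hq => ?_)
  · obtain ⟨s, n, rfl, hn⟩ := hPN N hN
    obtain ⟨q, hq⟩ := hq
    obtain ⟨q', rfl⟩ := exists_root n hn q
    refine ⟨s, q', ?_⟩
    set v := z ^ (P ^ s) * (q' ≫ j₀)⁻¹ with hv
    have hvn : v ^ n = 1 := by
      rw [hv, mul_pow, ← pow_mul, ← hq, inv_pow]
      have h3 : (q' ^ n) ≫ j₀ = (q' ≫ j₀) ^ n := MonObj.pow_comp _ _ _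
      rw [h3, mul_inv_cancel]
    have hne : n ≠ 0 := by
      rintro rfl
      exact hn (by simp)
    have het : Etale ((𝟙 G : G ⟶ G) ^ n).left := by
      apply Groth.Agent.Sga7.H742.PowUnram.etale_pow
      intro t
      have hu : IsUnit (n : R) := by
        rw [← IsLocalRing.residue_ne_zero_iff_isUnit, map_natCast]
        exact hn
      let φ : R →+* (Spec (CommRingCat.of R)).residueField t :=
        ((Scheme.ΓSpecIso (CommRingCat.of R)).inv ≫ (Spec (CommRingCat.of R)).presheaf.germ ⊤ t trivial ≫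
          (Spec (CommRingCat.of R)).residue t).hom
      have hφ := (hu.map φ).ne_zero
      rwa [map_natCast] at hφ
    obtain ⟨w₀, hw₀, hw₀'⟩ := exists_torsion_lift hRh G n (sK R κ)
      (IsLocalRing.comap_closedPoint (IsLocalRing.residue R)) v hvn
    obtain ⟨g, rfl⟩ := (wR c).surjective w₀
    have hg : g ^ n = 1 := by
      apply (wR c).injective
      rw [map_pow, hw₀, map_one]
    rw [bcPt_wR] at hw₀'
    have hv1 : ((w c κ).symm v).hom a₁ = 1 := by
      have hΘv : Θ v = 1 := by rw [hv, map_mul, map_pow, map_inv, hz, hΘ, one_pow, inv_one, mul_one]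
      exact congrArg Units.val hΘv
    have hg1 : IsLocalRing.residue R (g.hom a₁) = 1 := by
      rw [← hw₀', MulEquiv.symm_apply_apply] at hv1
      exact hv1
    have hgn : g.hom a₁ ^ n = 1 := by
      apply IsFractionRing.injective R K
      rw [map_pow, hom_eq_co c e a₁ h₁, ← Units.val_pow_eq_pow_val, ← co_pow, hg, co_one, map_one]
      rfl
    have hg2 := eq_one_of_pow _ n hn hgn hg1
    have hg3 : g = 1 := by
      apply co_injective c e
      ext
      rw [← hom_eq_co c e a₁ h₁, hg2, co_one, map_one]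
      rfl
    rw [hg3, Pt.map_one, map_one] at hw₀'
    rw [← hw₀', eq_comm, mul_inv_eq_one] at hv
    exact hv.symm

end K485.GmGaMain
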