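import Groth.Agent.Dix.NeronEllMain

/-!
# Extending a group law from the generic fibre by translations, II

A variant of `Dix.NeronEllGrp` and `Dix.NeronEllMain` in which only the translations (and the inverse) of the generic
fibre are assumed to extend, and the base is any strictly henselian discrete valuation ring with algebraically closed
residue field.
-/

set_option autoImplicit false

universe u

open CategoryTheory CategoryTheory.Limits AlgebraicGeometry MonoidalCategory CartesianMonoidalCategory
open scoped MonObj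

namespace K485.GrpExt

open Groth.Agent.Dix Groth.Agent.Dix.GenOpen Groth.Agent.Dix.GenExt Groth.Agent.Dix.NeronEllGrp

variable {R : Type u} [CommRing R] [IsDomain R] [IsDiscreteValuationRing R]

/-- The multiplication of the generic fibre extends everywhere. -/
theorem extAt_mulGen (hR : EtCoh.IsStrictlyHenselianLocalRing R)
    [IsAlgClosed (IsLocalRing.ResidueField R)]
    (N : Over (Spec (CommRingCat.of R))) [Smooth N.hom] [IsSeparated N.hom] [QuasiCompact N.hom]
    [GrpObj ((Neron.genericFibre R).obj N)]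
    (hN : ∀ b : Spec (CommRingCat.of (FractionRing R)) ⟶ N.left, b ≫ N.hom = Neron.genPt R →
      ∃ a : Spec (CommRingCat.of R) ⟶ N.left, a ≫ N.hom = 𝟙 _ ∧ Neron.genPt R ≫ a = b)
    (haut : ∀ a b : (Neron.genericFibre R).obj (𝟙_ (Over (Spec (CommRingCat.of R)))) ⟶
        (Neron.genericFibre R).obj N, ∃ f : N ⟶ N, (Neron.genericFibre R).map f = B N a b)
    (z : (N ⊗ N).left) : ExtAt (mulGen N) z := by
  by_contra hz
  have : Smooth (N ⊗ N).hom := inferInstanceAs (Smooth (pullback.fst N.hom N.hom ≫ N.hom))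
  have hqc : QuasiCompact (N ⊗ N).hom := inferInstanceAs (QuasiCompact (pullback.fst N.hom N.hom ≫ N.hom))
  have hcpt : CompactSpace (N ⊗ N).left := (quasiCompact_iff_compactSpace (f := (N ⊗ N).hom)).1 hqc
  have hsm1 : Smooth (𝟙_ (Over (Spec (CommRingCat.of R)))).hom := inferInstanceAs (Smooth (𝟙 _))
  obtain ⟨z', hz', hzc⟩ := IsClosed.exists_closed_singleton (isOpen_extAt (mulGen N)).isClosed_compl ⟨z, hz⟩
  have hcl : ∀ w : (N ⊗ N).left, ¬ ExtAt (mulGen N) w → (N ⊗ N).hom w = IsLocalRing.closedPoint R := by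
    intro w hw
    by_contra h
    exact hw (extAt_of_genOpen _ _ h)
  have hz's := hcl z' hz'
  have hH : HenselianLocalRing R := hR.1
  obtain ⟨σ, hσ, hσz⟩ := NeronEllPts.exists_lift_closed (N ⊗ N).hom z' hzc hz's
  obtain ⟨y, hy, hy2⟩ := exists_not_two_le z' hz's
  have hyext : ExtAt (mulGen N) y := extAt_of_not_two_le hR hN (mulGen N) y hy2
  obtain ⟨τ, hτ, hτy⟩ := NeronEllPts.exists_section hR (N ⊗ N).hom y hy _ (isOpen_extAt (mulGen N)) hyext
  let σ' : 𝟙_ (Over (Spec (CommRingCat.of R))) ⟶ N ⊗ N := Over.homMk σ hσ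
  let τ' : 𝟙_ (Over (Spec (CommRingCat.of R))) ⟶ N ⊗ N := Over.homMk τ hτ
  let F := Neron.genericFibre R
  let a := F.map (τ' ≫ fst N N) * (F.map (σ' ≫ fst N N))⁻¹
  let b := (F.map (σ' ≫ snd N N))⁻¹ * F.map (τ' ≫ snd N N)
  obtain ⟨f, hf⟩ := haut a 1
  obtain ⟨f', hf'⟩ := haut 1 b
  obtain ⟨h, hh⟩ := haut a⁻¹ b⁻¹
  have e1 : (σ' ≫ fst N N) ≫ f = τ' ≫ fst N N := by
    apply ext_map
    rw [Functor.map_comp, hf]
    rw [comp_B, c_unit, c_unit, _root_.mul_one]
    exact inv_mul_cancel_right _ _
  have e2 : (σ' ≫ snd N N) ≫ f' = τ' ≫ snd N N := by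
    apply ext_map
    rw [Functor.map_comp, hf']
    rw [comp_B, c_unit, c_unit, _root_.one_mul]
    exact mul_inv_cancel_left _ _
  have e3 : σ' ≫ (f ⊗ₘ f') = τ' := by
    ext1
    · rw [Category.assoc, tensorHom_fst, ← Category.assoc, e1]
    · rw [Category.assoc, tensorHom_snd, ← Category.assoc, e2]
  have e4 : (f ⊗ₘ f').left z' = τ (IsLocalRing.closedPoint R) := by
    have : (σ' ≫ (f ⊗ₘ f')).left (IsLocalRing.closedPoint R) = τ (IsLocalRing.closedPoint R) := by
      rw [e3]; rfl
    rw [← this, Over.comp_left, Scheme.Hom.comp_apply]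
    congr 1
    exact hσz.symm
  have e5 : ExtAt (mulGen N) ((f ⊗ₘ f').left z') := by rw [e4]; exact hτy
  apply hz'
  have e6 := e5.comp (f ⊗ₘ f') h
  rwa [translate_mulGen N a b f f' h hf hf' hh] at e6

/-- A group structure on the generic fibre extends. -/
theorem exists_grpObj (hR : EtCoh.IsStrictlyHenselianLocalRing R)
    [IsAlgClosed (IsLocalRing.ResidueField R)]
    (N : Over (Spec (CommRingCat.of R))) [Smooth N.hom] [IsSeparated N.hom] [QuasiCompact N.hom]
    [GrpObj ((Neron.genericFibre R).obj N)]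
    (hN : ∀ b : Spec (CommRingCat.of (FractionRing R)) ⟶ N.left, b ≫ N.hom = Neron.genPt R →
      ∃ a : Spec (CommRingCat.of R) ⟶ N.left, a ≫ N.hom = 𝟙 _ ∧ Neron.genPt R ≫ a = b)
    (haut : ∀ a b : (Neron.genericFibre R).obj (𝟙_ (Over (Spec (CommRingCat.of R)))) ⟶
        (Neron.genericFibre R).obj N, ∃ f : N ⟶ N, (Neron.genericFibre R).map f = B N a b)
    (hinv : ∃ f : N ⟶ N, (Neron.genericFibre R).map f = (𝟙 ((Neron.genericFibre R).obj N))⁻¹) :
    Nonempty (GrpObj N) := by
  have : Smooth (N ⊗ N).hom := inferInstanceAs (Smooth (pullback.fst N.hom N.hom ≫ N.hom))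
  obtain ⟨mul, hmul⟩ := exists_map_eq (mulGen N) (extAt_mulGen hR N hN haut)
  obtain ⟨inv, hinv⟩ := hinv
  -- the unit section
  have hone : ∃ one : 𝟙_ (Over (Spec (CommRingCat.of R))) ⟶ N, (Neron.genericFibre R).map one = 1 := by
    let i : Spec (CommRingCat.of (FractionRing R)) ⟶
        pullback (𝟙 (Spec (CommRingCat.of R))) (Neron.genPt R) :=
      pullback.lift (Neron.genPt R) (𝟙 _) (by rw [Category.comp_id, Category.id_comp])
    let u : (Neron.genericFibre R).obj (𝟙_ (Over (Spec (CommRingCat.of R)))) ⟶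
      (Neron.genericFibre R).obj N := 1
    have hw : (i ≫ u.left ≫ pullback.fst N.hom (Neron.genPt R)) ≫ N.hom = Neron.genPt R := by
      rw [Category.assoc, Category.assoc, pullback.condition, ← Category.assoc u.left, hom_left_snd,
        ← Category.assoc]
      have : i ≫ pullback.snd (𝟙 (Spec (CommRingCat.of R))) (Neron.genPt R) = 𝟙 _ := pullback.lift_snd _ _ _
      exact (congrArg (· ≫ Neron.genPt R) this).trans (Category.id_comp _)
    obtain ⟨a, ha, ha'⟩ := hN _ hw
    refine ⟨Over.homMk a ha, ?_⟩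
    apply GenExt.hom_ext
    rw [map_left_fst]
    change pullback.fst (𝟙 (Spec (CommRingCat.of R))) (Neron.genPt R) ≫ a =
      u.left ≫ pullback.fst N.hom (Neron.genPt R)
    have h1 : pullback.fst (𝟙 (Spec (CommRingCat.of R))) (Neron.genPt R) =
        pullback.snd (𝟙 (Spec (CommRingCat.of R))) (Neron.genPt R) ≫ Neron.genPt R := by
      rw [← pullback.condition, Category.comp_id]
    have h2 : pullback.snd (𝟙 (Spec (CommRingCat.of R))) (Neron.genPt R) ≫ i = 𝟙 _ := by
      apply pullback.hom_ext
      · rw [Category.assoc, pullback.lift_fst, Category.id_comp, h1]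
      · rw [Category.assoc, pullback.lift_snd, Category.comp_id, Category.id_comp]
    rw [h1, Category.assoc, ha', ← Category.assoc, h2, Category.id_comp]
  obtain ⟨one, hone⟩ := hone
  exact GrpReflect.exists_grpObj (Neron.genericFibre R) N (fun Y => Smooth Y.hom)
    (inferInstanceAs (Smooth (𝟙 _))) inferInstance
    (fun A B hA hB => by
      have : Smooth A.hom := hA
      have : Smooth B.hom := hB
      exact inferInstanceAs (Smooth (pullback.fst A.hom B.hom ≫ A.hom)))
    (fun Y hY g g' h => by
      have : Smooth Y.hom := hY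
      exact ext_map g g' h) one hone mul hmul inv hinv


/-- **Criterion**: a smooth separated scheme of finite type over a strictly henselian discrete valuation ring with
algebraically closed residue field, whose generic fibre is an abelian variety, is a group scheme and a Néron model as
soon as points, translations and the inverse of the generic fibre extend. -/
theorem isNeronModelOf [HenselianLocalRing R] [IsAlgClosed (IsLocalRing.ResidueField R)]
    (N : Over (Spec (CommRingCat.of R))) [Smooth N.hom] [IsSeparated N.hom] [QuasiCompact N.hom]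
    [IsProper ((Neron.genericFibre R).obj N).hom] [GeometricallyIrreducible ((Neron.genericFibre R).obj N).hom]
    [GrpObj ((Neron.genericFibre R).obj N)]
    (hN : ∀ b : Spec (CommRingCat.of (FractionRing R)) ⟶ N.left, b ≫ N.hom = Neron.genPt R →
      ∃ a : Spec (CommRingCat.of R) ⟶ N.left, a ≫ N.hom = 𝟙 _ ∧ Neron.genPt R ≫ a = b)
    (haut : ∀ a b : (Neron.genericFibre R).obj (𝟙_ (Over (Spec (CommRingCat.of R)))) ⟶
        (Neron.genericFibre R).obj N, ∃ f : N ⟶ N, (Neron.genericFibre R).map f = B N a b)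
    (hinv : ∃ f : N ⟶ N, (Neron.genericFibre R).map f = (𝟙 ((Neron.genericFibre R).obj N))⁻¹) :
    Nonempty (GrpObj N) ∧
      Neron.IsNeronModelOf R N ((Neron.genericFibre R).obj N) (Iso.refl _) := by
  have hR : EtCoh.IsStrictlyHenselianLocalRing R := ⟨inferInstance, inferInstance⟩
  obtain ⟨hgrp⟩ := exists_grpObj hR N hN haut hinv
  refine ⟨⟨hgrp⟩, (Groth.Agent.S3250.result R hR N).2 ⟨?_, ?_⟩⟩
  · intro g g' hgg
    have : Smooth (Over.mk (𝟙 (Spec (CommRingCat.of R)))).hom := inferInstanceAs (Smooth (𝟙 _))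
    exact ext_map g g' hgg
  · intro u
    let i : Spec (CommRingCat.of (FractionRing R)) ⟶
        pullback (𝟙 (Spec (CommRingCat.of R))) (Neron.genPt R) :=
      pullback.lift (Neron.genPt R) (𝟙 _) (by rw [Category.comp_id, Category.id_comp])
    have hw : (i ≫ u.left ≫ pullback.fst N.hom (Neron.genPt R)) ≫ N.hom = Neron.genPt R := by
      rw [Category.assoc, Category.assoc, pullback.condition, ← Category.assoc u.left, hom_left_snd,
        ← Category.assoc]
      have : i ≫ pullback.snd (𝟙 (Spec (CommRingCat.of R))) (Neron.genPt R) = 𝟙 _ := pullback.lift_snd _ _ _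
      exact (congrArg (· ≫ Neron.genPt R) this).trans (Category.id_comp _)
    obtain ⟨a, ha, ha'⟩ := hN _ hw
    refine ⟨Over.homMk a ha, ?_⟩
    apply GenExt.hom_ext
    change ((Neron.genericFibre R).map _).left ≫ _ = _
    rw [map_left_fst]
    change pullback.fst (𝟙 (Spec (CommRingCat.of R))) (Neron.genPt R) ≫ a =
      u.left ≫ pullback.fst N.hom (Neron.genPt R)
    have h1 : pullback.fst (𝟙 (Spec (CommRingCat.of R))) (Neron.genPt R) =
        pullback.snd (𝟙 (Spec (CommRingCat.of R))) (Neron.genPt R) ≫ Neron.genPt R := by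
      rw [← pullback.condition, Category.comp_id]
    have h2 : pullback.snd (𝟙 (Spec (CommRingCat.of R))) (Neron.genPt R) ≫ i = 𝟙 _ := by
      apply pullback.hom_ext
      · rw [Category.assoc, pullback.lift_fst, Category.id_comp, h1]
      · rw [Category.assoc, pullback.lift_snd, Category.comp_id, Category.id_comp]
    rw [h1, Category.assoc, ha', ← Category.assoc, h2, Category.id_comp]

/-- The smooth part of a proper model in which all sections are smooth: every point of the generic fibre extends. -/
theorem exists_section_smoothPart (X : Over (Spec (CommRingCat.of R))) [LocallyOfFinitePresentation X.hom]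
    [UniversallyClosed X.hom]
    (hsec : ∀ a : Spec (CommRingCat.of R) ⟶ X.left, a ≫ X.hom = 𝟙 _ →
      ∀ s : Spec (CommRingCat.of R), a s ∈ X.hom.smoothLocus)
    (b : Spec (CommRingCat.of (FractionRing R)) ⟶ (Neron.smoothPart R X).left)
    (hb : b ≫ (Neron.smoothPart R X).hom = Neron.genPt R) :
    ∃ a : Spec (CommRingCat.of R) ⟶ (Neron.smoothPart R X).left,
      a ≫ (Neron.smoothPart R X).hom = 𝟙 _ ∧ Neron.genPt R ≫ a = b := by
  obtain ⟨a, ha, ha'⟩ := NeronEllMain.exists_section_of_isProper R X.hom (b ≫ X.hom.smoothLocus.ι) (by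
    rw [Category.assoc]; exact hb)
  have hr : Set.range a ⊆ Set.range X.hom.smoothLocus.ι := by
    rw [Scheme.Opens.range_ι]
    rintro _ ⟨s, rfl⟩
    exact hsec a ha s
  let a' : Spec (CommRingCat.of R) ⟶ X.hom.smoothLocus.toScheme := IsOpenImmersion.lift X.hom.smoothLocus.ι a hr
  have ha'' : a' ≫ X.hom.smoothLocus.ι = a := IsOpenImmersion.lift_fac _ _ _
  refine ⟨a', ?_, ?_⟩
  · change a' ≫ X.hom.smoothLocus.ι ≫ X.hom = _
    rw [← Category.assoc, ha'', ha]
  · refine (cancel_mono X.hom.smoothLocus.ι).1 ?_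
    refine (Category.assoc _ _ _).trans ?_
    rw [ha'', ha']
    rfl

/-- The smooth locus of a proper model is a group scheme and a Néron model, if sections land in it and automorphisms
extend. -/
theorem main [HenselianLocalRing R] (X : Over (Spec (CommRingCat.of R))) [LocallyOfFinitePresentation X.hom]
    [IsAlgClosed (IsLocalRing.ResidueField R)] [IsProper X.hom]
    [Smooth ((Neron.genericFibre R).obj X).hom] [GeometricallyIrreducible ((Neron.genericFibre R).obj X).hom]
    (hsec : ∀ a : Spec (CommRingCat.of R) ⟶ X.left, a ≫ X.hom = 𝟙 _ →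
      ∀ s : Spec (CommRingCat.of R), a s ∈ X.hom.smoothLocus)
    (haut : ∀ φ : (Neron.genericFibre R).obj (Neron.smoothPart R X) ≅
        (Neron.genericFibre R).obj (Neron.smoothPart R X),
      ∃ f : Neron.smoothPart R X ⟶ Neron.smoothPart R X, (Neron.genericFibre R).map f = φ.hom)
    (hG : Nonempty (GrpObj ((Neron.genericFibre R).obj X))) :
    Nonempty (GrpObj (Neron.smoothPart R X)) ∧
      Neron.IsNeronModelOf R (Neron.smoothPart R X) ((Neron.genericFibre R).obj (Neron.smoothPart R X))
      (Iso.refl _) := by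
  set N := Neron.smoothPart R X with hNdef
  have h1 : Smooth N.hom := NeronEllMain.smooth_smoothPart R X
  have h2 : IsSeparated N.hom := inferInstanceAs (IsSeparated (X.hom.smoothLocus.ι ≫ X.hom))
  have hnoeth : IsLocallyNoetherian X.left := LocallyOfFiniteType.isLocallyNoetherian X.hom
  have h3 : QuasiCompact N.hom := inferInstanceAs (QuasiCompact (X.hom.smoothLocus.ι ≫ X.hom))
  have hiso := NeronEllMain.isIso_map_incl R X
  let e : (Neron.genericFibre R).obj N ≅ (Neron.genericFibre R).obj X :=
    @asIso _ _ _ _ ((Neron.genericFibre R).map (NeronEllMain.incl R X)) hiso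
  have heq : ((Neron.genericFibre R).obj N).hom = e.hom.left ≫ ((Neron.genericFibre R).obj X).hom :=
    (Over.w e.hom).symm
  have hei : IsIso e.hom.left := inferInstance
  have hXp : IsProper ((Neron.genericFibre R).obj X).hom :=
    inferInstanceAs (IsProper (pullback.snd X.hom (Neron.genPt R)))
  have h4 : IsProper ((Neron.genericFibre R).obj N).hom := by
    rw [heq]
    infer_instance
  have h5 : GeometricallyIrreducible ((Neron.genericFibre R).obj N).hom := by
    rw [heq, MorphismProperty.cancel_left_of_respectsIso @GeometricallyIrreducible]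
    infer_instance
  obtain ⟨hG⟩ := hG
  let _ : GrpObj ((Neron.genericFibre R).obj N) := GrpObj.ofIso e.symm
  refine isNeronModelOf N (exists_section_smoothPart X hsec) (fun a b => haut (BIso N a b)) (haut
    { hom := (𝟙 ((Neron.genericFibre R).obj N))⁻¹
      inv := (𝟙 ((Neron.genericFibre R).obj N))⁻¹
      hom_inv_id := by rw [GrpObj.comp_inv, Category.comp_id, _root_.inv_inv]
      inv_hom_id := by rw [GrpObj.comp_inv, Category.comp_id, _root_.inv_inv] })

end K485.GrpExt
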