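import Groth.Agent.S2941
import Mathlib.RingTheory.RegularLocalRing.Polynomial

/-!
# Regularity of a hypersurface in a regular ring at a prime where the equation is not in the square
-/

set_option autoImplicit false
universe u
open IsLocalRing

namespace K485.HypersurfReg

/-- If `B` is regular, `f ∈ Q` and no multiple `s * f` with `s ∉ Q` lies in `Q ^ 2`, then `B / (f)` is regular at
`Q / (f)`. -/
theorem isRegularLocalRing_atPrime {B : Type u} [CommRing B] [IsRegularRing B] (f : B) (Q : Ideal B) [Q.IsPrime]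
    (hf : f ∈ Q) (h : ∀ s, s ∉ Q → s * f ∉ Q ^ 2) (P : Ideal (B ⧸ Ideal.span {f})) [P.IsPrime]
    (hP : P.comap (Ideal.Quotient.mk (Ideal.span {f})) = Q) :
    IsRegularLocalRing (Localization.AtPrime P) := by
  let BQ := Localization.AtPrime Q
  have hreg : IsRegularLocalRing BQ := inferInstance
  have hmax : Ideal.map (algebraMap B BQ) Q = maximalIdeal BQ := Localization.AtPrime.map_eq_maximalIdeal
  have hy : algebraMap B BQ f ∈ maximalIdeal BQ := by
    rw [← hmax]
    exact Ideal.mem_map_of_mem _ hf
  have hy' : algebraMap B BQ f ∉ maximalIdeal BQ * maximalIdeal BQ := by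
    intro hh
    rw [← pow_two, ← hmax, ← Ideal.map_pow, IsLocalization.mem_map_algebraMap_iff Q.primeCompl] at hh
    obtain ⟨⟨a, s⟩, hs⟩ := hh
    rw [← map_mul, IsLocalization.eq_iff_exists Q.primeCompl] at hs
    obtain ⟨t, ht⟩ := hs
    apply h ((t : B) * s) (Ideal.IsPrime.mul_notMem inferInstance t.2 s.2)
    have : (t : B) * s * f = t * a := by rw [← ht]; ring
    rw [this]
    exact Ideal.mul_mem_left _ _ a.2
  obtain ⟨d, hd⟩ : ∃ d : ℕ, ringKrullDim BQ = d :=
    ⟨_, (IsRegularLocalRing.spanFinrank_maximalIdeal (R := BQ)).symm⟩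
  have h1 := (Groth.Agent.S2941.quotient_regular BQ d hd _ hy hy').1
  have hIJ : Ideal.map (algebraMap B BQ) (Ideal.span {f}) = Ideal.span {algebraMap B BQ f} := by
    rw [Ideal.map_span, Set.image_singleton]
  rw [← hIJ] at h1
  have hloc : IsLocalization (Algebra.algebraMapSubmonoid (B ⧸ Ideal.span {f}) Q.primeCompl)
      (BQ ⧸ (Ideal.span {f}).map (algebraMap B BQ)) := inferInstance
  have hsub : Algebra.algebraMapSubmonoid (B ⧸ Ideal.span {f}) Q.primeCompl = P.primeCompl := by
    ext z
    constructor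
    · rintro ⟨b, hb, rfl⟩
      intro hz
      apply hb
      rw [SetLike.mem_coe, ← hP]
      exact hz
    · intro hz
      obtain ⟨b, rfl⟩ := Ideal.Quotient.mk_surjective z
      refine ⟨b, ?_, rfl⟩
      intro hb
      apply hz
      rw [SetLike.mem_coe, ← hP] at hb
      exact hb
  rw [hsub] at hloc
  exact IsRegularLocalRing.of_ringEquiv
    (IsLocalization.algEquiv P.primeCompl (BQ ⧸ (Ideal.span {f}).map (algebraMap B BQ))
      (Localization.AtPrime P)).toRingEquiv

end K485.HypersurfReg
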