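import Groth.Agent.Neron.K491.AsQuot
import Groth.Agent.Neron.K491.AsBuild
import Groth.Agent.Neron.K486.FlatDesc

/-!
# Néron models as algebraic spaces from local models at the points outside `U`
-/

set_option autoImplicit false
universe u

open CategoryTheory CategoryTheory.Limits AlgebraicGeometry

namespace K485.LocGlue

/-- A local Néron model near `s`: over an étale neighbourhood `g : S' ⟶ S` of `s` a smooth separated
`n : N ⟶ S'` with the extension property, whose restriction `P` to `U' = g⁻¹U` is the pullback of `𝒜`. -/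
structure Loc {S : Scheme.{u}} (U : S.Opens) (𝒜 : Over S) (s : S) : Prop where
  ex : ∃ (S' : Scheme.{u}) (g : S' ⟶ S) (_ : Etale g) (s' : S') (_ : g s' = s)
    (N : Scheme.{u}) (n : N ⟶ S') (_ : Smooth n) (_ : IsSeparated n)
    (U' : Scheme.{u}) (j : U' ⟶ S') (_ : IsOpenImmersion j) (_ : Set.range j = g ⁻¹' (U : Set S))
    (P : Scheme.{u}) (p₁ : P ⟶ N) (p₂ : P ⟶ U') (q : P ⟶ 𝒜.left),
    IsPullback p₁ p₂ n j ∧ IsPullback q p₂ 𝒜.hom (j ≫ g) ∧
    ∀ {Y : Scheme.{u}} (p : Y ⟶ S'), Smooth p → K486.NMP.ExtU (g ⁻¹ᵁ U) p n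

/-- The range of a base change. -/
theorem range_of_isPullback {P X Y B : Scheme.{u}} {c : P ⟶ X} {p : P ⟶ Y} {f : X ⟶ B} {v : Y ⟶ B}
    (h : IsPullback c p f v) : Set.range c = f ⁻¹' Set.range v := by
  rw [← Scheme.Pullback.range_fst, ← h.isoPullback_hom_fst]
  ext x
  constructor
  · rintro ⟨y, rfl⟩
    exact ⟨h.isoPullback.hom y, by rw [Scheme.Hom.comp_apply]⟩
  · rintro ⟨y, rfl⟩
    refine ⟨h.isoPullback.inv y, ?_⟩
    rw [← Scheme.Hom.comp_apply, ← Category.assoc, Iso.inv_hom_id, Category.id_comp]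

/-- Over the points of `U` the pullback of `𝒜` is a local model. -/
theorem Loc.of_mem {S : Scheme.{u}} (U : S.Opens) (𝒜 : Over S) [Smooth 𝒜.hom] [IsSeparated 𝒜.hom] (s : S)
    (hs : s ∈ U) : Loc U 𝒜 s := by
  refine ⟨U.toScheme, U.ι, inferInstance, ⟨s, hs⟩, rfl, pullback 𝒜.hom U.ι, pullback.snd _ _, inferInstance,
    inferInstance, U.toScheme, 𝟙 _, inferInstance, ?_, pullback 𝒜.hom U.ι, 𝟙 _, pullback.snd _ _, pullback.fst _ _,
    IsPullback.of_horiz_isIso ⟨by rw [Category.id_comp, Category.comp_id]⟩, ?_, ?_⟩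
  · ext x
    simp only [Set.mem_range, Set.mem_preimage]
    exact ⟨fun _ => x.2, fun _ => ⟨x, rfl⟩⟩
  · rw [Category.id_comp]
    exact IsPullback.of_hasPullback _ _
  · intro Y p _
    have htop : (p ⁻¹ᵁ (U.ι ⁻¹ᵁ U)).ι.opensRange = ⊤ := by
      rw [Scheme.Opens.opensRange_ι]
      ext x
      simp only [TopologicalSpace.Opens.coe_top, Set.mem_univ, iff_true]
      exact (p x).2
    have hiso : IsIso (p ⁻¹ᵁ (U.ι ⁻¹ᵁ U)).ι := isIso_of_isOpenImmersion_of_opensRange_eq_top _ htop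
    intro h hh
    refine ⟨inv (p ⁻¹ᵁ (U.ι ⁻¹ᵁ U)).ι ≫ h, ⟨?_, ?_⟩, ?_⟩
    · rw [Category.assoc, hh, IsIso.inv_hom_id_assoc]
    · rw [IsIso.hom_inv_id_assoc]
    · rintro g' ⟨-, h2⟩
      rw [← h2, IsIso.inv_hom_id_assoc]

/-- Coproducts are stable under base change. -/
theorem isColimit_of_isPullback {I : Type u} {B X : Scheme.{u}} (f : X ⟶ B) {B' P : I → Scheme.{u}}
    (v : ∀ i, B' i ⟶ B) [∀ i, IsOpenImmersion (v i)] (hcov : ∀ b : B, ∃ i, b ∈ Set.range (v i))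
    (hdisj : ∀ i k, i ≠ k → Disjoint (Set.range (v i)) (Set.range (v k)))
    (c : ∀ i, P i ⟶ X) (p : ∀ i, P i ⟶ B' i) (h : ∀ i, IsPullback (c i) (p i) f (v i)) :
    Nonempty (IsColimit (Cofan.mk X c)) := by
  have hc : ∀ i, IsOpenImmersion (c i) := fun i =>
    MorphismProperty.of_isPullback (P := @IsOpenImmersion) (h i).flip inferInstance
  have hr : ∀ i, Set.range (c i) = f ⁻¹' Set.range (v i) := fun i => range_of_isPullback (h i)
  refine nonempty_isColimit_cofanMk_of c ?_ ?_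
  · rw [eq_top_iff]
    intro x _
    obtain ⟨i, hi⟩ := hcov (f x)
    rw [TopologicalSpace.Opens.mem_iSup]
    refine ⟨i, ?_⟩
    change x ∈ Set.range (c i)
    rw [hr]
    exact hi
  · intro i k hik
    change Disjoint (c i).opensRange (c k).opensRange
    rw [← TopologicalSpace.Opens.coe_disjoint]
    change Disjoint (Set.range (c i)) (Set.range (c k))
    rw [hr, hr]
    exact (hdisj i k hik).preimage f

/-- Two schemes over a coproduct with isomorphic pieces. -/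
theorem exists_iso {I : Type u} {B X Y : Scheme.{u}} (f : X ⟶ B) (g : Y ⟶ B) {B' P : I → Scheme.{u}}
    (v : ∀ i, B' i ⟶ B) [∀ i, IsOpenImmersion (v i)] (hcov : ∀ b : B, ∃ i, b ∈ Set.range (v i))
    (hdisj : ∀ i k, i ≠ k → Disjoint (Set.range (v i)) (Set.range (v k)))
    (c : ∀ i, P i ⟶ X) (d : ∀ i, P i ⟶ Y) (p : ∀ i, P i ⟶ B' i) (h : ∀ i, IsPullback (c i) (p i) f (v i))
    (h' : ∀ i, IsPullback (d i) (p i) g (v i)) :
    ∃ e : X ≅ Y, e.hom ≫ g = f := by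
  obtain ⟨hc⟩ := isColimit_of_isPullback f v hcov hdisj c p h
  obtain ⟨hd⟩ := isColimit_of_isPullback g v hcov hdisj d p h'
  refine ⟨hc.coconePointUniqueUpToIso hd, ?_⟩
  refine Cofan.IsColimit.hom_ext hc _ _ fun i => ?_
  have h1 : c i ≫ (hc.coconePointUniqueUpToIso hd).hom = d i :=
    hc.comp_coconePointUniqueUpToIso_hom hd ⟨i⟩
  change c i ≫ (hc.coconePointUniqueUpToIso hd).hom ≫ g = c i ≫ f
  rw [reassoc_of% h1, (h i).w, (h' i).w]

theorem exists_algSpace {S : Scheme.{u}} [IsLocallyNoetherian S] (U : S.Opens)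
    (hU : CInt.IsSchematicallyDense U) (𝒜 : Over S) [Smooth 𝒜.hom] [IsSeparated 𝒜.hom]
    (H : ∀ s : S, s ∉ U → Loc U 𝒜 s) :
    ∃ (N : AlgSp.Sp S) (_ : AlgSp.IsAlgSpace N) (π : N ⟶ (AlgSp.yon S).obj (Over.mk (𝟙 S)))
      (e : N ⨯ (AlgSp.yon S).obj (Over.mk U.ι : Over S) ≅ (AlgSp.yon S).obj (Over.mk (Limits.pullback.snd 𝒜.hom U.ι ≫ U.ι) : Over S)),
      AlgSp.LocP @Smooth π ∧ AlgSp.IsSeparatedMor π ∧
      e.hom ≫ (AlgSp.yon S).map (Over.homMk (U := (Over.mk (Limits.pullback.snd 𝒜.hom U.ι ≫ U.ι) : Over S)) (V := (Over.mk U.ι : Over S)) (Limits.pullback.snd 𝒜.hom U.ι) rfl) = Limits.prod.snd ∧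
      ∀ (T : Over S), Smooth T.hom →
        (∀ φ₁ φ₂ : (AlgSp.yon S).obj T ⟶ N,
          Limits.prod.map φ₁ (𝟙 ((AlgSp.yon S).obj (Over.mk U.ι : Over S))) ≫ e.hom = Limits.prod.map φ₂ (𝟙 ((AlgSp.yon S).obj (Over.mk U.ι : Over S))) ≫ e.hom → φ₁ = φ₂) ∧
        (∀ g : (AlgSp.yon S).obj T ⨯ (AlgSp.yon S).obj (Over.mk U.ι : Over S) ⟶ (AlgSp.yon S).obj (Over.mk (Limits.pullback.snd 𝒜.hom U.ι ≫ U.ι) : Over S),
          g ≫ (AlgSp.yon S).map (Over.homMk (U := (Over.mk (Limits.pullback.snd 𝒜.hom U.ι ≫ U.ι) : Over S)) (V := (Over.mk U.ι : Over S)) (Limits.pullback.snd 𝒜.hom U.ι) rfl) = Limits.prod.snd →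
          ∃ φ : (AlgSp.yon S).obj T ⟶ N, Limits.prod.map φ (𝟙 ((AlgSp.yon S).obj (Over.mk U.ι : Over S))) ≫ e.hom = g) := by
  have H' : ∀ s : S, Loc U 𝒜 s := fun s => by
    by_cases hs : s ∈ U
    · exact Loc.of_mem U 𝒜 s hs
    · exact H s hs
  choose T g hget s' hs' N n hsm hsep U₁ j hj hjr P p₁ p₂ q hP₁ hP₂ hext using fun s => (H' s).ex
  let a : pullback 𝒜.hom U.ι ⟶ U.toScheme := pullback.snd 𝒜.hom U.ι
  let G : (∐ T : Scheme.{u}) ⟶ S := Sigma.desc g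
  have hιG : ∀ s, Sigma.ι T s ≫ G = g s := fun s => Sigma.ι_desc _ _
  have hGsm : Smooth G := IsZariskiLocalAtSource.sigmaDesc (P := @Smooth) fun s => by
    have := hget s
    infer_instance
  have hGsurj : Surjective G := ⟨fun s => ⟨Sigma.ι T s (s' s), by
    rw [← Scheme.Hom.comp_apply, hιG, hs']⟩⟩
  let ν : (∐ N : Scheme.{u}) ⟶ (∐ T : Scheme.{u}) := Sigma.desc fun s => n s ≫ Sigma.ι T s
  have hιν : ∀ s, Sigma.ι N s ≫ ν = n s ≫ Sigma.ι T s := fun s => Sigma.ι_desc _ _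
  have hνsm : Smooth ν := IsZariskiLocalAtSource.sigmaDesc (P := @Smooth) fun s => by
    have := hsm s
    infer_instance
  -- the pieces of `N`
  have hνr : ∀ s, ν ⁻¹' Set.range (Sigma.ι T s) = Set.range (Sigma.ι N s) := by
    intro s
    ext z
    constructor
    · intro hz
      obtain ⟨s₁, z₁, rfl⟩ := (sigmaOpenCover N).exists_eq z
      change Sigma.ι N s₁ z₁ ∈ _
      have hz' : ν (Sigma.ι N s₁ z₁) ∈ Set.range (Sigma.ι T s) := hz
      rw [← Scheme.Hom.comp_apply, hιν, Scheme.Hom.comp_apply] at hz'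
      obtain ⟨w, hw⟩ := hz'
      have h2 := (sigmaι_eq_iff T _ _ _ _).mp hw
      obtain rfl : s = s₁ := congrArg Sigma.fst h2
      exact ⟨z₁, rfl⟩
    · rintro ⟨w, rfl⟩
      change ν (Sigma.ι N s w) ∈ Set.range (Sigma.ι T s)
      rw [← Scheme.Hom.comp_apply, hιν]
      exact ⟨n s w, by rw [Scheme.Hom.comp_apply]⟩
  have hpb : ∀ s, IsPullback (Sigma.ι N s) (n s) ν (Sigma.ι T s) := fun s =>
    (IsOpenImmersion.isPullback (n s) (Sigma.ι N s) (Sigma.ι T s) ν (hιν s) (by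
      ext z
      exact Set.ext_iff.mp (hνr s) z)).flip
  have hνsep : IsSeparated ν := by
    refine IsZariskiLocalAtTarget.of_openCover (P := @IsSeparated) (sigmaOpenCover T) fun s => ?_
    have h1 := hpb s
    have h2 := hsep s
    change IsSeparated (pullback.snd ν (Sigma.ι T s))
    rw [← h1.isoPullback_inv_snd]
    infer_instance
  -- the pieces of `U'`
  let u : ∀ s, U₁ s ⟶ (G ⁻¹ᵁ U).toScheme := fun s =>
    haveI := hj s
    IsOpenImmersion.lift (G ⁻¹ᵁ U).ι (j s ≫ Sigma.ι T s) (by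
      rintro _ ⟨w, rfl⟩
      rw [Scheme.Opens.range_ι]
      change G ((j s ≫ Sigma.ι T s) w) ∈ U
      rw [← Scheme.Hom.comp_apply, Category.assoc, hιG, Scheme.Hom.comp_apply]
      have h1 : j s w ∈ g s ⁻¹' (U : Set S) := by
        rw [← hjr]
        exact ⟨w, rfl⟩
      exact h1)
  have hu : ∀ s, u s ≫ (G ⁻¹ᵁ U).ι = j s ≫ Sigma.ι T s := fun s => IsOpenImmersion.lift_fac _ _ _
  have hres : ∀ s, u s ≫ (G ∣_ U) ≫ U.ι = j s ≫ g s := fun s => by
    rw [morphismRestrict_ι, reassoc_of% hu, hιG]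
  have huo : ∀ s, IsOpenImmersion (u s) := fun s => by
    have h1 := hj s
    have h2 : IsOpenImmersion (u s ≫ (G ⁻¹ᵁ U).ι) := by
      rw [hu]
      infer_instance
    exact IsOpenImmersion.of_comp (u s) (G ⁻¹ᵁ U).ι
  have hucov : ∀ b : (G ⁻¹ᵁ U).toScheme, ∃ s, b ∈ Set.range (u s) := by
    intro b
    obtain ⟨s, z, hz⟩ := (sigmaOpenCover T).exists_eq ((G ⁻¹ᵁ U).ι b)
    change Sigma.ι T s z = (G ⁻¹ᵁ U).ι b at hz
    have hz1 : z ∈ Set.range (j s) := by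
      rw [hjr]
      change g s z ∈ U
      rw [← hιG, Scheme.Hom.comp_apply, hz]
      exact b.2
    obtain ⟨w, rfl⟩ := hz1
    refine ⟨s, w, (G ⁻¹ᵁ U).ι.injective ?_⟩
    rw [← Scheme.Hom.comp_apply, hu, Scheme.Hom.comp_apply, hz]
  have hudisj : ∀ s s₁, s ≠ s₁ → Disjoint (Set.range (u s)) (Set.range (u s₁)) := by
    intro s s₁ hss
    rw [Set.disjoint_iff_forall_ne]
    rintro _ ⟨w, rfl⟩ _ ⟨w₁, rfl⟩ hw
    have h1 := congrArg (G ⁻¹ᵁ U).ι hw
    rw [← Scheme.Hom.comp_apply, ← Scheme.Hom.comp_apply, hu, hu, Scheme.Hom.comp_apply, Scheme.Hom.comp_apply] at h1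
    exact hss (congrArg Sigma.fst ((sigmaι_eq_iff T _ _ _ _).mp h1))
  -- the two families of pullback squares
  have hN0 : ∀ s, IsPullback (p₁ s ≫ Sigma.ι N s) (p₂ s) ν (u s ≫ (G ⁻¹ᵁ U).ι) := fun s => by
    rw [hu]
    exact (hP₁ s).paste_horiz (hpb s)
  have hN1 : ∀ s, ∃ c : P s ⟶ pullback ν (G ⁻¹ᵁ U).ι,
      IsPullback c (p₂ s) (pullback.snd ν (G ⁻¹ᵁ U).ι) (u s) := fun s => by
    refine ⟨pullback.lift (p₁ s ≫ Sigma.ι N s) (p₂ s ≫ u s) (by
      rw [(hN0 s).w, Category.assoc]), ?_⟩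
    refine IsPullback.of_right (h₁₂ := pullback.fst ν (G ⁻¹ᵁ U).ι) (v₁₃ := ν) (h₂₂ := (G ⁻¹ᵁ U).ι) ?_
      (pullback.lift_snd _ _ _) (IsPullback.of_hasPullback _ _)
    rw [pullback.lift_fst]
    exact hN0 s
  have hA1 : ∀ s, ∃ c : P s ⟶ pullback a (G ∣_ U),
      IsPullback c (p₂ s) (pullback.snd a (G ∣_ U)) (u s) := fun s => by
    have h0 : IsPullback (q s) (p₂ s) 𝒜.hom ((u s ≫ (G ∣_ U)) ≫ U.ι) := by
      rw [Category.assoc, hres]
      exact hP₂ s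
    let c₀ : P s ⟶ pullback 𝒜.hom U.ι := pullback.lift (q s) (p₂ s ≫ u s ≫ (G ∣_ U)) (by
      rw [h0.w]
      simp only [Category.assoc])
    have h1 : IsPullback c₀ (p₂ s) a (u s ≫ (G ∣_ U)) := by
      refine IsPullback.of_right (h₁₂ := pullback.fst 𝒜.hom U.ι) (v₁₃ := 𝒜.hom) (h₂₂ := U.ι) ?_
        (pullback.lift_snd _ _ _) (IsPullback.of_hasPullback _ _)
      rw [pullback.lift_fst]
      exact h0
    refine ⟨pullback.lift c₀ (p₂ s ≫ u s) (by rw [h1.w, Category.assoc]), ?_⟩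
    refine IsPullback.of_right (h₁₂ := pullback.fst a (G ∣_ U)) (v₁₃ := a) (h₂₂ := (G ∣_ U)) ?_
      (pullback.lift_snd _ _ _) (IsPullback.of_hasPullback _ _)
    rw [pullback.lift_fst]
    exact h1
  choose c hc using hN1
  choose d hd using hA1
  obtain ⟨e', he'⟩ := exists_iso (pullback.snd ν (G ⁻¹ᵁ U).ι) (pullback.snd a (G ∣_ U)) u hucov hudisj c d p₂ hc hd
  -- the mapping property
  have hfac : ∀ (s : S) {Y : Scheme.{u}} (p : Y ⟶ T s), Smooth p → K486.NMP.ExtU (G ⁻¹ᵁ U) (p ≫ Sigma.ι T s) ν := by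
    intro s Y p hp
    rw [← K486.NMP.extU_iff_of_isPullback (G ⁻¹ᵁ U) (hpb s)]
    have h1 := hext s p hp
    have h2 : (Sigma.ι T s ⁻¹ᵁ (G ⁻¹ᵁ U)) = g s ⁻¹ᵁ U := by
      rw [← hιG]
      rfl
    rw [h2]
    exact h1
  have hNMP : ∀ Y' : Over (∐ T : Scheme.{u}), Smooth Y'.hom →
      Function.Bijective (fun f : Y' ⟶ Over.mk ν => (Over.pullback (G ⁻¹ᵁ U).ι).map f) := by
    intro Y' hY'
    rw [K486.NMP.bijective_iff_extU]
    have hcond : ∀ s, pullback.fst Y'.hom (Sigma.ι T s) ≫ Y'.hom = pullback.snd Y'.hom (Sigma.ι T s) ≫ Sigma.ι T s :=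
      fun s => pullback.condition
    refine K486.NMP.extU_of_cover (G ⁻¹ᵁ U) Y'.hom ν ((sigmaOpenCover T).pullback₁ Y'.hom) (fun s => ?_) (fun s s₁ => ?_)
    · change K486.NMP.ExtU (G ⁻¹ᵁ U) (pullback.fst Y'.hom (Sigma.ι T s) ≫ Y'.hom) ν
      rw [hcond]
      exact hfac s _ inferInstance
    · change K486.NMP.UniqU (G ⁻¹ᵁ U) (pullback.fst (pullback.fst Y'.hom (Sigma.ι T s)) (pullback.fst Y'.hom (Sigma.ι T s₁)) ≫
        pullback.fst Y'.hom (Sigma.ι T s) ≫ Y'.hom) ν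
      rw [hcond, ← Category.assoc]
      exact ((K486.NMP.extU_iff _ _ _).1 (hfac s _ inferInstance)).1
  have hsm' : Smooth (Over.mk ν).hom := hνsm
  have hsep' : IsSeparated (Over.mk ν).hom := hνsep
  let D := K491.AsBuild.data G U a (Over.mk ν) e' he' hU hNMP
  refine ⟨D.N, D.isAlgSpace, D.π, D.e, D.locP_smooth_π, D.isSeparatedMor_π, ?_, fun T hT => ⟨?_, ?_⟩⟩
  · exact D.yon_sub _ _
  · intro φ₁ φ₂ h
    exact D.uniq_of_smooth hT φ₁ φ₂ h
  · intro γ _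
    exact D.exists_of_smooth hT γ

end K485.LocGlue
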