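import Mathlib.AlgebraicGeometry.Pullbacks
import Mathlib.CategoryTheory.Comma.Over.Pullback

/-!
# The mapping property of Néron models in terms of scheme morphisms

`ResInj n y a`, `ResSurj n y a`: uniqueness and existence of extensions along `a : P ⟶ Y` of morphisms to `n : N ⟶ S`
over `y : Y ⟶ S`. For `P = Y ×_S T` these are injectivity and surjectivity of the base change to `T` on
`Hom_S(Y, N)` (`injective_pullback_map_iff`, `surjective_pullback_map_iff`, `bijective_pullback_map_iff`).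
They are compatible with base change of `N` (`resInj_baseChange_iff`, `resSurj_baseChange_iff`), with isomorphisms and
are local on `Y`.
-/

set_option autoImplicit false
universe u v
open CategoryTheory CategoryTheory.Limits

namespace K485.MapProp

section category

variable {C : Type u} [Category.{v} C] {S S' T T' Y N N' P P' : C}

/-- uniqueness of extensions along `a` -/
def ResInj (n : N ⟶ S) (y : Y ⟶ S) (a : P ⟶ Y) : Prop :=
  ∀ f₁ f₂ : Y ⟶ N, f₁ ≫ n = y → f₂ ≫ n = y → a ≫ f₁ = a ≫ f₂ → f₁ = f₂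

/-- existence of extensions along `a` -/
def ResSurj (n : N ⟶ S) (y : Y ⟶ S) (a : P ⟶ Y) : Prop :=
  ∀ h : P ⟶ N, h ≫ n = a ≫ y → ∃ f : Y ⟶ N, f ≫ n = y ∧ a ≫ f = h

theorem resInj_congr {n : N ⟶ S} {y : Y ⟶ S} {a : P ⟶ Y} {a' : P' ⟶ Y} (e : P' ≅ P) (h : e.hom ≫ a = a') :
    ResInj n y a' ↔ ResInj n y a := by
  subst h
  constructor
  · intro H f₁ f₂ h₁ h₂ h
    exact H f₁ f₂ h₁ h₂ (by rw [Category.assoc, Category.assoc, h])
  · intro H f₁ f₂ h₁ h₂ h
    refine H f₁ f₂ h₁ h₂ ?_
    rwa [Category.assoc, Category.assoc, cancel_epi] at h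

theorem resSurj_congr {n : N ⟶ S} {y : Y ⟶ S} {a : P ⟶ Y} {a' : P' ⟶ Y} (e : P' ≅ P) (h : e.hom ≫ a = a') :
    ResSurj n y a' ↔ ResSurj n y a := by
  subst h
  constructor
  · intro H h hh
    obtain ⟨f, hf, hf'⟩ := H (e.hom ≫ h) (by rw [Category.assoc, hh, Category.assoc])
    refine ⟨f, hf, ?_⟩
    rwa [Category.assoc, cancel_epi] at hf'
  · intro H h hh
    obtain ⟨f, hf, hf'⟩ := H (e.inv ≫ h) (by
      rw [Category.assoc, hh, Category.assoc, e.inv_hom_id_assoc])
    exact ⟨f, hf, by rw [Category.assoc, hf', e.hom_inv_id_assoc]⟩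

/-- Transport along an isomorphism of the source. -/
theorem resInj_of_iso {Y' : C} {n : N ⟶ S} {y : Y ⟶ S} {y' : Y' ⟶ S} {a : P ⟶ Y} {a' : P ⟶ Y'} (e : Y' ≅ Y)
    (hy : e.hom ≫ y = y') (ha : a' ≫ e.hom = a) : ResInj n y' a' ↔ ResInj n y a := by
  subst hy ha
  constructor
  · intro H f₁ f₂ h₁ h₂ h
    rw [← cancel_epi e.hom]
    exact H _ _ (by rw [Category.assoc, h₁]) (by rw [Category.assoc, h₂]) (by simpa only [Category.assoc] using h)
  · intro H f₁ f₂ h₁ h₂ h
    rw [← cancel_epi e.inv]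
    exact H _ _ (by rw [Category.assoc, h₁, e.inv_hom_id_assoc]) (by rw [Category.assoc, h₂, e.inv_hom_id_assoc])
      (by simpa only [Category.assoc, e.hom_inv_id_assoc] using h)

theorem resSurj_of_iso {Y' : C} {n : N ⟶ S} {y : Y ⟶ S} {y' : Y' ⟶ S} {a : P ⟶ Y} {a' : P ⟶ Y'} (e : Y' ≅ Y)
    (hy : e.hom ≫ y = y') (ha : a' ≫ e.hom = a) : ResSurj n y' a' ↔ ResSurj n y a := by
  subst hy ha
  constructor
  · intro H h hh
    obtain ⟨f, hf, hf'⟩ := H h (by rw [hh, Category.assoc])
    exact ⟨e.inv ≫ f, by rw [Category.assoc, hf, e.inv_hom_id_assoc],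
      by rw [Category.assoc, e.hom_inv_id_assoc, hf']⟩
  · intro H h hh
    obtain ⟨f, hf, hf'⟩ := H h (by rw [hh, Category.assoc])
    exact ⟨e.hom ≫ f, by rw [Category.assoc, hf], by rw [← hf', Category.assoc]⟩

/-- Base change of the target. -/
theorem resInj_baseChange_iff {n : N ⟶ S} {n' : N' ⟶ S'} {p : N' ⟶ N} {g : S' ⟶ S} (sq : IsPullback p n' n g)
    (y : Y ⟶ S') (a : P ⟶ Y) : ResInj n' y a ↔ ResInj n (y ≫ g) a := by
  constructor
  · intro H f₁ f₂ h₁ h₂ h
    have := H (sq.lift f₁ y h₁) (sq.lift f₂ y h₂) (sq.lift_snd _ _ _) (sq.lift_snd _ _ _) (by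
      apply sq.hom_ext
      · rw [Category.assoc, Category.assoc, sq.lift_fst, sq.lift_fst, h]
      · rw [Category.assoc, Category.assoc, sq.lift_snd, sq.lift_snd])
    rw [← sq.lift_fst f₁ y h₁, this, sq.lift_fst]
  · intro H f₁ f₂ h₁ h₂ h
    apply sq.hom_ext
    · refine H _ _ ?_ ?_ ?_
      · rw [Category.assoc, sq.w, ← Category.assoc, h₁]
      · rw [Category.assoc, sq.w, ← Category.assoc, h₂]
      · rw [← Category.assoc, h, Category.assoc]
    · rw [h₁, h₂]

theorem resSurj_baseChange_iff {n : N ⟶ S} {n' : N' ⟶ S'} {p : N' ⟶ N} {g : S' ⟶ S} (sq : IsPullback p n' n g)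
    (y : Y ⟶ S') (a : P ⟶ Y) : ResSurj n' y a ↔ ResSurj n (y ≫ g) a := by
  constructor
  · intro H h hh
    obtain ⟨f, hf, hf'⟩ := H (sq.lift h (a ≫ y) (by rw [hh, Category.assoc])) (sq.lift_snd _ _ _)
    refine ⟨f ≫ p, ?_, ?_⟩
    · rw [Category.assoc, sq.w, ← Category.assoc, hf]
    · rw [← Category.assoc, hf', sq.lift_fst]
  · intro H h hh
    obtain ⟨f, hf, hf'⟩ := H (h ≫ p) (by rw [Category.assoc, sq.w, ← Category.assoc, hh, Category.assoc])
    refine ⟨sq.lift f y hf, sq.lift_snd _ _ _, ?_⟩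
    apply sq.hom_ext
    · rw [Category.assoc, sq.lift_fst, hf']
    · rw [Category.assoc, sq.lift_snd, hh]

theorem map_left_fst [HasPullbacks C] (j : T ⟶ S) {Y N : Over S} (f : Y ⟶ N) :
    ((Over.pullback j).map f).left ≫ pullback.fst N.hom j = pullback.fst Y.hom j ≫ f.left :=
  pullback.lift_fst _ _ _

theorem map_left_snd [HasPullbacks C] (j : T ⟶ S) {Y N : Over S} (f : Y ⟶ N) :
    ((Over.pullback j).map f).left ≫ pullback.snd N.hom j = pullback.snd Y.hom j :=
  pullback.lift_snd _ _ _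

/-- Injectivity of base change to `T` on `Hom_S(Y, N)`. -/
theorem injective_pullback_map_iff [HasPullbacks C] (j : T ⟶ S) (Y N : Over S) :
    Function.Injective (fun f : Y ⟶ N => (Over.pullback j).map f) ↔
      ResInj N.hom Y.hom (pullback.fst Y.hom j) := by
  constructor
  · intro H f₁ f₂ h₁ h₂ h
    have : (Over.homMk f₁ h₁ : Y ⟶ N) = Over.homMk f₂ h₂ := by
      apply H
      apply Over.OverMorphism.ext
      apply pullback.hom_ext
      · exact (map_left_fst j (Over.homMk f₁ h₁ : Y ⟶ N)).trans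
          (h.trans (map_left_fst j (Over.homMk f₂ h₂ : Y ⟶ N)).symm)
      · exact (map_left_snd j (Over.homMk f₁ h₁ : Y ⟶ N)).trans
          (map_left_snd j (Over.homMk f₂ h₂ : Y ⟶ N)).symm
    exact congrArg (fun f => f.left) this
  · intro H f₁ f₂ h
    apply Over.OverMorphism.ext
    refine H _ _ (Over.w f₁) (Over.w f₂) ?_
    have := congrArg (fun f => f.left ≫ pullback.fst N.hom j) h
    exact (map_left_fst j f₁).symm.trans (this.trans (map_left_fst j f₂))

theorem surjective_pullback_map_iff [HasPullbacks C] (j : T ⟶ S) (Y N : Over S) :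
    Function.Surjective (fun f : Y ⟶ N => (Over.pullback j).map f) ↔
      ResSurj N.hom Y.hom (pullback.fst Y.hom j) := by
  constructor
  · intro H h hh
    obtain ⟨f, hf⟩ := H (Over.homMk (pullback.lift h (pullback.snd Y.hom j) (by rw [hh, pullback.condition]))
      (pullback.lift_snd _ _ _))
    refine ⟨f.left, Over.w f, ?_⟩
    have := congrArg (fun f => f.left ≫ pullback.fst N.hom j) hf
    exact (map_left_fst j f).symm.trans (this.trans (pullback.lift_fst _ _ _))
  · intro H k
    have hk : k.left ≫ pullback.snd N.hom j = pullback.snd Y.hom j := Over.w k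
    obtain ⟨f, hf, hf'⟩ := H (k.left ≫ pullback.fst N.hom j) (by
      rw [Category.assoc, pullback.condition, ← Category.assoc, hk, pullback.condition])
    refine ⟨Over.homMk f hf, ?_⟩
    apply Over.OverMorphism.ext
    apply pullback.hom_ext
    · exact (map_left_fst j (Over.homMk f hf : Y ⟶ N)).trans hf'
    · exact (map_left_snd j (Over.homMk f hf : Y ⟶ N)).trans hk.symm

theorem bijective_pullback_map_iff [HasPullbacks C] (j : T ⟶ S) (Y N : Over S) :
    Function.Bijective (fun f : Y ⟶ N => (Over.pullback j).map f) ↔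
      ResInj N.hom Y.hom (pullback.fst Y.hom j) ∧ ResSurj N.hom Y.hom (pullback.fst Y.hom j) :=
  and_congr (injective_pullback_map_iff j Y N) (surjective_pullback_map_iff j Y N)

/-- `Y ×_{S'} T' = Y ×_S T` for `T' = S' ×_S T`. -/
theorem exists_iso_pullback_fst [HasPullbacks C] {j : T ⟶ S} {g : S' ⟶ S} {j' : T' ⟶ S'} {g' : T' ⟶ T}
    (sq : IsPullback g' j' j g) (y : Y ⟶ S') :
    ∃ e : pullback (y ≫ g) j ≅ pullback y j', e.hom ≫ pullback.fst y j' = pullback.fst (y ≫ g) j := by
  have h1 : IsPullback (pullback.fst y j') (pullback.snd y j') y j' := IsPullback.of_hasPullback _ _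
  have h2 : IsPullback (pullback.fst y j') (pullback.snd y j' ≫ g') (y ≫ g) j := by
    have := h1.paste_vert sq.flip
    exact this.flip.flip
  exact ⟨(IsPullback.of_hasPullback (y ≫ g) j).isoIsPullback _ _ h2,
    IsPullback.isoIsPullback_hom_fst _ _ _ _⟩

/-- **Base change**: uniqueness of extensions for `N` at `Y' ⟶ S' ⟶ S` gives it for `N ×_S S'` at `Y' ⟶ S'`. -/
theorem injective_baseChange_iff [HasPullbacks C] {j : T ⟶ S} {g : S' ⟶ S} {j' : T' ⟶ S'} {g' : T' ⟶ T}
    (sq : IsPullback g' j' j g) (Y : Over S') (N : Over S) :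
    Function.Injective (fun f : Y ⟶ (Over.pullback g).obj N => (Over.pullback j').map f) ↔
      Function.Injective (fun f : Over.mk (Y.hom ≫ g) ⟶ N => (Over.pullback j).map f) := by
  rw [injective_pullback_map_iff, injective_pullback_map_iff]
  have h0 : IsPullback (pullback.fst N.hom g) ((Over.pullback g).obj N).hom N.hom g :=
    IsPullback.of_hasPullback _ _
  rw [resInj_baseChange_iff h0]
  obtain ⟨e, he⟩ := exists_iso_pullback_fst sq Y.hom
  exact (resInj_congr e he).symm

theorem surjective_baseChange_iff [HasPullbacks C] {j : T ⟶ S} {g : S' ⟶ S} {j' : T' ⟶ S'} {g' : T' ⟶ T}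
    (sq : IsPullback g' j' j g) (Y : Over S') (N : Over S) :
    Function.Surjective (fun f : Y ⟶ (Over.pullback g).obj N => (Over.pullback j').map f) ↔
      Function.Surjective (fun f : Over.mk (Y.hom ≫ g) ⟶ N => (Over.pullback j).map f) := by
  rw [surjective_pullback_map_iff, surjective_pullback_map_iff]
  have h0 : IsPullback (pullback.fst N.hom g) ((Over.pullback g).obj N).hom N.hom g :=
    IsPullback.of_hasPullback _ _
  rw [resSurj_baseChange_iff h0]
  obtain ⟨e, he⟩ := exists_iso_pullback_fst sq Y.hom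
  exact (resSurj_congr e he).symm

theorem bijective_baseChange_iff [HasPullbacks C] {j : T ⟶ S} {g : S' ⟶ S} {j' : T' ⟶ S'} {g' : T' ⟶ T}
    (sq : IsPullback g' j' j g) (Y : Over S') (N : Over S) :
    Function.Bijective (fun f : Y ⟶ (Over.pullback g).obj N => (Over.pullback j').map f) ↔
      Function.Bijective (fun f : Over.mk (Y.hom ≫ g) ⟶ N => (Over.pullback j).map f) :=
  and_congr (injective_baseChange_iff sq Y N) (surjective_baseChange_iff sq Y N)

end category

end K485.MapProp
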