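import Groth.Prelude.Def_Neron
import Groth.Agent.Neron.K485.MapProp
import Mathlib.RingTheory.Algebraic.Integral

/-!
# Base change of the Néron mapping property along integral extensions of the base ring
-/

set_option autoImplicit false
universe u
open CategoryTheory CategoryTheory.Limits AlgebraicGeometry

namespace K485.NeronBC

attribute [local instance] FractionRing.liftAlgebra in
/-- The generic fibre of an integral extension of domains. -/
theorem exists_isPullback_genPt (R R' : Type u) [CommRing R] [IsDomain R] [CommRing R'] [IsDomain R']
    [Algebra R R'] [FaithfulSMul R R'] [Algebra.IsAlgebraic R R'] :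
    ∃ g' : Spec (CommRingCat.of (FractionRing R')) ⟶ Spec (CommRingCat.of (FractionRing R)),
      IsPullback g' (Neron.genPt R') (Neron.genPt R) (Spec.map (CommRingCat.ofHom (algebraMap R R'))) := by
  refine ⟨Spec.map (CommRingCat.ofHom (algebraMap (FractionRing R) (FractionRing R'))), ?_⟩
  apply isPullback_SpecMap_of_isPushout
  have : Algebra.IsPushout R (FractionRing R) R' (FractionRing R') := inferInstance
  exact CommRingCat.isPushout_of_isPushout R (FractionRing R) R' (FractionRing R')

end K485.NeronBC
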